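/-
Recognition of PSL(2,p): a simple group with `p + 1` Sylow `p`-subgroups of order `p`.
-/
import Cfsg.Agent.Lib.Small.PSL2Prime

set_option autoImplicit false

namespace Cfsg.Agent.Lib.Small.PSL2Rec

open OnePoint Cfsg.Agent.Lib.Small.Basic Cfsg.Agent.Lib.Small.Sieve
  Cfsg.Agent.Lib.Small.PSL2Check Cfsg.Agent.Lib.Small.PSL2Prime

universe u v w

/-- Functoriality of `SL(2, -)` for ring isomorphisms. -/
def slCongr {K : Type v} {L : Type w} [Field K] [Field L] (e : K ≃+* L) :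
    Matrix.SpecialLinearGroup (Fin 2) K ≃* Matrix.SpecialLinearGroup (Fin 2) L :=
  MonoidHom.toMulEquiv (Matrix.SpecialLinearGroup.map (e : K →+* L))
    (Matrix.SpecialLinearGroup.map (e.symm : L →+* K))
    (by
      ext A i j
      simp)
    (by
      ext A i j
      simp)

/-- Functoriality of `PSL(2, -)` for ring isomorphisms. -/
theorem nonempty_pslCongr {K : Type v} {L : Type w} [Field K] [Field L] (e : K ≃+* L) :
    Nonempty (Matrix.ProjectiveSpecialLinearGroup (Fin 2) K ≃*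
      Matrix.ProjectiveSpecialLinearGroup (Fin 2) L) := by
  refine ⟨QuotientGroup.congr _ _ (slCongr e) ?_⟩
  ext x
  constructor
  · rintro ⟨y, hy, rfl⟩
    rw [Subgroup.mem_center_iff]
    intro z
    have h1 := Subgroup.mem_center_iff.mp hy ((slCongr e).symm z)
    have h2 := congrArg (slCongr e) h1
    simpa using h2
  · intro h
    refine ⟨(slCongr e).symm x, ?_, by simp⟩
    rw [SetLike.mem_coe, Subgroup.mem_center_iff]
    intro y
    apply (slCongr e).injective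
    have h1 := Subgroup.mem_center_iff.mp h (slCongr e y)
    simpa using h1

/-- Uniqueness of the field in `PSL(2,F)`. -/
theorem nonempty_pslCongr_of_card {K : Type v} {L : Type w} [Field K] [Field L] [Fintype K] [Fintype L]
    (h : Fintype.card K = Fintype.card L) :
    Nonempty (Matrix.ProjectiveSpecialLinearGroup (Fin 2) K ≃*
      Matrix.ProjectiveSpecialLinearGroup (Fin 2) L) :=
  nonempty_pslCongr (FiniteField.ringEquivOfCardEq h)

/-- Addition modulo `p`. -/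
def addP (p a b : ℕ) : ℕ := (a + b) % p
/-- Multiplication modulo `p`. -/
def mulP (p a b : ℕ) : ℕ := (a * b) % p
/-- Negation modulo `p`. -/
def negP (p a : ℕ) : ℕ := (p - a) % p

theorem isCode_zmod (p : ℕ) [hp : Fact p.Prime] :
    IsCode (ZMod.val : ZMod p → ℕ) (addP p) (mulP p) (negP p) where
  inj := ZMod.val_injective p
  add a b := ZMod.val_add a b
  mul a b := ZMod.val_mul a b
  neg a := ZMod.neg_val' a
  zero := ZMod.val_zero
  one := by
    have : Fact (1 < p) := ⟨hp.out.one_lt⟩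
    exact ZMod.val_one p

/-- **Recognition of `PSL(2,p)`**. -/
theorem nonempty_mulEquiv_PSL_zmod {G : Type u} [Group G] [Finite G] [IsSimpleGroup G]
    (hG : ¬ IsMulCommutative G) (p r : ℕ) [hp : Fact p.Prime]
    (hcard : Nat.card G = p * (p + 1) * r) (hrp : ∀ P : Sylow p G, Nat.card P = p)
    (hn : Nat.card (Sylow p G) = p + 1)
    {a₀ r₁ r₂ e : ZMod p} {L : ℕ} {nz sq A1s : List ℕ}
    (hcheck : checkAll (addP p) (mulP p) (negP p) a₀.val r₁.val r₂.val e.val L nz sq A1s = true)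
    (hnz : ∀ i : ZMod p, i ≠ 0 → i.val ∈ nz) (hnz0 : ∀ n ∈ nz, ∃ i : ZMod p, i ≠ 0 ∧ i.val = n)
    (hsq : ∀ s : ZMod p, s ≠ 0 → (s ^ 2).val ∈ sq)
    (hkeys : ∀ n ∈ nz, n ∈ keysN (mulP p) a₀.val L r₁.val ∨ n ∈ keysN (mulP p) a₀.val L r₂.val)
    (ha₀ : a₀ ≠ 0) (hr₁ : r₁ ≠ 0) (hr₂ : r₂ ≠ 0) (he0 : e ≠ 0) (he1 : e ≠ 1)
    (hpow : ∀ a : ZMod p, a.val ∈ sq → ∃ k : ℕ, a = a₀ ^ k)
    (ha₀r : a₀ ^ r = 1)
    (hsqr : ∀ A : ZMod p, A ≠ 0 → A ^ r = 1 → ∃ s : ZMod p, s ≠ 0 ∧ A = s ^ 2)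
    (hA : ∀ (ρ : G →* Equiv.Perm (OnePoint (ZMod p))) (t h : G) (a₁ : ZMod p), Function.Injective ρ →
      ρ t ∞ = ((0 : ZMod p) : OnePoint (ZMod p)) → ρ t ((0 : ZMod p) : OnePoint (ZMod p)) = ∞ →
      ρ h ∞ = ∞ → (∀ i : ZMod p, ρ h i = ((a₀ * i : ZMod p) : OnePoint (ZMod p))) →
      ρ (t * h * t⁻¹) ∞ = ∞ →
      (∀ i : ZMod p, ρ (t * h * t⁻¹) i = ((a₁ * i : ZMod p) : OnePoint (ZMod p))) →
      a₁.val ∈ sq → a₁.val ∈ A1s) :
    Nonempty (G ≃* Matrix.ProjectiveSpecialLinearGroup (Fin 2) (ZMod p)) := by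
  obtain ⟨ρ, hinj, hτ, htrans, hstab, hsurj⟩ := exists_action (p := p) hG r hcard hrp hn
  refine recognition (isCode_zmod p) hcheck hnz hnz0 hsq hkeys ha₀ hr₁ hr₂ he0 he1 hpow ρ hinj hτ
    ?_ ?_ htrans (fun t h a₁ h1 h2 h3 h4 h5 h6 h7 => hA ρ t h a₁ hinj h1 h2 h3 h4 h5 h6 h7)
  · obtain ⟨g, hg1, hg2⟩ := hsurj a₀ 0 ha₀ ha₀r
    exact ⟨g, hg1, fun i => by rw [hg2, add_zero]⟩
  · intro g hg
    obtain ⟨A, b, hA0, hAr, h⟩ := hstab g hg
    obtain ⟨s, hs, rfl⟩ := hsqr A hA0 hAr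
    exact ⟨s, b, hs, h⟩

end Cfsg.Agent.Lib.Small.PSL2Rec
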