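/-
Simple groups of order 168: recognition of PSL(2,7).
-/
import Cfsg.Agent.Lib.Small.PSL2Rec

set_option autoImplicit false

namespace Cfsg.Agent.Lib.Small.PSL2P7

open OnePoint Cfsg.Agent.Lib.Small.Basic Cfsg.Agent.Lib.Small.Sieve Cfsg.Agent.Lib.Small.PSL2Check
  Cfsg.Agent.Lib.Small.PSL2Prime Cfsg.Agent.Lib.Small.PSL2Rec

universe u v

instance fact_prime : Fact (Nat.Prime 7) := ⟨by norm_num⟩
instance fact_prime3 : Fact (Nat.Prime 3) := ⟨by norm_num⟩

/-- A subgroup of order `p ^ k`, `p ^ k` the full power of `p` in the order of the group, is Sylow. -/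
theorem exists_sylow_of_card {G : Type u} [Group G] [Finite G] {p k m : ℕ} [hp : Fact p.Prime]
    (hN : Nat.card G = p ^ k * m)
    (hm : ¬ p ∣ m) (H : Subgroup G) (hH : Nat.card H = p ^ k) :
    ∃ P : Sylow p G, (P : Subgroup G) = H := by
  refine ⟨Sylow.ofCard H ?_, Sylow.coe_ofCard H _⟩
  rw [hH, hN]
  have hm0 : m ≠ 0 := by
    rintro rfl
    exact hm (dvd_zero p)
  have hpk : p ^ k ≠ 0 := pow_ne_zero _ hp.out.ne_zero
  rw [Nat.factorization_mul hpk hm0, hp.out.factorization_pow]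
  simp [Nat.factorization_eq_zero_of_not_dvd hm]

/-- Extensionality for permutations of the projective line. -/
theorem perm_ext {K : Type*} {f g : Equiv.Perm (OnePoint K)} (h1 : f ∞ = g ∞)
    (h2 : ∀ i : K, f (i : OnePoint K) = g (i : OnePoint K)) : f = g := by
  ext x
  induction x using OnePoint.rec with
  | infty => rw [h1]
  | coe i => rw [h2]

section

variable {G : Type u} [Group G] [Finite G] [IsSimpleGroup G]

/-- A swap commuting with the torus is impossible. -/
theorem false_of_commute (hG : ¬ IsMulCommutative G) (hcard : Nat.card G = 168)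
    (ρ : G →* Equiv.Perm (OnePoint (ZMod 7))) (hinj : Function.Injective ρ)
    (hstab : ∀ g, ρ g ∞ = ∞ → ∃ A b : ZMod 7, A ≠ 0 ∧ A ^ 3 = 1 ∧
        ∀ i : ZMod 7, ρ g i = ((A * i + b : ZMod 7) : OnePoint (ZMod 7)))
    (t h : G) (htI : ρ t ∞ = ((0 : ZMod 7) : OnePoint (ZMod 7)))
    (ht0 : ρ t ((0 : ZMod 7) : OnePoint (ZMod 7)) = ∞)
    (hhI : ρ h ∞ = ∞) (hhi : ∀ i : ZMod 7, ρ h i = (((2 : ZMod 7) * i : ZMod 7) : OnePoint (ZMod 7)))
    (hth : t * h = h * t) : False := by
  -- the order of `h`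
  have hh3 : h ^ 3 = 1 := by
    apply hinj
    rw [map_one]
    refine perm_ext ?_ ?_
    · simp [pow_succ, hhI]
    · intro i
      simp only [pow_succ, pow_zero, one_mul, map_mul, Equiv.Perm.mul_apply, hhi]
      have h8 : (2 : ZMod 7) * (2 * (2 * i)) = i := by
        have : (8 : ZMod 7) = 1 := by decide
        linear_combination i * this
      rw [h8]
      rfl
  have hh1 : h ≠ 1 := by
    intro h1
    have h2 := hhi 1
    rw [h1, map_one] at h2
    have h3 : (1 : ZMod 7) = 2 * 1 := OnePoint.coe_eq_coe.mp h2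
    exact absurd h3 (by decide)
  have hord : orderOf h = 3 := orderOf_eq_prime hh3 hh1
  let Q : Subgroup G := Subgroup.zpowers h
  have hQcard : Nat.card Q = 3 ^ 1 := by
    rw [Nat.card_zpowers, hord, pow_one]
  obtain ⟨P, hP⟩ := exists_sylow_of_card (p := 3) (k := 1) (m := 56) (by rw [hcard]; norm_num)
    (by norm_num) Q hQcard
  refine normalizer_not_le_centralizer hG 3 (by rw [hcard]; norm_num) P ?_
  have hPQ : ((P : Subgroup G) : Set G) = (Q : Set G) := by rw [hP]
  rw [hPQ]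
  intro n hn
  -- the fixed points of `h`
  have hfix0 : ∀ x : OnePoint (ZMod 7), ρ h x = x → x = ∞ ∨ x = ((0 : ZMod 7) : OnePoint (ZMod 7)) := by
    intro x hx
    induction x using OnePoint.rec with
    | infty => exact Or.inl rfl
    | coe i =>
      right
      have h1 := hhi i
      rw [hx] at h1
      have h2 : i = 2 * i := OnePoint.coe_eq_coe.mp h1
      have h3 : i = 0 := by
        have h4 : (1 : ZMod 7) * i = 0 := by linear_combination -h2
        simpa using h4
      rw [h3]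
  -- the conjugate generates the same group
  have hmem : n * h * n⁻¹ ∈ Q :=
    (Subgroup.mem_normalizer_iff.mp hn h).mp (Subgroup.mem_zpowers h)
  have hordc : orderOf (n * h * n⁻¹) = 3 := by
    have : orderOf (n * h * n⁻¹) = orderOf h := by
      have h1 : n * h * n⁻¹ = MulAut.conj n h := rfl
      rw [h1, MulEquiv.orderOf_eq]
    rw [this, hord]
  have hzp : Subgroup.zpowers (n * h * n⁻¹) = Q := by
    apply Subgroup.eq_of_le_of_card_ge
    · rw [Subgroup.zpowers_le]
      exact hmem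
    · rw [hQcard, pow_one, Nat.card_zpowers, hordc]
  obtain ⟨j, hj⟩ : ∃ j : ℤ, (n * h * n⁻¹) ^ j = h := by
    have : h ∈ Subgroup.zpowers (n * h * n⁻¹) := by
      rw [hzp]
      exact Subgroup.mem_zpowers h
    exact Subgroup.mem_zpowers_iff.mp this
  have hfix : ∀ x, ρ h x = x → ρ h (ρ n x) = ρ n x := by
    intro x hx
    have h1 : ρ (n * h * n⁻¹) (ρ n x) = ρ n x := by
      have h2 : (ρ n)⁻¹ (ρ n x) = x := by simp
      rw [map_mul, map_mul, map_inv, Equiv.Perm.mul_apply, Equiv.Perm.mul_apply, h2, hx]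
    rw [← hj, map_zpow]
    exact Equiv.Perm.zpow_apply_eq_self_of_apply_eq_self h1 j
  have hfixI : ρ h ∞ = ∞ := hhI
  have hfix0' : ρ h ((0 : ZMod 7) : OnePoint (ZMod 7)) = ((0 : ZMod 7) : OnePoint (ZMod 7)) := by
    rw [hhi, mul_zero]
  -- elements fixing `∞` and `0` commute with `h`
  have hcomm : ∀ m : G, ρ m ∞ = ∞ → ρ m ((0 : ZMod 7) : OnePoint (ZMod 7)) =
      ((0 : ZMod 7) : OnePoint (ZMod 7)) → m * h = h * m := by
    intro m hm1 hm2
    obtain ⟨A, b, -, -, hm⟩ := hstab m hm1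
    have hb : b = 0 := by
      have h1 := hm 0
      rw [hm2] at h1
      have h2 := OnePoint.coe_eq_coe.mp h1
      simpa using h2.symm
    subst hb
    apply hinj
    rw [map_mul, map_mul]
    refine perm_ext ?_ ?_
    · simp only [Equiv.Perm.mul_apply, hhI, hm1]
    · intro i
      simp only [Equiv.Perm.mul_apply, hhi, hm, add_zero]
      congr 1
      ring
  have hnh : n * h = h * n := by
    have hnI : ρ n ∞ = ∞ ∨ ρ n ∞ = ((0 : ZMod 7) : OnePoint (ZMod 7)) :=
      hfix0 _ (hfix _ hfixI)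
    have hn0 : ρ n ((0 : ZMod 7) : OnePoint (ZMod 7)) = ∞ ∨
        ρ n ((0 : ZMod 7) : OnePoint (ZMod 7)) = ((0 : ZMod 7) : OnePoint (ZMod 7)) :=
      hfix0 _ (hfix _ hfix0')
    have hne : ρ n ∞ ≠ ρ n ((0 : ZMod 7) : OnePoint (ZMod 7)) := by
      intro hc
      exact OnePoint.infty_ne_coe _ ((ρ n).injective hc)
    rcases hnI with hnI | hnI
    · rcases hn0 with hn0 | hn0
      · exact absurd (hnI.trans hn0.symm) hne
      · exact hcomm n hnI hn0
    · rcases hn0 with hn0 | hn0
      · have hti : ρ t⁻¹ ((0 : ZMod 7) : OnePoint (ZMod 7)) = ∞ := by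
          rw [map_inv, Equiv.Perm.inv_eq_iff_eq, htI]
        have htj : ρ t⁻¹ ∞ = ((0 : ZMod 7) : OnePoint (ZMod 7)) := by
          rw [map_inv, Equiv.Perm.inv_eq_iff_eq, ht0]
        have h1 := hcomm (t⁻¹ * n) (by rw [map_mul, Equiv.Perm.mul_apply, hnI, hti])
          (by rw [map_mul, Equiv.Perm.mul_apply, hn0, htj])
        have h2 : n = t * (t⁻¹ * n) := by group
        have h3 : Commute t h := hth
        have h4 : Commute (t⁻¹ * n) h := h1
        have h5 : Commute (t * (t⁻¹ * n)) h := h3.mul_left h4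
        rw [← h2] at h5
        exact h5
      · exact absurd (hnI.trans hn0.symm) hne
  rw [Subgroup.mem_centralizer_iff]
  intro g hg
  have hg' : g ∈ Q := by rw [← hP]; exact hg
  obtain ⟨k, rfl⟩ := Subgroup.mem_zpowers_iff.mp hg'
  have h1 : Commute n h := hnh
  exact (h1.zpow_right k).symm

/-- A simple group of order 168 is `PSL(2, ZMod 7)`. -/
theorem nonempty_mulEquiv_zmod (h : Nat.card G = 168) :
    Nonempty (G ≃* Matrix.ProjectiveSpecialLinearGroup (Fin 2) (ZMod 7)) := by
  have hnc : ¬ IsMulCommutative G := not_comm_of_not_prime (by rw [h]; norm_num)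
  have hf : 168 = 7 ^ 1 * 24 := by norm_num
  have hm := card_sylow_mem_candidates (G := G) (p := 7) (k := 1) (m := 24) hnc h hf
    (by norm_num) (by norm_num)
  have hc : candidates 168 7 1 24 = [8] := by decide +kernel
  rw [hc, List.mem_singleton] at hm
  have hrp : ∀ P : Sylow 7 G, Nat.card P = 7 := fun P => by
    simpa using card_sylow_eq (h.trans hf) (by norm_num) P
  obtain ⟨ρ, hinj, hτ, htrans, hstab, hsurj⟩ := exists_action (p := 7) hnc 3 (by rw [h]) hrp hm
  refine recognition (isCode_zmod 7)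
    (a₀ := 2) (r₁ := 1) (r₂ := 3) (e := 2) (L := 3) (nz := [1, 2, 3, 4, 5, 6])
    (sq := [1, 2, 4]) (A1s := [1, 4])
    (by decide +kernel) (by decide +kernel) (by decide +kernel) (by decide +kernel)
    (by decide +kernel) (by decide +kernel) (by decide +kernel) (by decide +kernel)
    (by decide +kernel) (by decide +kernel)
    (by
      have hall : ∀ a : ZMod 7, a.val ∈ ([1, 2, 4] : List ℕ) →
          a ∈ (List.range 3).map (fun k => (2 : ZMod 7) ^ k) := by decide +kernel
      intro a ha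
      obtain ⟨k, -, hk⟩ := List.mem_map.mp (hall a ha)
      exact ⟨k, hk.symm⟩)
    ρ hinj hτ ?_ ?_ htrans ?_
  · obtain ⟨g, hg1, hg2⟩ := hsurj 2 0 (by decide) (by decide)
    exact ⟨g, hg1, fun i => by rw [hg2, add_zero]⟩
  · intro g hg
    obtain ⟨A, b, hA0, hAr, h⟩ := hstab g hg
    have hsqr : ∀ A : ZMod 7, A ≠ 0 → A ^ 3 = 1 → ∃ s : ZMod 7, s ≠ 0 ∧ A = s ^ 2 := by decide +kernel
    obtain ⟨s, hs, rfl⟩ := hsqr A hA0 hAr
    exact ⟨s, b, hs, h⟩
  · intro t h₀ a₁ h1 h2 h3 h4 h5 h6 h7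
    have hcases : ∀ a : ZMod 7, a.val ∈ ([1, 2, 4] : List ℕ) → a.val ∈ ([1, 4] : List ℕ) ∨ a = 2 := by
      decide +kernel
    refine (hcases a₁ h7).resolve_right ?_
    rintro rfl
    refine false_of_commute hnc h ρ hinj hstab t h₀ h1 h2 h3 h4 ?_
    have hc : t * h₀ * t⁻¹ = h₀ := by
      apply hinj
      refine perm_ext ?_ ?_
      · rw [h5, h3]
      · intro i
        rw [h6, h4]
    calc t * h₀ = (t * h₀ * t⁻¹) * t := by group
      _ = h₀ * t := by rw [hc]

end

/-- A simple group of order 168 is `PSL(2, F)`, `F` any field with 7 elements. -/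
theorem nonempty_mulEquiv {G : Type u} [Group G] [Finite G] [IsSimpleGroup G]
    (h : Nat.card G = 168) {F : Type v} [Field F] [Fintype F] (hF : Fintype.card F = 7) :
    Nonempty (G ≃* Matrix.ProjectiveSpecialLinearGroup (Fin 2) F) := by
  obtain ⟨e₁⟩ := nonempty_mulEquiv_zmod h
  obtain ⟨e₂⟩ := nonempty_pslCongr_of_card (K := ZMod 7) (L := F) (by rw [ZMod.card, hF])
  exact ⟨e₁.trans e₂⟩

end Cfsg.Agent.Lib.Small.PSL2P7
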