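/-
Recognition of PSL(2,K) from a labelling of a permutation representation on `|K| + 1` points.
-/
import Cfsg.Agent.Lib.Small.PSL2Check

set_option autoImplicit false

namespace Cfsg.Agent.Lib.Small.PSL2Label

open OnePoint Cfsg.Agent.Lib.Small.PSL2Check

universe u v w

/-- **Recognition of `PSL(2,K)`** from an action on a set `Ω`, labelled by `K ∪ {∞}` using a group
of translations `τ` and a torus generated by `h`. -/
theorem recognition_labeled {K : Type v} [Field K] {G : Type u} [Group G] {Ω : Type w}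
    [MulAction G Ω] {code : K → ℕ} {addN mulN : ℕ → ℕ → ℕ} {negN : ℕ → ℕ}
    (hC : IsCode code addN mulN negN) {a₀ r₁ r₂ e : K} {L : ℕ} {nz sq : List ℕ}
    (hcheck : checkAll addN mulN negN (code a₀) (code r₁) (code r₂) (code e) L nz sq sq = true)
    (hnz : ∀ i : K, i ≠ 0 → code i ∈ nz) (hnz0 : ∀ n ∈ nz, ∃ i : K, i ≠ 0 ∧ code i = n)
    (hsq : ∀ s : K, s ≠ 0 → code (s ^ 2) ∈ sq)
    (hkeys : ∀ n ∈ nz, n ∈ keysN mulN (code a₀) L (code r₁) ∨ n ∈ keysN mulN (code a₀) L (code r₂))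
    (ha₀ : a₀ ≠ 0) (hr₁ : r₁ ≠ 0) (hr₂ : r₂ ≠ 0) (he0 : e ≠ 0) (he1 : e ≠ 1)
    (hpow : ∀ a : K, code a ∈ sq → ∃ k : ℕ, a = a₀ ^ k)
    (hfaith : ∀ g : G, (∀ w : Ω, g • w = w) → g = 1)
    (I O : Ω) (hOI : O ≠ I) (τ : K → G)
    (hadd : ∀ x y, τ (x + y) = τ x * τ y)
    (hτI : ∀ x, τ x • I = I)
    (hτO : ∀ x, τ x • O = O → x = 0)
    (hτs : ∀ w, w ≠ I → ∃ x, τ x • O = w)
    (h : G) (hI : h • I = I) (hO : h • O = O) (hτh : ∀ x, h * τ x * h⁻¹ = τ (a₀ * x))
    (htor : ∀ g : G, g • I = I → g • O = O → ∃ k : ℕ, g = h ^ k)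
    (hsqs : ∀ k : ℕ, ∃ s : K, s ≠ 0 ∧ a₀ ^ k = s ^ 2)
    (htr : ∃ g : G, g • I = O) :
    Nonempty (G ≃* Matrix.ProjectiveSpecialLinearGroup (Fin 2) K) := by
  classical
  have hτ0 : τ 0 = 1 := by
    have := hadd 0 0
    rw [add_zero] at this
    exact (mul_eq_left.mp this.symm)
  have hτneg : ∀ x, τ (-x) = (τ x)⁻¹ := by
    intro x
    have := hadd (-x) x
    rw [neg_add_cancel, hτ0] at this
    exact eq_inv_of_mul_eq_one_left this.symm
  let ι : OnePoint K → Ω := fun z => z.elim I (fun i => τ i • O)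
  have hιI : ι ∞ = I := rfl
  have hιc : ∀ i : K, ι (i : OnePoint K) = τ i • O := fun i => rfl
  have hιP : ∀ i : K, ι (i : OnePoint K) ≠ I := by
    intro i hi
    rw [hιc] at hi
    apply hOI
    have h1 := congrArg (fun V => (τ i)⁻¹ • V) hi
    simp only [inv_smul_smul] at h1
    rw [h1, ← hτneg, hτI]
  have hιinj : Function.Injective ι := by
    intro a b hab
    induction a using OnePoint.rec with
    | infty =>
      induction b using OnePoint.rec with
      | infty => rfl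
      | coe j => exact absurd hab.symm (hιP j)
    | coe i =>
      induction b using OnePoint.rec with
      | infty => exact absurd hab (hιP i)
      | coe j =>
        rw [hιc, hιc] at hab
        have h2 : τ (i - j) • O = O := by
          rw [sub_eq_neg_add, hadd, hτneg, mul_smul, hab, inv_smul_smul]
        have h3 := hτO _ h2
        rw [sub_eq_zero.mp h3]
  have hιsurj : Function.Surjective ι := by
    intro w
    by_cases hw : w = I
    · exact ⟨∞, hw.symm⟩
    · obtain ⟨x, hx⟩ := hτs w hw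
      exact ⟨(x : OnePoint K), hx⟩
  let E : OnePoint K ≃ Ω := Equiv.ofBijective ι ⟨hιinj, hιsurj⟩
  let ρ : G →* Equiv.Perm (OnePoint K) :=
    (Equiv.permCongrHom E.symm).toMonoidHom.comp (MulAction.toPermHom G Ω)
  have hρ : ∀ (g : G) (z : OnePoint K), ι (ρ g z) = g • ι z := by
    intro g z
    change E (E.symm (g • E z)) = g • ι z
    rw [Equiv.apply_symm_apply]
    rfl
  have hinj : Function.Injective ρ := by
    rw [injective_iff_map_eq_one]
    intro g hg
    apply hfaith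
    intro w
    obtain ⟨z, rfl⟩ := hιsurj w
    rw [← hρ, hg]
    rfl
  have hτ' : ∀ b : K, ∃ g, ρ g ∞ = ∞ ∧ ∀ i : K, ρ g i = ((i + b : K) : OnePoint K) := by
    intro b
    refine ⟨τ b, hιinj ?_, fun i => hιinj ?_⟩
    · rw [hρ, hιI, hτI]
    · rw [hρ, hιc, hιc, ← mul_smul, ← hadd, add_comm]
  have hconj : ∀ (k : ℕ) (x : K), h ^ k * τ x * (h ^ k)⁻¹ = τ (a₀ ^ k * x) := by
    intro k
    induction k with
    | zero => simp
    | succ n ih =>
      intro x
      have h1 : h ^ (n + 1) * τ x * (h ^ (n + 1))⁻¹ = h * (h ^ n * τ x * (h ^ n)⁻¹) * h⁻¹ := by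
        rw [pow_succ']
        group
      rw [h1, ih, hτh]
      congr 1
      ring
  have hpowO : ∀ k : ℕ, h ^ k • O = O := by
    intro k
    induction k with
    | zero => simp
    | succ n ih => rw [pow_succ', mul_smul, ih, hO]
  have hμ : ∃ g, ρ g ∞ = ∞ ∧ ∀ i : K, ρ g i = ((a₀ * i : K) : OnePoint K) := by
    refine ⟨h, hιinj ?_, fun i => hιinj ?_⟩
    · rw [hρ, hιI, hI]
    · rw [hρ, hιc, hιc, ← hτh, mul_smul, mul_smul, inv_smul_eq_iff.mpr hO.symm]
  have hStab : ∀ g, ρ g ∞ = ∞ →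
      ∃ s b : K, s ≠ 0 ∧ ∀ i : K, ρ g i = ((s ^ 2 * i + b : K) : OnePoint K) := by
    intro g hg
    have hgI : g • I = I := by
      have h1 := hρ g ∞
      rw [hg] at h1
      exact h1.symm
    have hgO : g • O ≠ I := by
      intro h1
      apply hOI
      have h2 := congrArg (fun V => g⁻¹ • V) h1
      simp only [inv_smul_smul] at h2
      rw [h2, inv_smul_eq_iff, hgI]
    obtain ⟨b, hb⟩ := hτs _ hgO
    obtain ⟨k, hk⟩ := htor ((τ b)⁻¹ * g) (by
      rw [mul_smul, hgI, inv_smul_eq_iff, hτI]) (by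
      rw [mul_smul, ← hb, inv_smul_smul])
    have hgk : g = τ b * h ^ k := by
      rw [← hk]
      group
    obtain ⟨s, hs, hsk⟩ := hsqs k
    refine ⟨s, b, hs, fun i => hιinj ?_⟩
    have h2 : τ (a₀ ^ k * i) * h ^ k = h ^ k * τ i := by
      rw [← hconj]
      group
    rw [hρ, hιc, hιc, hgk, ← hsk, add_comm, hadd, mul_smul, mul_smul, ← mul_smul (h ^ k), ← h2,
      mul_smul, hpowO]
  have htrans : ∃ g, ρ g ∞ = ((0 : K) : OnePoint K) := by
    obtain ⟨g, hg⟩ := htr
    refine ⟨g, hιinj ?_⟩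
    rw [hρ, hιI, hg, hιc, hτ0, one_smul]
  exact recognition hC hcheck hnz hnz0 hsq hkeys ha₀ hr₁ hr₂ he0 he1 hpow ρ hinj hτ' hμ hStab htrans
    (fun _ _ _ _ _ _ _ _ _ h => h)

end Cfsg.Agent.Lib.Small.PSL2Label
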