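/-
Small simple groups: orders 612, 756, 1040 via exceptional characters.
-/
import Cfsg.Agent.Lib.Small.Low2
import Cfsg.Agent.Lib.ExcP.KillSylow

set_option autoImplicit false
set_option linter.unusedSectionVars false

namespace Cfsg.Agent.Lib.Small.Low4

open Cfsg.Agent.Lib.Small.Sieve Cfsg.Agent.Lib.ExcP.Kill Cfsg.Agent.Lib.ExcP.KillSylow

universe u

variable {G : Type u} [Group G] [Finite G] [IsSimpleGroup G]

theorem false_612 (hG : ¬ IsMulCommutative G) (h : Nat.card G = 612) : False := by
  have hm := card_sylow_mem_candidates (G := G) (p := 17) (k := 1) (m := 36) hG h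
    (by norm_num) (by norm_num) (by norm_num)
  have hc : candidates 612 17 1 36 = [18] := by decide +kernel
  rw [hc, List.mem_singleton] at hm
  exact false_of_prime_index (p := 17) (m := 36) (e := 2) hG h (by norm_num) (by norm_num)
    (by rw [hm]) (by norm_num) (by norm_num) (by decide +kernel)

theorem false_756 (hG : ¬ IsMulCommutative G) (h : Nat.card G = 756) : False := by
  have hm := card_sylow_mem_candidates (G := G) (p := 7) (k := 1) (m := 108) hG h
    (by norm_num) (by norm_num) (by norm_num)
  have hc : candidates 756 7 1 108 = [36] := by decide +kernel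
  rw [hc, List.mem_singleton] at hm
  exact false_of_prime_index (p := 7) (m := 108) (e := 3) hG h (by norm_num) (by norm_num)
    (by rw [hm]) (by norm_num) (by norm_num) (by decide +kernel)

theorem false_1040 (hG : ¬ IsMulCommutative G) (h : Nat.card G = 1040) : False := by
  have hm := card_sylow_mem_candidates (G := G) (p := 13) (k := 1) (m := 80) hG h
    (by norm_num) (by norm_num) (by norm_num)
  have hc : candidates 1040 13 1 80 = [40] := by decide +kernel
  rw [hc, List.mem_singleton] at hm
  exact false_of_prime_index (p := 13) (m := 80) (e := 2) hG h (by norm_num) (by norm_num)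
    (by rw [hm]) (by norm_num) (by norm_num) (by decide +kernel)

end Cfsg.Agent.Lib.Small.Low4
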