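/-
Small simple groups: the transfer evaluated at an element with two fixed cosets and with all other
cycles killing the element.
-/
import Cfsg.Agent.Lib.Small.TI3

set_option autoImplicit false
set_option linter.unusedSectionVars false

namespace Cfsg.Agent.Lib.Small.Transfer2

open MulAction

universe u

variable {G : Type u} [Group G] [Finite G]

/-- The transfer at an element `u` fixing two cosets, and acting on the other cosets with cycles of
length a multiple of the order of `u`. -/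
theorem transfer_eq_mul {H : Subgroup G} [H.FiniteIndex] {A : Type*} [CommGroup A] (φ : H →* A)
    {u c₁ c₂ : G} (h₁ : c₁⁻¹ * u * c₁ ∈ H) (h₂ : c₂⁻¹ * u * c₂ ∈ H)
    (hne : (c₁ : G ⧸ H) ≠ (c₂ : G ⧸ H))
    (hother : ∀ q : G ⧸ H, q ≠ (c₁ : G ⧸ H) → q ≠ (c₂ : G ⧸ H) →
      u ^ Function.minimalPeriod (u • ·) q = 1) :
    MonoidHom.transfer φ u = φ ⟨_, h₁⟩ * φ ⟨_, h₂⟩ := by
  classical
  have : Fintype (Quotient (MulAction.orbitRel (Subgroup.zpowers u) (G ⧸ H))) := Fintype.ofFinite _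
  have hV1 := MonoidHom.transfer_eq_prod_quotient_orbitRel_zpowers_quot φ u
  let f : Quotient (MulAction.orbitRel (Subgroup.zpowers u) (G ⧸ H)) → H := fun q =>
    ⟨q.out.out⁻¹ * u ^ Function.minimalPeriod (u • ·) q.out * q.out.out,
      QuotientGroup.out_conj_pow_minimalPeriod_mem H u q.out⟩
  -- fixed cosets
  have hfix : ∀ c : G, c⁻¹ * u * c ∈ H → u • (c : G ⧸ H) = (c : G ⧸ H) := by
    intro c hc
    change ((u * c : G) : G ⧸ H) = (c : G ⧸ H)
    rw [QuotientGroup.eq]
    have h1 : (u * c)⁻¹ * c = (c⁻¹ * u * c)⁻¹ := by group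
    rw [h1]
    exact H.inv_mem hc
  have hout : ∀ c : G, c⁻¹ * u * c ∈ H → (Quotient.mk'' (c : G ⧸ H) :
      Quotient (MulAction.orbitRel (Subgroup.zpowers u) (G ⧸ H))).out = (c : G ⧸ H) := by
    intro c hc
    have h1 : Quotient.mk'' (Quotient.mk'' (c : G ⧸ H) :
        Quotient (MulAction.orbitRel (Subgroup.zpowers u) (G ⧸ H))).out =
        (Quotient.mk'' (c : G ⧸ H) :
          Quotient (MulAction.orbitRel (Subgroup.zpowers u) (G ⧸ H))) := Quotient.out_eq' _
    have h2 := Quotient.exact' h1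
    obtain ⟨g, hg⟩ := h2
    rw [← hg]
    obtain ⟨k, hk⟩ := Subgroup.mem_zpowers_iff.mp g.2
    have h3 : (g : G) • (c : G ⧸ H) = (c : G ⧸ H) := by
      rw [← hk]
      have h6 : u ∈ MulAction.stabilizer G (c : G ⧸ H) := hfix c hc
      exact (MulAction.stabilizer G (c : G ⧸ H)).zpow_mem h6 k
    exact h3
  have hterm : ∀ (c : G) (hc : c⁻¹ * u * c ∈ H),
      φ (f (Quotient.mk'' (c : G ⧸ H))) = φ ⟨c⁻¹ * u * c, hc⟩ := by
    intro c hc
    have h0 : f (Quotient.mk'' (c : G ⧸ H)) = ⟨((c : G ⧸ H)).out⁻¹ * u ^ Function.minimalPeriod (u • ·)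
        (c : G ⧸ H) * (c : G ⧸ H).out, by
          rw [← hout c hc]
          exact QuotientGroup.out_conj_pow_minimalPeriod_mem H u _⟩ := by
      apply Subtype.ext
      simp only [f]
      rw [hout c hc]
    have hm : Function.minimalPeriod (u • ·) (c : G ⧸ H) = 1 :=
      Function.minimalPeriod_eq_one_iff_isFixedPt.mpr (hfix c hc)
    rw [h0]
    have h2 : c⁻¹ * (c : G ⧸ H).out ∈ H := by
      rw [← QuotientGroup.eq, QuotientGroup.out_eq']
    have hv : (c : G ⧸ H).out = c * (c⁻¹ * (c : G ⧸ H).out) := by group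
    set v := (c : G ⧸ H).out with hvdef
    set k := c⁻¹ * v with hk
    have hconj : (⟨v⁻¹ * u ^ Function.minimalPeriod (u • ·) (c : G ⧸ H) * v, by
        rw [hm, pow_one, hv]
        have h3 : (c * k)⁻¹ * u * (c * k) = k⁻¹ * (c⁻¹ * u * c) * k := by group
        rw [h3]
        exact H.mul_mem (H.mul_mem (H.inv_mem h2) hc) h2⟩ : H) =
        (⟨k, h2⟩ : H)⁻¹ * ⟨c⁻¹ * u * c, hc⟩ * ⟨k, h2⟩ := by
      apply Subtype.ext
      simp only [Subgroup.coe_mul, Subgroup.coe_inv]
      rw [hm, pow_one, hv]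
      group
    rw [hconj, map_mul, map_mul, map_inv]
    rw [mul_comm (φ ⟨k, h2⟩)⁻¹]
    simp
  let a : Quotient (MulAction.orbitRel (Subgroup.zpowers u) (G ⧸ H)) :=
    Quotient.mk'' (c₁ : G ⧸ H)
  let b : Quotient (MulAction.orbitRel (Subgroup.zpowers u) (G ⧸ H)) :=
    Quotient.mk'' (c₂ : G ⧸ H)
  have hab' : a ≠ b := by
    intro hab
    apply hne
    rw [← hout c₁ h₁, ← hout c₂ h₂]
    exact congrArg Quotient.out hab
  have hprod : ∏ q, φ (f q) = φ (f a) * φ (f b) := by
    refine Finset.prod_eq_mul a b hab' ?_ (fun h => absurd (Finset.mem_univ a) h)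
      (fun h => absurd (Finset.mem_univ b) h)
    rintro q - ⟨hqa, hqb⟩
    have h1 : f q = 1 := by
      apply Subtype.ext
      change q.out.out⁻¹ * u ^ Function.minimalPeriod (u • ·) q.out * q.out.out = 1
      have hq : Quotient.mk'' q.out = q := Quotient.out_eq' _
      rw [hother q.out ?_ ?_]
      · group
      · intro h
        apply hqa
        rw [← hq, h]
      · intro h
        apply hqb
        rw [← hq, h]
    rw [h1, map_one]
  have h2 := hV1
  change MonoidHom.transfer φ u = ∏ q, φ (f q) at h2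
  rw [h2, hprod, hterm c₁ h₁, hterm c₂ h₂]

end Cfsg.Agent.Lib.Small.Transfer2
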