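/-
Small simple groups: fixed points of `p`-subgroups and Jordan's theorem on the action on cosets.
-/
import Cfsg.Agent.Lib.Small.Low1
import Cfsg.Agent.Lib.Small.Transfer2

set_option autoImplicit false
set_option linter.unusedSectionVars false

namespace Cfsg.Agent.Lib.Small.Low3

open Cfsg.Agent.Lib.Small.Basic Cfsg.Agent.Lib.Small.Sieve Cfsg.Agent.Lib.Small.TI
  Cfsg.Agent.Lib.Small.TI2 Cfsg.Agent.Lib.Small.TI3 Cfsg.Agent.Lib.Small.Low1

universe u

variable {G : Type u} [Group G] [Finite G]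

/-- Fixed points of a `p`-subgroup on an invariant set. -/
theorem card_fix_modEq_sub {Ω : Type*} [MulAction G Ω] [Finite Ω] {p : ℕ} [hp : Fact p.Prime]
    {H : Subgroup G} (hH : IsPGroup p H) (P : Ω → Prop) (hP : ∀ h ∈ H, ∀ x, P x → P (h • x)) :
    Nat.card {x // P x} ≡ Nat.card {x // P x ∧ ∀ h ∈ H, h • x = x} [MOD p] := by
  let _ : MulAction H {x // P x} :=
    { smul := fun g x => ⟨(g : G) • x.1, hP g g.2 x.1 x.2⟩
      one_smul := fun x => Subtype.ext (one_smul G x.1)
      mul_smul := fun a b x => Subtype.ext (mul_smul (a : G) (b : G) x.1) }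
  have h1 := hH.card_modEq_card_fixedPoints {x // P x}
  have h2 : Nat.card (MulAction.fixedPoints H {x // P x}) =
      Nat.card {x // P x ∧ ∀ h ∈ H, h • x = x} := by
    apply Nat.card_congr
    exact
      { toFun := fun z => ⟨z.1.1, z.1.2, fun h hh => congrArg Subtype.val (z.2 ⟨h, hh⟩)⟩
        invFun := fun z => ⟨⟨z.1, z.2.1⟩, fun h => Subtype.ext (z.2.2 h h.2)⟩
        left_inv := fun z => rfl
        right_inv := fun z => rfl }
  rwa [h2] at h1

/-- Removing a point from a subtype. -/
theorem card_subtype_ne {Ω : Type*} [Finite Ω] (P : Ω → Prop) {a : Ω} (ha : P a) :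
    Nat.card {x // P x ∧ x ≠ a} + 1 = Nat.card {x // P x} := by
  classical
  have := Fintype.ofFinite Ω
  simp only [Nat.card_eq_fintype_card, Fintype.card_subtype]
  have h : (Finset.univ.filter fun x => P x) = insert a (Finset.univ.filter fun x => P x ∧ x ≠ a) := by
    ext x
    simp only [Finset.mem_filter, Finset.mem_univ, true_and, Finset.mem_insert]
    constructor
    · intro hx
      by_cases hxa : x = a
      · exact Or.inl hxa
      · exact Or.inr ⟨hx, hxa⟩
    · rintro (rfl | hx)
      · exact ha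
      · exact hx.1
  rw [h, Finset.card_insert_of_notMem]
  simp

/-- A point of a subset with three points, in a two-group of order four fixing a point, an element of
order two fixing three points. -/
theorem exists_involution_fix_three {Ω : Type*} [MulAction G Ω] [Finite Ω] (V : Subgroup G)
    (hV : Nat.card V = 4) (P : Ω → Prop) (hP : ∀ h ∈ V, ∀ x, P x → P (h • x))
    (hcard : Nat.card {x // P x} = 4) {p₀ : Ω} (hp₀ : P p₀) (hfix : ∀ h ∈ V, h • p₀ = p₀) :
    ∃ u ∈ V, orderOf u = 2 ∧ 3 ≤ Nat.card {x // u • x = x ∧ P x} := by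
  classical
  have hf2 : Fact (Nat.Prime 2) := ⟨by norm_num⟩
  have hpg : IsPGroup 2 V := IsPGroup.of_card (n := 2) (by rw [hV]; norm_num)
  -- the three other points
  have h3 : Nat.card {x // P x ∧ x ≠ p₀} = 3 := by
    have := card_subtype_ne P hp₀
    omega
  have hinv : ∀ h ∈ V, ∀ x, (P x ∧ x ≠ p₀) → (P (h • x) ∧ h • x ≠ p₀) := by
    rintro h hh x ⟨hx, hxp⟩
    refine ⟨hP h hh x hx, fun he => hxp ?_⟩
    have h1 := hfix h hh
    rw [← h1] at he
    exact smul_left_cancel h he
  have hm := card_fix_modEq_sub hpg (fun x => P x ∧ x ≠ p₀) hinv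
  rw [h3] at hm
  have hm' : 3 % 2 = Nat.card {x // (P x ∧ x ≠ p₀) ∧ ∀ h ∈ V, h • x = x} % 2 := hm
  have hne : Nat.card {x // (P x ∧ x ≠ p₀) ∧ ∀ h ∈ V, h • x = x} ≠ 0 := by
    intro h0
    rw [h0] at hm'
    omega
  have hnonempty : Nonempty {x // (P x ∧ x ≠ p₀) ∧ ∀ h ∈ V, h • x = x} := by
    by_contra hemp
    rw [not_nonempty_iff] at hemp
    exact hne Nat.card_of_isEmpty
  obtain ⟨⟨a, ⟨haP, hap⟩, hafix⟩⟩ := hnonempty
  -- the two other points
  have h2 : Nat.card {x // (P x ∧ x ≠ p₀) ∧ x ≠ a} = 2 := by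
    have := card_subtype_ne (fun x => P x ∧ x ≠ p₀) (a := a) ⟨haP, hap⟩
    omega
  have hnb : Nonempty {x // (P x ∧ x ≠ p₀) ∧ x ≠ a} := by
    by_contra hemp
    rw [not_nonempty_iff] at hemp
    have : Nat.card {x // (P x ∧ x ≠ p₀) ∧ x ≠ a} = 0 := Nat.card_of_isEmpty
    omega
  obtain ⟨⟨b, ⟨hbP, hbp⟩, hba⟩⟩ := hnb
  -- the stabilizer of `b`
  have horb : Nat.card (MulAction.orbit V b) * Nat.card (MulAction.stabilizer V b) = Nat.card V := by
    rw [← Nat.card_prod]
    exact Nat.card_congr (MulAction.orbitProdStabilizerEquivGroup V b)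
  have horble : Nat.card (MulAction.orbit V b) ≤ 2 := by
    rw [← h2]
    refine Nat.card_le_card_of_injective (fun z => ⟨z.1, ?_⟩) ?_
    · obtain ⟨g, hg⟩ := z.2
      rw [← hg]
      have h5 := hinv g g.2 b ⟨hbP, hbp⟩
      refine ⟨h5, fun he => hba ?_⟩
      have h6 := hafix g g.2
      rw [← h6] at he
      exact smul_left_cancel _ he
    · intro x y hxy
      exact Subtype.ext (congrArg (fun q : {x // (P x ∧ x ≠ p₀) ∧ x ≠ a} => q.1) hxy)
  rw [hV] at horb
  set r := Nat.card (MulAction.orbit V b)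
  set s := Nat.card (MulAction.stabilizer V b)
  have hs2 : 2 ∣ s := by
    have hspos : 0 < s := by
      by_contra h0
      have : s = 0 := by omega
      rw [this] at horb
      omega
    have hs4 : s ∣ 4 := ⟨r, by rw [← horb]; ring⟩
    have hsle : s ≤ 4 := Nat.le_of_dvd (by norm_num) hs4
    have hsne1 : s ≠ 1 := by
      intro h1
      rw [h1] at horb
      omega
    interval_cases s <;> omega
  obtain ⟨y, hy⟩ := exists_prime_orderOf_dvd_card' (G := MulAction.stabilizer V b) 2 hs2
  let u : G := ((y : V) : G)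
  have huV : u ∈ V := (y : V).2
  have hu2 : orderOf u = 2 := by
    have h1 : orderOf (y : V) = 2 := by rw [Subgroup.orderOf_coe, hy]
    change orderOf ((y : V) : G) = 2
    rw [Subgroup.orderOf_coe, h1]
  have hub : u • b = b := y.2
  refine ⟨u, huV, hu2, ?_⟩
  -- three points
  have := Fintype.ofFinite Ω
  rw [Nat.card_eq_fintype_card, Fintype.card_subtype]
  have hsub : ({p₀, a, b} : Finset Ω) ⊆ Finset.univ.filter (fun x => u • x = x ∧ P x) := by
    intro x hx
    simp only [Finset.mem_insert, Finset.mem_singleton] at hx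
    simp only [Finset.mem_filter, Finset.mem_univ, true_and]
    rcases hx with rfl | rfl | rfl
    · exact ⟨hfix u huV, hp₀⟩
    · exact ⟨hafix u huV, haP⟩
    · exact ⟨hub, hbP⟩
  have hc : ({p₀, a, b} : Finset Ω).card = 3 :=
    Finset.card_eq_three.mpr ⟨p₀, a, b, hap.symm, hbp.symm, hba.symm, rfl⟩
  rw [← hc]
  exact Finset.card_le_card hsub

/-- **Jordan's theorem**: no three-cycle on the cosets of a maximal subgroup of a small group. -/
theorem false_of_three_cycle [IsSimpleGroup G] (L : Subgroup G) (hLtop : L ≠ ⊤)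
    (hmax : ∀ M : Subgroup G, L < M → M = ⊤) {w : G}
    (h3 : Nat.card {x : G ⧸ L // w • x ≠ x} = 3) (hbig : 2 * Nat.card G < (L.index).factorial) :
    False := by
  classical
  have := Fintype.ofFinite (G ⧸ L)
  have hidx : Nat.card (G ⧸ L) = L.index := rfl
  have hnt : Nontrivial (G ⧸ L) := by
    have hle : 1 < Nat.card (G ⧸ L) := by
      rw [hidx]
      have h0 : L.index ≠ 0 := Subgroup.index_ne_zero_of_finite
      have h1 : L.index ≠ 1 := fun h => hLtop (Subgroup.index_eq_one.mp h)
      omega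
    exact Finite.one_lt_card_iff_nontrivial.mp hle
  have hcoatom : IsCoatom (MulAction.stabilizer G ((1 : G) : G ⧸ L)) := by
    rw [MulAction.stabilizer_quotient]
    exact ⟨hLtop, hmax⟩
  have hprim : MulAction.IsPreprimitive G (G ⧸ L) :=
    (MulAction.isCoatom_stabilizer_iff_preprimitive G ((1 : G) : G ⧸ L)).mp hcoatom
  let H : Subgroup (Equiv.Perm (G ⧸ L)) := (MulAction.toPermHom G (G ⧸ L)).range
  let φ : G → H := (MulAction.toPermHom G (G ⧸ L)).rangeRestrict
  let f : (G ⧸ L) →ₑ[φ] (G ⧸ L) :=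
    { toFun := id
      map_smul' := fun g x => rfl }
  have hH : MulAction.IsPreprimitive H (G ⧸ L) :=
    MulAction.IsPreprimitive.of_surjective (f := f) Function.surjective_id
  have hc3 : (MulAction.toPermHom G (G ⧸ L) w).IsThreeCycle := by
    apply card_support_eq_three_iff.mp
    rw [← h3, Nat.card_eq_fintype_card, Fintype.card_subtype]
    congr 1
  have hle := Equiv.Perm.alternatingGroup_le_of_isPreprimitive_of_isThreeCycle_mem hH hc3 ⟨w, rfl⟩
  have hc1 := Subgroup.card_le_of_le hle
  have hc2 : Nat.card H = Nat.card G :=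
    (Nat.card_congr (MonoidHom.ofInjective (toPermHom_injective L hLtop)).toEquiv).symm
  rw [hc2, nat_card_alternatingGroup, hidx] at hc1
  have h2 : (L.index).factorial / 2 ≤ Nat.card G := hc1
  have hi2 : 2 ≤ L.index := by
    have h0 : L.index ≠ 0 := Subgroup.index_ne_zero_of_finite
    have h1 : L.index ≠ 1 := fun h => hLtop (Subgroup.index_eq_one.mp h)
    omega
  have hd2 : 2 ∣ (L.index).factorial := Nat.dvd_factorial (by norm_num) hi2
  omega

end Cfsg.Agent.Lib.Small.Low3
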