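/-
Small simple groups of order 720: the Sylow 3-subgroups intersect trivially, and there are ten.
-/
import Cfsg.Agent.Lib.Small.Low3
import Cfsg.Agent.Lib.SmallSimple.Sign

set_option autoImplicit false
set_option linter.unusedSectionVars false
set_option linter.unusedVariables false

namespace Cfsg.Agent.Lib.Small.Ord720a

open Cfsg.Agent.Lib.Small.Basic Cfsg.Agent.Lib.Small.Sieve Cfsg.Agent.Lib.Small.TI
  Cfsg.Agent.Lib.Small.TI2 Cfsg.Agent.Lib.Small.TI3 Cfsg.Agent.Lib.Small.Low1
  Cfsg.Agent.Lib.Small.Low3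

universe u

instance fact_prime2' : Fact (Nat.Prime 2) := ⟨by norm_num⟩
instance fact_prime3' : Fact (Nat.Prime 3) := ⟨by norm_num⟩
instance fact_prime5' : Fact (Nat.Prime 5) := ⟨by norm_num⟩

variable {G : Type u} [Group G] [Finite G] [IsSimpleGroup G]

/-- A proper subgroup of a simple group of order `720` has index at least `8`. -/
theorem index_ge (hG : ¬ IsMulCommutative G) (h : Nat.card G = 720) (K : Subgroup G) (hK : K ≠ ⊤) :
    8 ≤ K.index := by
  have h1 := two_mul_card_dvd_factorial_index hG K hK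
  rw [h] at h1
  by_contra h2
  have h3 : K.index < 8 := by omega
  generalize K.index = i at h1 h3
  interval_cases i <;> revert h1 <;> decide

/-- No element of order `15`. -/
theorem no_commute_five_three (hG : ¬ IsMulCommutative G) (h : Nat.card G = 720) {y w : G}
    (hy : orderOf y = 5) (hw : orderOf w = 3) (hc : y * w = w * y) : False := by
  have hm := card_sylow_mem_candidates (G := G) (p := 5) (k := 1) (m := 144) hG h
    (by norm_num) (by norm_num) (by norm_num)
  have hc' : candidates 720 5 1 144 = [36] := by decide +kernel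
  rw [hc', List.mem_singleton] at hm
  have hcard : ∀ U : Sylow 5 G, Nat.card U = 5 := by
    intro U
    simpa using card_sylow_eq (p := 5) (k := 1) (m := 144) (by rw [h]; norm_num) (by norm_num) U
  obtain ⟨Q, hyQ⟩ := exists_sylow_of_orderOf hy
  have hy1 : y ≠ 1 := by
    rintro rfl
    rw [orderOf_one] at hy
    omega
  have h2 := card_normalizer_mul Q
  rw [hm, h] at h2
  have hwC : w ∈ Subgroup.centralizer ({y} : Set G) := by
    rw [Subgroup.mem_centralizer_iff]
    intro b hb
    rw [Set.mem_singleton_iff] at hb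
    subst hb
    exact hc
  rw [centralizer_singleton_eq (hcard Q) hyQ hy1] at hwC
  have hwN := Subgroup.centralizer_le_normalizer _ hwC
  have h3 := orderOf_dvd_natCard (⟨w, hwN⟩ : Subgroup.normalizer ((Q : Subgroup G) : Set G))
  rw [Subgroup.orderOf_mk, hw] at h3
  have h4 : Nat.card (Subgroup.normalizer ((Q : Subgroup G) : Set G)) = 20 := by omega
  rw [h4] at h3
  omega

/-- The numbers of fixed points for a commuting pair. -/
theorem fix_numbers (hG : ¬ IsMulCommutative G) (K : Subgroup G) (hK : K ≠ ⊤)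
    {p : ℕ} [hp : Fact p.Prime] {y z : G} (hy : orderOf y = p) (hz : orderOf z = 2)
    (hc : y * z = z * y) :
    Nat.card {x : G ⧸ K // z • x = x} % p = Nat.card {x : G ⧸ K // z • x = x ∧ y • x = x} % p ∧
    Nat.card {x : G ⧸ K // y • x = x} % p = K.index % p ∧
    Nat.card {x : G ⧸ K // z • x = x ∧ y • x = x} % 2 = Nat.card {x : G ⧸ K // y • x = x} % 2 ∧
    4 ∣ K.index - Nat.card {x : G ⧸ K // z • x = x} ∧
    Nat.card {x : G ⧸ K // z • x = x} < K.index ∧ Nat.card {x : G ⧸ K // y • x = x} < K.index := by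
  classical
  have hidx : Nat.card (G ⧸ K) = K.index := rfl
  let F : G ⧸ K → Prop := fun x => z • x = x
  let Y : G ⧸ K → Prop := fun x => y • x = x
  have hFinv : ∀ x, F x → F (y • x) := by
    intro x hx
    change z • y • x = y • x
    rw [← mul_smul, ← hc, mul_smul, hx]
  have hYinv : ∀ x, Y x → Y (z • x) := by
    intro x hx
    change y • z • x = z • x
    rw [← mul_smul, hc, mul_smul, hx]
  have h1 := card_fix_modEq hy F hFinv
  have h2 := card_fix_modEq hy (fun _ : G ⧸ K => True) (fun _ _ => trivial)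
  have h3 := card_fix_modEq hz Y hYinv
  have hlt : ∀ (g : G), orderOf g ≠ 1 → Nat.card {x : G ⧸ K // g • x = x} < K.index := by
    intro g hg
    have hle := card_subtype_le (G ⧸ K) (fun x => g • x = x)
    rw [hidx] at hle
    refine lt_of_le_of_ne hle ?_
    intro heq
    apply hg
    rw [orderOf_eq_one_iff]
    apply eq_one_of_fix_all hK
    intro x
    have hsub : Function.Surjective (Subtype.val : {x : G ⧸ K // g • x = x} → G ⧸ K) := by
      have hinj : Function.Injective (Subtype.val : {x : G ⧸ K // g • x = x} → G ⧸ K) :=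
        Subtype.val_injective
      exact ((Nat.bijective_iff_injective_and_card _).mpr ⟨hinj, by rw [heq, hidx]⟩).2
    obtain ⟨w, rfl⟩ := hsub x
    exact w.2
  have hyne : orderOf y ≠ 1 := by
    rw [hy]
    exact hp.out.ne_one
  have hzne : orderOf z ≠ 1 := by
    rw [hz]
    norm_num
  have htotal : Nat.card {x : G ⧸ K // True} = K.index := by
    rw [Nat.card_congr (Equiv.subtypeUnivEquiv (fun _ => trivial)), hidx]
  have h2' : Nat.card {x : G ⧸ K // True ∧ y • x = x} = Nat.card {x : G ⧸ K // y • x = x} := by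
    apply Nat.card_congr
    exact Equiv.subtypeEquivRight (fun x => by simp)
  have h4 : Nat.card {x // Y x ∧ z • x = x} = Nat.card {x // F x ∧ y • x = x} := by
    apply Nat.card_congr
    exact Equiv.subtypeEquivRight (fun x => and_comm)
  refine ⟨h1, ?_, ?_, ?_, hlt z hzne, hlt y hyne⟩
  · have h5 : K.index % p = Nat.card {x : G ⧸ K // y • x = x} % p := by
      rw [← h2', ← htotal]
      exact h2
    exact h5.symm
  · have h5 : Nat.card {x // Y x} % 2 = Nat.card {x // Y x ∧ z • x = x} % 2 := h3
    change Nat.card {x // F x ∧ y • x = x} % 2 = Nat.card {x // Y x} % 2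
    rw [h5, h4]
  · have h5 := Cfsg.Agent.Lib.SmallSimple.Sign.four_dvd_card_sub_fixedBy hG (Ω := G ⧸ K) z (by
      rw [← hz]
      exact pow_orderOf_eq_one z)
    exact h5

/-- The main point: index `10` subgroup containing the centralizer of an element of order `3`
and a four-subgroup of it. -/
theorem false_of_index_ten (hG : ¬ IsMulCommutative G) (h : Nat.card G = 720) (L : Subgroup G)
    (hL : L.index = 10) {w : G} (hw : orderOf w = 3)
    (hC : Subgroup.centralizer ({w} : Set G) ≤ L) (V : Subgroup G) (hV : Nat.card V = 4)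
    (hVC : V ≤ Subgroup.centralizer ({w} : Set G)) : False := by
  classical
  have hLtop : L ≠ ⊤ := by
    rintro rfl
    simp at hL
  set p₀ : G ⧸ L := ((1 : G) : G ⧸ L) with hp₀
  have hfix : ∀ c ∈ Subgroup.centralizer ({w} : Set G), c • p₀ = p₀ := by
    intro c hc
    rw [hp₀, MulAction.Quotient.smul_coe, QuotientGroup.eq]
    simpa using hC hc
  have hcomm : ∀ c ∈ Subgroup.centralizer ({w} : Set G), w * c = c * w := by
    intro c hc
    exact (Subgroup.mem_centralizer_iff.mp hc) w rfl
  have hw1 : p₀ = w • p₀ := (hfix w (by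
    rw [Subgroup.mem_centralizer_iff]
    intro b hb
    rw [Set.mem_singleton_iff] at hb
    subst hb
    rfl)).symm
  -- an involution of `V`
  have hf2 : Fact (Nat.Prime 2) := ⟨by norm_num⟩
  have hV2 : 2 ∣ Nat.card V := by rw [hV]; norm_num
  obtain ⟨u₀, hu₀⟩ := exists_prime_orderOf_dvd_card' (G := V) 2 hV2
  have hu₀G : orderOf (u₀ : G) = 2 := by rw [Subgroup.orderOf_coe, hu₀]
  -- fixed points of `w`
  obtain ⟨-, ht, -, -, -, hlt⟩ := fix_numbers hG L hLtop hw hu₀G (hcomm _ (hVC u₀.2))
  rw [hL] at ht hlt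
  set t := Nat.card {x : G ⧸ L // w • x = x} with htdef
  have htp : 0 < t := by
    rw [htdef, Nat.card_pos_iff]
    exact ⟨⟨⟨p₀, hw1.symm⟩⟩, inferInstance⟩
  have htcases : t = 1 ∨ t = 4 ∨ t = 7 := by omega
  rcases htcases with h1 | h4 | h7
  · -- one fixed point
    obtain ⟨hf, -, -, h4d, hlt', -⟩ := fix_numbers hG L hLtop hw hu₀G (hcomm _ (hVC u₀.2))
    rw [hL] at h4d hlt'
    have hv : Nat.card {x : G ⧸ L // (u₀ : G) • x = x ∧ w • x = x} = 1 := by
      have hsub : ∀ x : G ⧸ L, w • x = x → x = p₀ := by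
        intro x hx
        have hcard1 : Nat.card {x : G ⧸ L // w • x = x} = 1 := h1
        have hu := (Nat.card_eq_one_iff_unique.mp hcard1).1
        exact congrArg Subtype.val (hu.elim ⟨x, hx⟩ ⟨p₀, hw1.symm⟩)
      rw [Nat.card_eq_one_iff_unique]
      refine ⟨⟨?_⟩, ⟨⟨p₀, hfix _ (hVC u₀.2), hw1.symm⟩⟩⟩
      intro a b
      exact Subtype.ext ((hsub _ a.2.2).trans (hsub _ b.2.2).symm)
    rw [hv] at hf
    omega
  · -- four fixed points
    have hPinv : ∀ h ∈ V, ∀ x : G ⧸ L, w • x = x → w • (h • x) = h • x := by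
      intro g hg x hx
      rw [← mul_smul, hcomm g (hVC hg), mul_smul, hx]
    obtain ⟨u, huV, hu2, hu3⟩ := exists_involution_fix_three V hV (fun x : G ⧸ L => w • x = x) hPinv
      h4 hw1.symm (fun g hg => hfix g (hVC hg))
    obtain ⟨hf, -, hv2, h4d, hlt', -⟩ := fix_numbers hG L hLtop hw hu2 (hcomm _ (hVC huV))
    rw [hL] at h4d hlt'
    have hvle : Nat.card {x : G ⧸ L // u • x = x ∧ w • x = x} ≤ 4 := by
      rw [← h4]
      exact Nat.card_le_card_of_injective (fun x => (⟨x.1, x.2.2⟩ : {x : G ⧸ L // w • x = x}))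
        (fun a b hab => Subtype.ext (congrArg (fun q : {x : G ⧸ L // w • x = x} => q.1) hab))
    rw [← htdef, h4] at hv2
    have hv4 : Nat.card {x : G ⧸ L // u • x = x ∧ w • x = x} = 4 := by omega
    rw [hv4] at hf
    omega
  · -- seven fixed points: a three-cycle
    have hmoved : Nat.card {x : G ⧸ L // w • x ≠ x} = 3 := by
      have h1 : Nat.card {x : G ⧸ L // w • x = x} + Nat.card {x : G ⧸ L // w • x ≠ x} =
          Nat.card (G ⧸ L) := by
        rw [← Nat.card_sum]
        exact Nat.card_congr (Equiv.sumCompl (fun x : G ⧸ L => w • x = x))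
      have h2 : Nat.card (G ⧸ L) = 10 := hL
      omega
    refine false_of_three_cycle L hLtop ?_ hmoved ?_
    · intro M hM
      by_contra hMtop
      have h1 := index_ge hG h M hMtop
      have h2 : M.index ∣ L.index := Subgroup.index_dvd_of_le hM.le
      rw [hL] at h2
      have h3 : M.index ≤ 10 := Nat.le_of_dvd (by norm_num) h2
      have h4 : M.index ≠ 10 := by
        intro h10
        have h5 : Nat.card M = Nat.card L := by
          have h6 := M.card_mul_index
          have h7 := L.card_mul_index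
          rw [h10] at h6
          rw [hL] at h7
          omega
        exact hM.ne (Subgroup.eq_of_le_of_card_ge hM.le h5.le)
      have : M.index = 8 ∨ M.index = 9 := by omega
      rcases this with h8 | h9
      · rw [h8] at h2
        omega
      · rw [h9] at h2
        omega
    · rw [h, hL]
      decide

/-- The subgroup of index ten. -/
theorem exists_index_ten (hG : ¬ IsMulCommutative G) (h : Nat.card G = 720) {w : G}
    (hw : orderOf w = 3) {P R : Sylow 3 G} (hne : P ≠ R) (hwP : w ∈ P) (hwR : w ∈ R) :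
    ∃ L V : Subgroup G, L.index = 10 ∧ Subgroup.centralizer ({w} : Set G) ≤ L ∧ Nat.card V = 4 ∧
      V ≤ Subgroup.centralizer ({w} : Set G) := by
  classical
  set C := Subgroup.centralizer ({w} : Set G) with hCdef
  have hcardS : ∀ U : Sylow 3 G, Nat.card U = 9 := by
    intro U
    simpa using card_sylow_eq (p := 3) (k := 2) (m := 80) (by rw [h]; norm_num) (by norm_num) U
  have hPC : ∀ X : Sylow 3 G, w ∈ X → (X : Subgroup G) ≤ C := by
    intro X hX a ha
    rw [hCdef, Subgroup.mem_centralizer_iff]
    intro b hb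
    rw [Set.mem_singleton_iff] at hb
    subst hb
    have hab : IsMulCommutative X := isMulCommutative_of_card_le_two (p := 3) (k := 2)
      (by norm_num) (by rw [hcardS]; norm_num)
    exact congrArg Subtype.val (mul_comm' (⟨_, hX⟩ : (X : Subgroup G)) ⟨a, ha⟩)
  have hw1 : w ≠ 1 := by
    rintro rfl
    rw [orderOf_one] at hw
    omega
  have hCtop : C ≠ ⊤ := by
    intro htop
    apply hw1
    have hz : w ∈ Subgroup.center G := by
      rw [Subgroup.mem_center_iff]
      intro g
      have hg : g ∈ C := by rw [htop]; trivial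
      exact ((Subgroup.mem_centralizer_iff.mp hg) w rfl).symm
    rw [center_eq_bot hG] at hz
    exact hz
  obtain ⟨c, hc⟩ := index_mul_card_sylow_mul (p := 3) (k := 2) (m := 80) (by rw [h]; norm_num) P
    (hcardS P) C (hPC P hwP)
  have hn1 : Nat.card (Sylow 3 C) ≠ 1 := by
    intro h1
    have hu := (Nat.card_eq_one_iff_unique.mp h1).1
    have h2 : P.subtype (hPC P hwP) = R.subtype (hPC R hwR) := hu.elim _ _
    exact hne (Sylow.subtype_injective h2)
  have hmod := card_sylow_modEq_one 3 C
  have hmod' : Nat.card (Sylow 3 C) % 3 = 1 := hmod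
  have hn0 : 0 < Nat.card (Sylow 3 C) := Nat.card_pos
  have hn4 : 4 ≤ Nat.card (Sylow 3 C) := by omega
  have hi8 := index_ge hG h C hCtop
  have h5 : ¬ 5 ∣ Nat.card C := by
    intro h5
    obtain ⟨y, hy⟩ := exists_prime_orderOf_dvd_card' (G := C) 5 h5
    have hyG : orderOf (y : G) = 5 := by rw [Subgroup.orderOf_coe, hy]
    exact no_commute_five_three hG h hyG hw ((Subgroup.mem_centralizer_iff.mp y.2) w rfl).symm
  have hci : Nat.card C * C.index = 720 := by
    rw [C.card_mul_index, h]
  have h5i : 5 ∣ C.index := by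
    have h51 : 5 ∣ Nat.card C * C.index := by rw [hci]; norm_num
    exact ((Nat.Prime.dvd_mul (by norm_num)).mp h51).resolve_left h5
  have hx : 4 ≤ Nat.card (Sylow 3 C) * c := by
    have hc0 : c ≠ 0 := by
      rintro rfl
      simp at hc
    calc 4 ≤ Nat.card (Sylow 3 C) := hn4
      _ ≤ Nat.card (Sylow 3 C) * c := Nat.le_mul_of_pos_right _ (Nat.pos_of_ne_zero hc0)
  set y := Nat.card (Sylow 3 C) * c with hy
  have hidx : C.index = 10 ∨ C.index = 20 := by
    obtain ⟨a, ha⟩ := h5i
    rw [ha] at hc hi8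
    have ha3 : a ≤ 4 := by
      by_contra hcon
      have : 5 * a * y ≥ 5 * 5 * 4 := Nat.mul_le_mul (by omega) hx
      omega
    have ha2 : 2 ≤ a := by omega
    interval_cases a
    · simp [ha]
    · exfalso
      omega
    · simp [ha]
  -- the four-subgroup
  have hC4 : 2 ^ 2 ∣ Nat.card C := by
    rcases hidx with h10 | h20
    · rw [h10] at hci
      have : Nat.card C = 72 := by omega
      rw [this]
      norm_num
    · rw [h20] at hci
      have : Nat.card C = 36 := by omega
      rw [this]
      norm_num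
  obtain ⟨V', hV'⟩ := Sylow.exists_subgroup_card_pow_prime (G := C) 2 hC4
  have hV : Nat.card (V'.map C.subtype) = 4 := by
    rw [Subgroup.card_map_of_injective C.subtype_injective, hV']
    norm_num
  have hVC : V'.map C.subtype ≤ C := Subgroup.map_subtype_le V'
  rcases hidx with h10 | h20
  · exact ⟨C, _, h10, le_rfl, hV, hVC⟩
  -- index twenty
  rw [h20] at hci hc
  have hcardC : Nat.card C = 3 ^ 2 * 4 := by
    norm_num
    omega
  let S₃ : Sylow 3 C := P.subtype (hPC P hwP)
  have hnc : Nat.card (Sylow 3 C) = 4 := by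
    have hle : Nat.card (Sylow 3 C) ≤ 4 := by
      have hy4 : y = 4 := by omega
      have hdvd : Nat.card (Sylow 3 C) ∣ 4 := ⟨c, by rw [← hy4, hy]⟩
      exact Nat.le_of_dvd (by norm_num) hdvd
    omega
  have hS₃card : Nat.card S₃ = 3 ^ 2 := card_sylow_eq hcardC (by norm_num) S₃
  have hS₃idx : (S₃ : Subgroup C).index = 4 := index_sylow_eq hcardC (by norm_num) S₃
  have hS₃ab : IsMulCommutative S₃ := isMulCommutative_of_card_le_two (p := 3) (k := 2)
    (by norm_num) hS₃card
  obtain ⟨K, hKn, hKc⟩ := exists_normal_complement S₃ hS₃ab (by rw [hnc, hS₃idx])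
  have hKcard : Nat.card K = 4 := by
    rw [hS₃card, hcardC] at hKc
    omega
  set K' := K.map C.subtype with hK'
  have hK'card : Nat.card K' = 4 := by
    rw [hK', Subgroup.card_map_of_injective C.subtype_injective, hKcard]
  have hCN := le_normalizer_map_subtype C K hKn
  rw [← hK'] at hCN
  have hK'2 : IsPGroup 2 K' := IsPGroup.of_card (n := 2) (by rw [hK'card]; norm_num)
  obtain ⟨S, hS⟩ := hK'2.exists_le_sylow
  have hScard : Nat.card S = 16 := by
    simpa using card_sylow_eq (p := 2) (k := 4) (m := 45) (by rw [h]; norm_num) (by norm_num) S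
  have hlt : K' < S := by
    refine lt_of_le_of_ne hS ?_
    intro e
    rw [e, hScard] at hK'card
    omega
  obtain ⟨x, hxS, hxK, hxN⟩ := Cfsg.Agent.Lib.SmallSimple.SylowBasic.exists_mem_normalizer_not_mem
    S.isPGroup' hlt
  have hNtop : Subgroup.normalizer (K' : Set G) ≠ ⊤ := by
    intro e
    rw [Subgroup.normalizer_eq_top_iff] at e
    exact not_normal_of_card K' (by rw [hK'card]; norm_num) (by rw [hK'card, h]; norm_num) e
  have hNi : (Subgroup.normalizer (K' : Set G)).index ∣ C.index := Subgroup.index_dvd_of_le hCN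
  rw [h20] at hNi
  have hN8 := index_ge hG h _ hNtop
  have hNle : (Subgroup.normalizer (K' : Set G)).index ≤ 20 := Nat.le_of_dvd (by norm_num) hNi
  generalize hNidx : (Subgroup.normalizer (K' : Set G)).index = i at hNi hN8 hNle
  have hi : i = 10 ∨ i = 20 := by
    interval_cases i <;> first | omega | (exfalso; revert hNi; norm_num)
  rcases hi with rfl | rfl
  · exact ⟨_, _, hNidx, hCN, hV, hVC⟩
  exfalso
  -- then the normalizer is the centralizer
  have hNcard : Nat.card (Subgroup.normalizer (K' : Set G)) = 36 := by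
    have := (Subgroup.normalizer (K' : Set G)).card_mul_index
    rw [hNidx, h] at this
    omega
  have hCN' : C = Subgroup.normalizer (K' : Set G) := Subgroup.eq_of_le_of_card_ge hCN (by
    rw [hNcard, hcardC]
    norm_num)
  have hxC : x ∈ C := by rw [hCN']; exact hxN
  have hinf : Nat.card ((S : Subgroup G) ⊓ C : Subgroup G) ∣ 4 := by
    have h1 : Nat.card ((S : Subgroup G) ⊓ C : Subgroup G) ∣ 16 := by
      rw [← hScard]
      exact Subgroup.card_dvd_of_le inf_le_left
    have h2 : Nat.card ((S : Subgroup G) ⊓ C : Subgroup G) ∣ 36 := by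
      rw [show (36 : ℕ) = 3 ^ 2 * 4 by norm_num, ← hcardC]
      exact Subgroup.card_dvd_of_le inf_le_right
    exact Nat.dvd_gcd h1 h2
  have hK'le : K' ≤ (S : Subgroup G) ⊓ C := le_inf hS (Subgroup.map_subtype_le K)
  have hK'eq : K' = (S : Subgroup G) ⊓ C := Subgroup.eq_of_le_of_card_ge hK'le (by
    rw [hK'card]
    exact Nat.le_of_dvd (by norm_num) hinf)
  apply hxK
  rw [hK'eq]
  exact ⟨hxS, hxC⟩

/-- The Sylow `3`-subgroups of a simple group of order `720` intersect trivially. -/
theorem isTI_three (hG : ¬ IsMulCommutative G) (h : Nat.card G = 720) : IsTI 3 G := by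
  intro P R hne
  by_contra hbot
  obtain ⟨⟨w, hw⟩, hw1⟩ := Subgroup.ne_bot_iff_exists_ne_one.mp hbot
  have hw1' : w ≠ 1 := fun e => hw1 (Subtype.ext e)
  have hcardS : ∀ U : Sylow 3 G, Nat.card U = 9 := by
    intro U
    simpa using card_sylow_eq (p := 3) (k := 2) (m := 80) (by rw [h]; norm_num) (by norm_num) U
  have hle := Cfsg.Agent.Lib.SmallSimple.Inter.card_inf_le_of_ne hne
    (k := 2) (by rw [hcardS]; norm_num)
  have hd1 : orderOf w ∣ Nat.card ((P : Subgroup G) ⊓ (R : Subgroup G) : Subgroup G) := by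
    have := orderOf_dvd_natCard (⟨w, hw⟩ : ((P : Subgroup G) ⊓ (R : Subgroup G) : Subgroup G))
    rwa [Subgroup.orderOf_mk] at this
  have hd2 : orderOf w ∣ 9 := by
    rw [← hcardS P]
    have := orderOf_dvd_natCard (⟨w, hw.1⟩ : (P : Subgroup G))
    rwa [Subgroup.orderOf_mk] at this
  have hpos : 0 < Nat.card ((P : Subgroup G) ⊓ (R : Subgroup G) : Subgroup G) := Nat.card_pos
  have hle2 : orderOf w ≤ 3 := (Nat.le_of_dvd hpos hd1).trans (by simpa using hle)
  have hne1 : orderOf w ≠ 1 := by
    rw [Ne, orderOf_eq_one_iff]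
    exact hw1'
  have hne0 : orderOf w ≠ 0 := by
    intro h0
    rw [h0] at hd2
    omega
  have hw3 : orderOf w = 3 := by
    have : orderOf w = 2 ∨ orderOf w = 3 := by omega
    rcases this with h2 | h3
    · rw [h2] at hd2
      omega
    · exact h3
  obtain ⟨L, V, hL, hC, hV, hVC⟩ := exists_index_ten hG h hw3 hne hw.1 hw.2
  exact false_of_index_ten hG h L hL hw3 hC V hV hVC

/-- There are ten Sylow `3`-subgroups in a simple group of order `720`. -/
theorem card_sylow_three (hG : ¬ IsMulCommutative G) (h : Nat.card G = 720) :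
    Nat.card (Sylow 3 G) = 10 := by
  have hcardS : ∀ U : Sylow 3 G, Nat.card U = 3 ^ 2 := by
    intro U
    exact card_sylow_eq (p := 3) (k := 2) (m := 80) (by rw [h]; norm_num) (by norm_num) U
  have hm := card_sylow_mem_candidates (G := G) (p := 3) (k := 2) (m := 80) hG h
    (by norm_num) (by norm_num) (by norm_num)
  have hc' : candidates 720 3 2 80 = [10, 16, 40] := by decide +kernel
  rw [hc'] at hm
  by_contra hne
  have h40 : Nat.card (Sylow 3 G) = 16 ∨ Nat.card (Sylow 3 G) = 40 := by
    simp only [List.mem_cons, List.not_mem_nil, or_false] at hm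
    exact hm.resolve_left hne
  have hmod : ¬ Nat.card (Sylow 3 G) ≡ 1 [MOD 3 ^ 2] := by
    rcases h40 with h40 | h40 <;> rw [h40] <;> decide
  obtain ⟨P, R, hPR, hcard, -, -, -⟩ := exists_normal_inf (G := G) (p := 3) (k := 2) hmod hcardS
  have hbot := isTI_three hG h P R hPR
  rw [hbot] at hcard
  simp at hcard

end Cfsg.Agent.Lib.Small.Ord720a
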