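/-
Small simple groups of order 720: the two-point stabilizer on the Sylow 3-subgroups.
-/
import Cfsg.Agent.Lib.Small.Ord720a

set_option autoImplicit false
set_option linter.unusedSectionVars false
set_option linter.unusedVariables false

namespace Cfsg.Agent.Lib.Small.Ord720b

open Cfsg.Agent.Lib.Small.Basic Cfsg.Agent.Lib.Small.Sieve Cfsg.Agent.Lib.Small.TI
  Cfsg.Agent.Lib.Small.TI2 Cfsg.Agent.Lib.Small.TI3 Cfsg.Agent.Lib.Small.Low1
  Cfsg.Agent.Lib.Small.Low3 Cfsg.Agent.Lib.Small.Ord720a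

universe u

variable {G : Type u} [Group G] [Finite G] [IsSimpleGroup G]

theorem card_U (h : Nat.card G = 720) (U : Sylow 3 G) : Nat.card U = 9 := by
  simpa using card_sylow_eq (p := 3) (k := 2) (m := 80) (by rw [h]; norm_num) (by norm_num) U

theorem card_eq_add_one (hG : ¬ IsMulCommutative G) (h : Nat.card G = 720) (U : Sylow 3 G) :
    Nat.card (Sylow 3 G) = Nat.card U + 1 := by
  rw [card_sylow_three hG h, card_U h]

theorem faith (hG : ¬ IsMulCommutative G) (h : Nat.card G = 720) (g : G)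
    (hg : ∀ w : Sylow 3 G, g • w = w) : g = 1 :=
  smul_faithful hG 3 (by rw [h]; norm_num) g hg

/-- A non-trivial element fixes fewer than ten points. -/
theorem fix_lt (hG : ¬ IsMulCommutative G) (h : Nat.card G = 720) {g : G} (hg : g ≠ 1) :
    Nat.card {W : Sylow 3 G // g • W = W} < 10 := by
  have hn := card_sylow_three hG h
  have hle := card_subtype_le (Sylow 3 G) (fun W => g • W = W)
  rw [hn] at hle
  refine lt_of_le_of_ne hle ?_
  intro heq
  apply hg
  apply faith hG h
  intro W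
  have hsub : Function.Surjective (Subtype.val : {W : Sylow 3 G // g • W = W} → Sylow 3 G) := by
    have hinj : Function.Injective (Subtype.val : {W : Sylow 3 G // g • W = W} → Sylow 3 G) :=
      Subtype.val_injective
    exact ((Nat.bijective_iff_injective_and_card _).mpr ⟨hinj, by rw [heq, hn]⟩).2
  obtain ⟨w, rfl⟩ := hsub W
  exact w.2

/-- Moved points are counted by divisibility by four. -/
theorem four_dvd_fix (hG : ¬ IsMulCommutative G) (h : Nat.card G = 720) {t : G} (ht : t ^ 2 = 1) :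
    4 ∣ 10 - Nat.card {W : Sylow 3 G // t • W = W} := by
  have h4 := Cfsg.Agent.Lib.SmallSimple.Sign.four_dvd_card_sub_fixedBy hG (Ω := Sylow 3 G) t ht
  rw [card_sylow_three hG h] at h4
  exact h4

/-- An element of order `3` does not commute with an element of order `2`. -/
theorem no_three_two (hG : ¬ IsMulCommutative G) (h : Nat.card G = 720) {u t : G}
    (hu : orderOf u = 3) (ht : orderOf t = 2) (hc : u * t = t * u) : False := by
  classical
  have hTI := isTI_three hG h
  obtain ⟨U, huU⟩ := exists_sylow_of_orderOf hu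
  have hu1 : u ≠ 1 := by
    rintro rfl
    rw [orderOf_one] at hu
    omega
  have ht1 : t ≠ 1 := by
    rintro rfl
    rw [orderOf_one] at ht
    omega
  have huniq : ∀ W : Sylow 3 G, u • W = W → W = U := by
    intro W hW
    by_contra hne
    exact hu1 (eq_one_of_smul_eq hTI hne huU hW)
  have htU : t • U = U := by
    apply huniq
    rw [← mul_smul, hc, mul_smul, smul_self_of_mem U huU]
  let F : Sylow 3 G → Prop := fun W => t • W = W
  have h1 := card_fix_modEq hu F (by
    intro W hW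
    change t • u • W = u • W
    rw [← mul_smul, ← hc, mul_smul, hW])
  have hv : Nat.card {W // F W ∧ u • W = W} = 1 := by
    rw [Nat.card_eq_one_iff_unique]
    refine ⟨⟨fun a b => Subtype.ext ((huniq _ a.2.2).trans (huniq _ b.2.2).symm)⟩,
      ⟨⟨U, htU, smul_self_of_mem U huU⟩⟩⟩
  rw [hv] at h1
  have h4 := four_dvd_fix hG h (t := t) (by rw [← ht]; exact pow_orderOf_eq_one t)
  have hlt := fix_lt hG h ht1
  have h1' : Nat.card {W : Sylow 3 G // t • W = W} % 3 = 1 := h1
  omega

/-- A prime dividing the order. -/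
theorem dvd_orderOf_of_dvd_pow {x : G} {p k : ℕ} (hp : p.Prime) (hx : orderOf x ∣ p ^ k) (h1 : x ≠ 1) :
    p ∣ orderOf x := by
  have hne : orderOf x ≠ 1 := by
    rw [Ne, orderOf_eq_one_iff]
    exact h1
  obtain ⟨q, hq, hqd⟩ := Nat.exists_prime_and_dvd hne
  have := (Nat.prime_dvd_prime_iff_eq hq hp).mp (hq.dvd_of_dvd_pow (hqd.trans hx))
  rwa [this] at hqd

/-- No elements of order `6`. -/
theorem no_commute (hG : ¬ IsMulCommutative G) (h : Nat.card G = 720) {a b : G}
    (ha : 3 ∣ orderOf a) (hb : 2 ∣ orderOf b) (hc : a * b = b * a) : False := by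
  have ha0 : orderOf a ≠ 0 := by
    intro h0
    have : orderOf a ∣ Nat.card G := orderOf_dvd_natCard a
    rw [h0, h] at this
    omega
  have hb0 : orderOf b ≠ 0 := by
    intro h0
    have : orderOf b ∣ Nat.card G := orderOf_dvd_natCard b
    rw [h0, h] at this
    omega
  refine no_three_two hG h (orderOf_pow_orderOf_div ha0 ha) (orderOf_pow_orderOf_div hb0 hb) ?_
  exact (Commute.pow_pow hc _ _)

section torus

variable (hG : ¬ IsMulCommutative G) (h : Nat.card G = 720) {U V : Sylow 3 G}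

include hG h

theorem card_torus (hUV : V ≠ U) : Nat.card (torus U V) = 8 := by
  have h1 := card_normalizer_eq (isTI_three hG h) (card_eq_add_one hG h U) hUV
  have h2 := card_normalizer_mul U
  rw [h1, card_sylow_three hG h, h, card_U h] at h2
  omega

theorem orderOf_torus_dvd (hUV : V ≠ U) {x : G} (hx : x ∈ torus U V) : orderOf x ∣ 2 ^ 3 := by
  have := orderOf_dvd_natCard (⟨x, hx⟩ : torus U V)
  rw [Subgroup.orderOf_mk, card_torus hG h hUV] at this
  exact this

theorem orderOf_U_dvd {u : G} (hu : u ∈ U) : orderOf u ∣ 3 ^ 2 := by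
  have := orderOf_dvd_natCard (⟨u, hu⟩ : (U : Subgroup G))
  rw [Subgroup.orderOf_mk, card_U h] at this
  exact this

theorem torus_conj_mem {τ u : G} (hτ : τ ∈ torus U V) (hu : u ∈ U) : τ * u * τ⁻¹ ∈ U := by
  have h1 : τ ∈ Subgroup.normalizer ((U : Subgroup G) : Set G) := hτ.1
  exact (Subgroup.mem_normalizer_iff.mp h1 u).mp hu

/-- The torus acts freely on the other points. -/
theorem torus_free (hUV : V ≠ U) {τ : G} (hτ : τ ∈ torus U V) {W : Sylow 3 G} (hWU : W ≠ U)
    (hWV : W ≠ V) (hW : τ • W = W) : τ = 1 := by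
  classical
  have hTI := isTI_three hG h
  obtain ⟨u, huU, rfl⟩ := exists_smul_eq hTI (card_eq_add_one hG h U) hUV hWU
  have hu1 : u ≠ 1 := by
    rintro rfl
    exact hWV (one_smul _ _)
  have hτU := (mem_torus.mp hτ).1
  have hτV := (mem_torus.mp hτ).2
  have hu' := torus_conj_mem hG h hτ huU
  have h1 : (u⁻¹ * (τ * u * τ⁻¹)) • V = V := by
    have h2 : (τ * u * τ⁻¹) • V = u • V := by
      rw [mul_smul, mul_smul]
      have h3 : τ⁻¹ • V = V := by
        rw [inv_smul_eq_iff, hτV]
      rw [h3]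
      exact hW
    rw [mul_smul, h2, inv_smul_smul]
  have h2 := eq_one_of_smul_eq hTI hUV (U.mul_mem (U.inv_mem huU) hu') h1
  have h3 : τ * u * τ⁻¹ = u := (inv_injective (mul_eq_one_iff_eq_inv.mp h2)).symm
  by_contra hτ1
  exact no_commute hG h (dvd_orderOf_of_dvd_pow (by norm_num) (orderOf_U_dvd hG h huU) hu1)
    (dvd_orderOf_of_dvd_pow (by norm_num) (orderOf_torus_dvd hG h hUV hτ) hτ1)
    (mul_inv_eq_iff_eq_mul.mp h3).symm

/-- Involutions of the torus invert `U`. -/
theorem inv_of_involution (hUV : V ≠ U) {t u : G} (ht : t ∈ torus U V) (ho : orderOf t = 2)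
    (hu : u ∈ U) : t * u * t⁻¹ = u⁻¹ := by
  have hab : IsMulCommutative U := isMulCommutative_of_card_le_two (p := 3) (k := 2)
    (by norm_num) (by rw [card_U h]; norm_num)
  have hcU : ∀ a ∈ (U : Subgroup G), ∀ b ∈ (U : Subgroup G), a * b = b * a := by
    intro a ha b hb
    exact congrArg Subtype.val (mul_comm' (⟨a, ha⟩ : (U : Subgroup G)) ⟨b, hb⟩)
  have hv := torus_conj_mem hG h ht hu
  set v := t * u * t⁻¹ with hvdef
  have ht2 : t * t = 1 := by
    have := pow_orderOf_eq_one t
    rw [ho, pow_two] at this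
    exact this
  have hti : t⁻¹ = t := (inv_eq_of_mul_eq_one_left ht2)
  have htv : t * v * t⁻¹ = u := by
    rw [hvdef, hti]
    calc t * (t * u * t) * t = (t * t) * u * (t * t) := by group
      _ = u := by rw [ht2]; group
  have hc : (u * v) * t = t * (u * v) := by
    have h1 : t * (u * v) * t⁻¹ = u * v := by
      calc t * (u * v) * t⁻¹ = (t * u * t⁻¹) * (t * v * t⁻¹) := by group
        _ = v * u := by rw [htv]
        _ = u * v := hcU _ hv _ hu
    exact (mul_inv_eq_iff_eq_mul.mp h1).symm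
  by_contra hne
  have ha1 : u * v ≠ 1 := by
    intro h1
    exact hne (eq_inv_of_mul_eq_one_right h1)
  exact no_commute hG h (dvd_orderOf_of_dvd_pow (by norm_num) (orderOf_U_dvd hG h (U.mul_mem hu hv)) ha1)
    (by rw [ho]) hc

/-- The involution in the torus is unique. -/
theorem involution_unique (hUV : V ≠ U) {t t' : G} (ht : t ∈ torus U V) (ho : orderOf t = 2)
    (ht' : t' ∈ torus U V) (ho' : orderOf t' = 2) : t = t' := by
  have h1 : t * t' = 1 := by
    apply eq_one_of_commute (isTI_three hG h) (card_eq_add_one hG h U) hUV (faith hG h)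
      ((torus U V).mul_mem ht ht')
    intro u hu
    have h2 := inv_of_involution hG h hUV ht' ho' hu
    have h3 := inv_of_involution hG h hUV ht ho (U.inv_mem hu)
    have h4 : t * t' * u * (t * t')⁻¹ = u := by
      calc t * t' * u * (t * t')⁻¹ = t * (t' * u * t'⁻¹) * t⁻¹ := by group
        _ = u := by rw [h2, h3, inv_inv]
    exact (mul_inv_eq_iff_eq_mul.mp h4)
  have ht2 : t * t = 1 := by
    have := pow_orderOf_eq_one t
    rw [ho, pow_two] at this
    exact this
  exact ((eq_inv_of_mul_eq_one_right h1).trans (inv_eq_of_mul_eq_one_left ht2)).symm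

/-- No element of order eight in the torus: it would act as an odd permutation. -/
theorem order_ne_eight (hUV : V ≠ U) {x : G} (hx : x ∈ torus U V) : orderOf x ≠ 8 := by
  classical
  intro h8
  have := Fintype.ofFinite (Sylow 3 G)
  let f := MulAction.toPermHom G (Sylow 3 G)
  have hinj : Function.Injective f := by
    intro a b hab
    have h1 : a⁻¹ * b = 1 := by
      apply faith hG h
      intro W
      have h2 : a • W = b • W := congrFun (congrArg DFunLike.coe hab) W
      rw [mul_smul, ← h2, inv_smul_smul]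
    have := mul_eq_one_iff_eq_inv.mp h1
    rw [inv_inj] at this
    exact this
  have hsgn : Equiv.Perm.sign (f x) = 1 := hom_mem_alternating hG f x
  have hord : orderOf (f x) = 8 := by rw [orderOf_injective f hinj, h8]
  have hx1 : x ≠ 1 := by
    rintro rfl
    rw [orderOf_one] at h8
    omega
  have hs : (f x).support = (Finset.univ.erase U).erase V := by
    ext W
    simp only [Equiv.Perm.mem_support, Finset.mem_erase, Finset.mem_univ, and_true, ne_eq]
    constructor
    · intro hW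
      refine ⟨?_, ?_⟩
      · rintro rfl
        exact hW (mem_torus.mp hx).2
      · rintro rfl
        exact hW (mem_torus.mp hx).1
    · rintro ⟨h1, h2⟩ hW
      exact hx1 (torus_free hG h hUV hx h2 h1 hW)
  have hcardS : Fintype.card (Sylow 3 G) = 10 := by
    rw [← Nat.card_eq_fintype_card, card_sylow_three hG h]
  have hsupp : (f x).support.card = 8 := by
    rw [hs, Finset.card_erase_of_mem (by simp [hUV]), Finset.card_erase_of_mem (Finset.mem_univ U),
      Finset.card_univ, hcardS]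
  have hsum := (f x).sum_cycleType
  have hlcm := (f x).lcm_cycleType
  rw [hsupp] at hsum
  rw [hord] at hlcm
  have h8mem : 8 ∈ (f x).cycleType := by
    by_contra hnot
    have hd : (f x).cycleType.lcm ∣ 4 := by
      refine Multiset.lcm_dvd.mpr (fun n hn => ?_)
      have h1 : n ∣ 8 := by
        have := Equiv.Perm.dvd_of_mem_cycleType hn
        rwa [hord] at this
      have h2 : n ≤ 8 := Nat.le_of_dvd (by norm_num) h1
      have h3 : n ≠ 8 := fun e => hnot (e ▸ hn)
      interval_cases n <;> omega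
    rw [hlcm] at hd
    omega
  obtain ⟨s, hs'⟩ := Multiset.exists_cons_of_mem h8mem
  have hs0 : s = 0 := by
    rw [hs', Multiset.sum_cons] at hsum
    have h0 : s.sum = 0 := by omega
    rw [Multiset.sum_eq_zero_iff] at h0
    apply Multiset.eq_zero_of_forall_notMem
    intro n hn
    have h2 := Equiv.Perm.two_le_of_mem_cycleType (σ := f x) (n := n) (by
      rw [hs']
      exact Multiset.mem_cons_of_mem hn)
    have h3 := h0 n hn
    omega
  rw [Equiv.Perm.sign_of_cycleType, hs', hs0] at hsgn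
  simp at hsgn
  revert hsgn
  decide

theorem exists_involution (hUV : V ≠ U) : ∃ t ∈ torus U V, orderOf t = 2 := by
  obtain ⟨t, ht⟩ := exists_prime_orderOf_dvd_card' (G := torus U V) 2 (by
    rw [card_torus hG h hUV]
    norm_num)
  exact ⟨t, t.2, by rw [Subgroup.orderOf_coe, ht]⟩

/-- Elements of the torus. -/
theorem torus_sq (hUV : V ≠ U) {t₀ : G} (ht₀ : t₀ ∈ torus U V) (ho₀ : orderOf t₀ = 2) {x : G}
    (hx : x ∈ torus U V) : x = 1 ∨ x = t₀ ∨ x ^ 2 = t₀ := by
  have hd := orderOf_torus_dvd hG h hUV hx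
  have h8 := order_ne_eight hG h hUV hx
  obtain ⟨i, hi, hx8⟩ := (Nat.dvd_prime_pow (by norm_num)).mp hd
  have hi' : i = 0 ∨ i = 1 ∨ i = 2 ∨ i = 3 := by omega
  rcases hi' with rfl | rfl | rfl | rfl
  · left
    rw [← orderOf_eq_one_iff, hx8]
    rfl
  · right; left
    exact involution_unique hG h hUV hx (by rw [hx8]; rfl) ht₀ ho₀
  · right; right
    refine involution_unique hG h hUV ((torus U V).pow_mem hx 2) ?_ ht₀ ho₀
    have h1 : orderOf x = 4 := by rw [hx8]; rfl
    have h2 := orderOf_pow_orderOf_div (x := x) (n := 2) (by omega) (by rw [h1]; norm_num)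
    rw [h1] at h2
    exact h2
  · exact absurd hx8 h8

/-- The involution is central. -/
theorem involution_central (hUV : V ≠ U) {t₀ : G} (ht₀ : t₀ ∈ torus U V) (ho₀ : orderOf t₀ = 2)
    {x : G} (hx : x ∈ torus U V) : x * t₀ = t₀ * x := by
  have h1 : x * t₀ * x⁻¹ = t₀ := by
    refine involution_unique hG h hUV ((torus U V).mul_mem ((torus U V).mul_mem hx ht₀)
      ((torus U V).inv_mem hx)) ?_ ht₀ ho₀
    rw [← ho₀]
    exact orderOf_injective (MulAut.conj x).toMonoidHom (MulAut.conj x).injective t₀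
  exact mul_inv_eq_iff_eq_mul.mp h1

/-- Commutators in the torus. -/
theorem torus_comm (hUV : V ≠ U) {t₀ : G} (ht₀ : t₀ ∈ torus U V) (ho₀ : orderOf t₀ = 2) {a b : G}
    (ha : a ∈ torus U V) (hb : b ∈ torus U V) : a * b * a⁻¹ * b⁻¹ = 1 ∨ a * b * a⁻¹ * b⁻¹ = t₀ := by
  have h2 : t₀ * t₀ = 1 := by
    have := pow_orderOf_eq_one t₀
    rw [ho₀, pow_two] at this
    exact this
  have hi : t₀⁻¹ = t₀ := inv_eq_of_mul_eq_one_left h2
  have hsq : ∀ x ∈ torus U V, x ^ 2 = 1 ∨ x ^ 2 = t₀ := by
    intro x hx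
    rcases torus_sq hG h hUV ht₀ ho₀ hx with rfl | rfl | h3
    · left
      simp
    · left
      rw [pow_two, h2]
    · right
      exact h3
  have hc : b * (a ^ 2)⁻¹ = (a ^ 2)⁻¹ * b := by
    rcases hsq a ha with h3 | h3 <;> rw [h3]
    · simp
    · rw [hi]
      exact involution_central hG h hUV ht₀ ho₀ hb
  have key : a * b * a⁻¹ * b⁻¹ = (a * b) ^ 2 * (a ^ 2)⁻¹ * (b ^ 2)⁻¹ := by
    calc a * b * a⁻¹ * b⁻¹ = a * b * a * ((a ^ 2)⁻¹ * b) * (b ^ 2)⁻¹ := by group
      _ = a * b * a * (b * (a ^ 2)⁻¹) * (b ^ 2)⁻¹ := by rw [hc]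
      _ = (a * b) ^ 2 * (a ^ 2)⁻¹ * (b ^ 2)⁻¹ := by
        rw [pow_two (a * b)]
        group
  rw [key]
  rcases hsq a ha with h3 | h3 <;> rcases hsq b hb with h4 | h4 <;>
    rcases hsq (a * b) ((torus U V).mul_mem ha hb) with h5 | h5 <;> rw [h3, h4, h5] <;>
    simp [hi, h2]

theorem card_others (hUV : V ≠ U) : Nat.card {W : Sylow 3 G // W ≠ U ∧ W ≠ V} = 8 := by
  classical
  have := Fintype.ofFinite (Sylow 3 G)
  have hcardS : Fintype.card (Sylow 3 G) = 10 := by
    rw [← Nat.card_eq_fintype_card, card_sylow_three hG h]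
  rw [Nat.card_eq_fintype_card, Fintype.card_subtype]
  have h1 : (Finset.univ.filter (fun W : Sylow 3 G => W ≠ U ∧ W ≠ V)) =
      (Finset.univ.erase U).erase V := by
    ext W
    simp only [Finset.mem_filter, Finset.mem_univ, true_and, Finset.mem_erase, ne_eq, and_true]
    tauto
  rw [h1, Finset.card_erase_of_mem (by simp [hUV]), Finset.card_erase_of_mem (Finset.mem_univ U),
    Finset.card_univ, hcardS]

/-- The torus acts transitively on the other points. -/
theorem torus_surj (hUV : V ≠ U) {W₀ W₁ : Sylow 3 G} (h0U : W₀ ≠ U) (h0V : W₀ ≠ V) (h1U : W₁ ≠ U)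
    (h1V : W₁ ≠ V) : ∃ τ ∈ torus U V, τ • W₀ = W₁ := by
  have hne : ∀ τ ∈ torus U V, τ • W₀ ≠ U ∧ τ • W₀ ≠ V := by
    intro τ hτ
    constructor
    · intro e
      rw [← (mem_torus.mp hτ).1] at e
      exact h0U (smul_left_cancel τ e)
    · intro e
      rw [← (mem_torus.mp hτ).2] at e
      exact h0V (smul_left_cancel τ e)
  let f : torus U V → {W : Sylow 3 G // W ≠ U ∧ W ≠ V} := fun τ => ⟨(τ : G) • W₀, hne τ τ.2⟩
  have hinj : Function.Injective f := by
    intro a b hab
    have h2 : (a : G) • W₀ = (b : G) • W₀ := congrArg Subtype.val hab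
    have h3 : ((a : G)⁻¹ * (b : G)) • W₀ = W₀ := by
      rw [mul_smul, ← h2, inv_smul_smul]
    have h4 := torus_free hG h hUV ((torus U V).mul_mem ((torus U V).inv_mem a.2) b.2) h0U h0V h3
    have h5 := mul_eq_one_iff_eq_inv.mp h4
    rw [inv_inj] at h5
    exact Subtype.ext h5
  have hbij := (Nat.bijective_iff_injective_and_card f).mpr
    ⟨hinj, by rw [card_torus hG h hUV, card_others hG h hUV]⟩
  obtain ⟨τ, hτ⟩ := hbij.2 ⟨W₁, h1U, h1V⟩
  exact ⟨τ, τ.2, congrArg Subtype.val hτ⟩

/-- An involution swapping the two points and fixing a third. -/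
theorem exists_swap (hUV : V ≠ U) :
    ∃ (j : G) (W₀ : Sylow 3 G), j • U = V ∧ j • V = U ∧ W₀ ≠ U ∧ W₀ ≠ V ∧ j • W₀ = W₀ ∧ j ^ 2 = 1 := by
  have hTI := isTI_three hG h
  obtain ⟨g₀, hg₀⟩ := MulAction.exists_smul_eq G U V
  have hY : g₀ • V ≠ V := by
    intro e
    exact hUV (smul_left_cancel g₀ (e.trans hg₀.symm))
  obtain ⟨v, hvV, hv⟩ := exists_smul_eq hTI (card_eq_add_one hG h V) hY hUV.symm
  have hvfix : v • V = V := smul_self_of_mem V hvV
  have hgU : (v * g₀) • U = V := by rw [mul_smul, hg₀, hvfix]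
  have hgV : (v * g₀) • V = U := by rw [mul_smul, hv]
  have hpos : 0 < Nat.card {W : Sylow 3 G // W ≠ U ∧ W ≠ V} := by
    rw [card_others hG h hUV]
    norm_num
  obtain ⟨⟨⟨W₀, h0U, h0V⟩⟩, -⟩ := Nat.card_pos_iff.mp hpos
  set g := v * g₀ with hg
  have h1U : g • W₀ ≠ U := by
    intro e
    rw [← hgV] at e
    exact h0V (smul_left_cancel g e)
  have h1V : g • W₀ ≠ V := by
    intro e
    rw [← hgU] at e
    exact h0U (smul_left_cancel g e)
  obtain ⟨τ, hτ, hτW⟩ := torus_surj hG h hUV h0U h0V h1U h1V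
  have hτU := (mem_torus.mp hτ).1
  have hτV := (mem_torus.mp hτ).2
  have hτU' : τ⁻¹ • U = U := by rw [inv_smul_eq_iff, hτU]
  have hτV' : τ⁻¹ • V = V := by rw [inv_smul_eq_iff, hτV]
  have hjU : (τ⁻¹ * g) • U = V := by rw [mul_smul, hgU, hτV']
  have hjV : (τ⁻¹ * g) • V = U := by rw [mul_smul, hgV, hτU']
  have hjW : (τ⁻¹ * g) • W₀ = W₀ := by rw [mul_smul, ← hτW, inv_smul_smul]
  refine ⟨τ⁻¹ * g, W₀, hjU, hjV, h0U, h0V, hjW, ?_⟩
  refine torus_free hG h hUV (W := W₀) ?_ h0U h0V ?_
  · refine mem_torus.mpr ⟨?_, ?_⟩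
    · rw [pow_two, mul_smul, hjU, hjV]
    · rw [pow_two, mul_smul, hjV, hjU]
  · rw [pow_two, mul_smul, hjW, hjW]

end torus

end Cfsg.Agent.Lib.Small.Ord720b
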