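/-
Small simple groups: there is no simple group of order 720.
-/
import Cfsg.Agent.Lib.Small.Ord720b

set_option autoImplicit false
set_option linter.unusedSectionVars false
set_option linter.unusedVariables false

namespace Cfsg.Agent.Lib.Small.Ord720c

open scoped commutatorElement

open Cfsg.Agent.Lib.Small.Basic Cfsg.Agent.Lib.Small.Sieve Cfsg.Agent.Lib.Small.TI
  Cfsg.Agent.Lib.Small.TI2 Cfsg.Agent.Lib.Small.TI3 Cfsg.Agent.Lib.Small.Low1
  Cfsg.Agent.Lib.Small.Low3 Cfsg.Agent.Lib.Small.Ord720a Cfsg.Agent.Lib.Small.Ord720b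
  Cfsg.Agent.Lib.Small.Transfer2

universe u

variable {G : Type u} [Group G] [Finite G] [IsSimpleGroup G]

section torus

variable (hG : ¬ IsMulCommutative G) (h : Nat.card G = 720) {U V : Sylow 3 G}

include hG h

/-- The normalizer is the product of the Sylow subgroup and the torus. -/
theorem exists_decomp (hUV : V ≠ U) {g : G} (hg : g ∈ Subgroup.normalizer ((U : Subgroup G) : Set G)) :
    ∃ u ∈ U, ∃ τ ∈ torus U V, g = u * τ := by
  have hTI := isTI_three hG h
  have hgU : g • U = U := Sylow.smul_eq_iff_mem_normalizer.mpr hg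
  have h1 : g • V ≠ U := by
    intro e
    exact hUV (smul_left_cancel g (e.trans hgU.symm))
  obtain ⟨u, huU, hu⟩ := exists_smul_eq hTI (card_eq_add_one hG h U) hUV h1
  refine ⟨u, huU, u⁻¹ * g, mem_torus.mpr ⟨?_, ?_⟩, by group⟩
  · rw [mul_smul, hgU, inv_smul_eq_iff, smul_self_of_mem U huU]
  · rw [mul_smul, ← hu, inv_smul_smul]

/-- The fixed points of `j` correspond to the centralizer of `j` in the torus. -/
theorem card_fix_eq (hUV : V ≠ U) {j : G} {W₀ : Sylow 3 G} (hjU : j • U = V) (hjV : j • V = U)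
    (h0U : W₀ ≠ U) (h0V : W₀ ≠ V) (hjW : j • W₀ = W₀) :
    Nat.card (torus U V ⊓ Subgroup.centralizer ({j} : Set G) : Subgroup G) =
      Nat.card {W : Sylow 3 G // j • W = W} := by
  have hcj : ∀ τ : (torus U V ⊓ Subgroup.centralizer ({j} : Set G) : Subgroup G),
      j * (τ : G) = τ * j := fun τ => (Subgroup.mem_centralizer_iff.mp τ.2.2) j rfl
  let f : (torus U V ⊓ Subgroup.centralizer ({j} : Set G) : Subgroup G) →
      {W : Sylow 3 G // j • W = W} := fun τ => ⟨(τ : G) • W₀, by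
        rw [← mul_smul, hcj τ, mul_smul, hjW]⟩
  have hinj : Function.Injective f := by
    intro a b hab
    have h2 : (a : G) • W₀ = (b : G) • W₀ := congrArg Subtype.val hab
    have h3 : ((a : G)⁻¹ * (b : G)) • W₀ = W₀ := by
      rw [mul_smul, ← h2, inv_smul_smul]
    have h4 := torus_free hG h hUV ((torus U V).mul_mem ((torus U V).inv_mem a.2.1) b.2.1) h0U h0V h3
    have h5 := mul_eq_one_iff_eq_inv.mp h4
    rw [inv_inj] at h5
    exact Subtype.ext h5
  have hsurj : Function.Surjective f := by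
    rintro ⟨W, hW⟩
    have hWU : W ≠ U := by
      rintro rfl
      exact hUV (hjU.symm.trans hW)
    have hWV : W ≠ V := by
      rintro rfl
      exact hUV (hW.symm.trans hjV)
    obtain ⟨τ, hτ, hτW⟩ := torus_surj hG h hUV h0U h0V hWU hWV
    have hjinvU : j⁻¹ • V = U := by rw [inv_smul_eq_iff, hjU]
    have hjinvV : j⁻¹ • U = V := by rw [inv_smul_eq_iff, hjV]
    have hjinvW : j⁻¹ • W₀ = W₀ := by rw [inv_smul_eq_iff, hjW]
    have hτU := (mem_torus.mp hτ).1
    have hτV := (mem_torus.mp hτ).2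
    have hy : τ⁻¹ * (j * τ * j⁻¹) ∈ torus U V := by
      refine (torus U V).mul_mem ((torus U V).inv_mem hτ) (mem_torus.mpr ⟨?_, ?_⟩)
      · rw [mul_smul, mul_smul, hjinvV, hτV, hjV]
      · rw [mul_smul, mul_smul, hjinvU, hτU, hjU]
    have hyW : (τ⁻¹ * (j * τ * j⁻¹)) • W₀ = W₀ := by
      rw [mul_smul, mul_smul, mul_smul, hjinvW, hτW, hW, ← hτW, inv_smul_smul]
    have h1 := torus_free hG h hUV hy h0U h0V hyW
    have h2 := mul_eq_one_iff_eq_inv.mp h1
    rw [inv_inj] at h2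
    have h3 : j * τ = τ * j := mul_inv_eq_iff_eq_mul.mp h2.symm
    refine ⟨⟨τ, Subgroup.mem_inf.mpr ⟨hτ, Subgroup.mem_centralizer_iff.mpr ?_⟩⟩, Subtype.ext hτW⟩
    intro b hb
    rw [Set.mem_singleton_iff] at hb
    subst hb
    exact h3
  exact Nat.card_congr (Equiv.ofBijective f ⟨hinj, hsurj⟩)

/-- An element of the torus commuting with `j` has square one. -/
theorem sq_eq_one_of_commute (hUV : V ≠ U) {j : G} {W₀ : Sylow 3 G} (hjU : j • U = V) (hjV : j • V = U)
    (h0U : W₀ ≠ U) (h0V : W₀ ≠ V) (hjW : j • W₀ = W₀) (hj2 : j ^ 2 = 1) {x : G}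
    (hx : x ∈ torus U V) (hc : j * x = x * j) : x ^ 2 = 1 := by
  have hcard := card_fix_eq hG h hUV hjU hjV h0U h0V hjW
  have hd : Nat.card (torus U V ⊓ Subgroup.centralizer ({j} : Set G) : Subgroup G) ∣ 8 := by
    rw [← card_torus hG h hUV]
    exact Subgroup.card_dvd_of_le inf_le_left
  have h4 := four_dvd_fix hG h hj2
  rw [← hcard] at h4
  have hxC : x ∈ (torus U V ⊓ Subgroup.centralizer ({j} : Set G) : Subgroup G) := by
    refine Subgroup.mem_inf.mpr ⟨hx, Subgroup.mem_centralizer_iff.mpr ?_⟩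
    intro b hb
    rw [Set.mem_singleton_iff] at hb
    subst hb
    exact hc
  have hox := orderOf_dvd_natCard (⟨x, hxC⟩ : (torus U V ⊓ Subgroup.centralizer ({j} : Set G) : Subgroup G))
  rw [Subgroup.orderOf_mk] at hox
  generalize Nat.card (torus U V ⊓ Subgroup.centralizer ({j} : Set G) : Subgroup G) = c at hd h4 hox
  have hc8 : c ≤ 8 := Nat.le_of_dvd (by norm_num) hd
  have hc2 : c = 2 := by
    interval_cases c <;> first | rfl | omega
  rw [hc2] at hox
  exact orderOf_dvd_iff_pow_eq_one.mp hox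

/-- Transfer to the abelianization of the normalizer. -/
theorem transfer_key (hUV : V ≠ U) {j : G} (hjU : j • U = V) (hjV : j • V = U) {t₀ : G}
    (ht₀ : t₀ ∈ torus U V) (ho₀ : orderOf t₀ = 2) {x : G} (hx : x ∈ torus U V) :
    x * (j⁻¹ * x * j) = 1 ∨ x * (j⁻¹ * x * j) = t₀ := by
  classical
  have hTI := isTI_three hG h
  set L : Subgroup G := Subgroup.normalizer ((U : Subgroup G) : Set G) with hL
  have hmemL : ∀ g, g ∈ L ↔ g • U = U := fun g => Sylow.smul_eq_iff_mem_normalizer.symm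
  let φ : L →* Abelianization L := Abelianization.of
  let Tr : G →* Abelianization L := MonoidHom.transfer φ
  have hTr : ∀ g, Tr g = 1 := by
    rcases hom_trivial_or_injective Tr with h1 | h1
    · exact h1
    · exfalso
      apply hG
      exact ⟨⟨fun a b => h1 (by rw [map_mul, map_mul, mul_comm])⟩⟩
  have h₁ : (1 : G)⁻¹ * x * 1 ∈ L := by
    simp only [inv_one, one_mul, mul_one]
    exact hx.1
  have hjinvU : j⁻¹ • V = U := by rw [inv_smul_eq_iff, hjU]
  have hjinvV : j⁻¹ • U = V := by rw [inv_smul_eq_iff, hjV]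
  have hy : j⁻¹ * x * j ∈ torus U V := by
    refine mem_torus.mpr ⟨?_, ?_⟩
    · rw [mul_smul, mul_smul, hjU, (mem_torus.mp hx).2, hjinvU]
    · rw [mul_smul, mul_smul, hjV, (mem_torus.mp hx).1, hjinvV]
  have h₂ : j⁻¹ * x * j ∈ L := hy.1
  have hne : ((1 : G) : G ⧸ L) ≠ (j : G ⧸ L) := by
    intro e
    rw [QuotientGroup.eq] at e
    have hj : j ∈ L := by simpa using e
    rw [hmemL, hjU] at hj
    exact hUV hj
  have hother : ∀ q : G ⧸ L, q ≠ ((1 : G) : G ⧸ L) → q ≠ (j : G ⧸ L) →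
      x ^ Function.minimalPeriod (x • ·) q = 1 := by
    intro q hq1 hqj
    induction q using QuotientGroup.induction_on with
    | H c =>
      set m := Function.minimalPeriod (x • ·) (c : G ⧸ L)
      have hper : (x ^ m) • (c : G ⧸ L) = (c : G ⧸ L) := by
        have h1 := Function.isPeriodicPt_minimalPeriod (x • ·) (c : G ⧸ L)
        rw [Function.IsPeriodicPt, Function.IsFixedPt, smul_iterate] at h1
        exact h1
      have hc : c⁻¹ * (x ^ m * c) ∈ L := by
        have h1 : ((x ^ m * c : G) : G ⧸ L) = (c : G ⧸ L) := hper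
        rw [QuotientGroup.eq] at h1
        have h2 := L.inv_mem h1
        simpa [mul_assoc] using h2
      have hWfix : x ^ m • (c • U) = c • U := by
        have h1 : (c⁻¹ * (x ^ m * c)) • U = U := (hmemL _).mp hc
        rw [mul_smul, inv_smul_eq_iff, mul_smul] at h1
        exact h1
      have hWU : c • U ≠ U := by
        intro e
        apply hq1
        rw [QuotientGroup.eq]
        have h1 : c ∈ L := (hmemL c).mpr e
        simpa using L.inv_mem h1
      have hWV : c • U ≠ V := by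
        intro e
        apply hqj
        rw [QuotientGroup.eq, hmemL, mul_smul, hjU, ← e, inv_smul_smul]
      exact torus_free hG h hUV ((torus U V).pow_mem hx m) hWU hWV hWfix
  have htr := transfer_eq_mul φ h₁ h₂ hne hother
  have h3 : φ ((⟨_, h₁⟩ : L) * ⟨_, h₂⟩) = 1 := by
    rw [map_mul, ← htr]
    exact hTr x
  have h4 : ((⟨_, h₁⟩ : L) * ⟨_, h₂⟩) ∈ commutator L := by
    rw [← Abelianization.ker_of]
    exact h3
  -- the quotient by `U`
  let U' : Subgroup L := (U : Subgroup G).subgroupOf L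
  have hU'n : U'.Normal := Subgroup.normal_in_normalizer
  let π := QuotientGroup.mk' U'
  let t' : L := ⟨t₀, ht₀.1⟩
  let K₁ : Subgroup L := (Subgroup.zpowers (π t')).comap π
  have hdec : ∀ a : L, ∃ τ, ∃ hτ : τ ∈ torus U V, π a = π ⟨τ, hτ.1⟩ := by
    intro a
    obtain ⟨u₁, hu₁, τ₁, hτ₁, ha⟩ := exists_decomp hG h hUV a.2
    refine ⟨τ₁, hτ₁, ?_⟩
    apply (QuotientGroup.eq).mpr
    rw [Subgroup.mem_subgroupOf]
    have h5 := torus_conj_mem hG h ((torus U V).inv_mem hτ₁) (U.inv_mem hu₁)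
    have h6 : (((a : L)⁻¹ * ⟨τ₁, hτ₁.1⟩ : L) : G) = τ₁⁻¹ * u₁⁻¹ * τ₁⁻¹⁻¹ := by
      change (a : G)⁻¹ * τ₁ = _
      rw [ha]
      group
    rw [h6]
    exact h5
  have hle : commutator L ≤ K₁ := by
    rw [commutator_def, Subgroup.commutator_le]
    intro a _ b _
    obtain ⟨τ₁, hτ₁, ha⟩ := hdec a
    obtain ⟨τ₂, hτ₂, hb⟩ := hdec b
    rw [Subgroup.mem_comap, map_commutatorElement, ha, hb, ← map_commutatorElement]
    rcases torus_comm hG h hUV ht₀ ho₀ hτ₁ hτ₂ with h5 | h5
    · have h6 : ⁅(⟨τ₁, hτ₁.1⟩ : L), (⟨τ₂, hτ₂.1⟩ : L)⁆ = 1 := by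
        apply Subtype.ext
        exact h5
      rw [h6, map_one]
      exact one_mem _
    · have h6 : ⁅(⟨τ₁, hτ₁.1⟩ : L), (⟨τ₂, hτ₂.1⟩ : L)⁆ = t' := by
        apply Subtype.ext
        exact h5
      rw [h6]
      exact Subgroup.mem_zpowers _
  have ht2 : t₀ * t₀ = 1 := by
    have := pow_orderOf_eq_one t₀
    rw [ho₀, pow_two] at this
    exact this
  have hz2 : (π t') ^ (2 : ℤ) = 1 := by
    have h6 : t' * t' = 1 := Subtype.ext ht2
    rw [zpow_two, ← map_mul, h6, map_one]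
  have hYval : (((⟨_, h₁⟩ : L) * ⟨_, h₂⟩ : L) : G) = x * (j⁻¹ * x * j) := by
    change (1 : G)⁻¹ * x * 1 * (j⁻¹ * x * j) = _
    group
  have hYT : x * (j⁻¹ * x * j) ∈ torus U V := (torus U V).mul_mem hx hy
  have hUT : ∀ g ∈ torus U V, g ∈ (U : Subgroup G) → g = 1 := by
    intro g hg hgU
    exact eq_one_of_smul_eq hTI hUV hgU (mem_torus.mp hg).2
  obtain ⟨k, hk⟩ := Subgroup.mem_zpowers_iff.mp (hle h4)
  rcases Int.even_or_odd' k with ⟨m, rfl | rfl⟩
  · left
    rw [zpow_mul, hz2, one_zpow] at hk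
    have h5 : ((⟨_, h₁⟩ : L) * ⟨_, h₂⟩ : L) ∈ U' := (QuotientGroup.eq_one_iff _).mp hk.symm
    rw [Subgroup.mem_subgroupOf, hYval] at h5
    exact hUT _ hYT h5
  · right
    rw [zpow_add, zpow_mul, hz2, one_zpow, one_mul, zpow_one] at hk
    have h5 : (t' : L)⁻¹ * ((⟨_, h₁⟩ : L) * ⟨_, h₂⟩ : L) ∈ U' := (QuotientGroup.eq).mp hk
    rw [Subgroup.mem_subgroupOf, Subgroup.coe_mul, hYval] at h5
    have h6 := hUT _ ((torus U V).mul_mem ((torus U V).inv_mem ht₀) hYT) h5
    have h7 := mul_eq_one_iff_eq_inv.mp h6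
    rw [inv_inj] at h7
    exact h7.symm

end torus

/-- **There is no non-abelian simple group of order 720.** -/
theorem false_720 (hG : ¬ IsMulCommutative G) (h : Nat.card G = 720) : False := by
  classical
  -- two points
  obtain ⟨U⟩ : Nonempty (Sylow 3 G) := inferInstance
  have hex : ∃ V : Sylow 3 G, V ≠ U := by
    by_contra hcon
    push Not at hcon
    have hsub : Subsingleton (Sylow 3 G) := ⟨fun a b => (hcon a).trans (hcon b).symm⟩
    have := card_sylow_three hG h
    rw [Nat.card_of_subsingleton U] at this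
    omega
  obtain ⟨V, hUV⟩ := hex
  obtain ⟨t₀, ht₀, ho₀⟩ := exists_involution hG h hUV
  obtain ⟨j, W₀, hjU, hjV, h0U, h0V, hjW, hj2⟩ := exists_swap hG h hUV
  have hT := card_torus hG h hUV
  have ht2 : t₀ ^ 2 = 1 := by
    rw [← ho₀]
    exact pow_orderOf_eq_one t₀
  have ht1 : t₀ ≠ 1 := by
    rintro rfl
    rw [orderOf_one] at ho₀
    omega
  have hji : j⁻¹ = j := by
    apply inv_eq_of_mul_eq_one_left
    rw [← pow_two]
    exact hj2
  -- `x ∉ {1, t₀}` is inverted
  have hinv : ∀ x ∈ torus U V, x ≠ 1 → x ≠ t₀ → j⁻¹ * x * j = x⁻¹ := by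
    intro x hx hx1 hxt
    have hsq : x ^ 2 = t₀ := by
      rcases torus_sq hG h hUV ht₀ ho₀ hx with h1 | h1 | h1
      · exact absurd h1 hx1
      · exact absurd h1 hxt
      · exact h1
    rcases transfer_key hG h hUV hjU hjV ht₀ ho₀ hx with h1 | h1
    · exact eq_inv_of_mul_eq_one_right h1
    · exfalso
      have h2 : j⁻¹ * x * j = x := by
        rw [← hsq, pow_two] at h1
        exact mul_left_cancel h1
      have h3 : j * x = x * j := by
        rw [hji] at h2
        have h4 : j * x * j * j = x * j := by rw [h2]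
        rw [mul_assoc (j * x), ← pow_two, hj2, mul_one] at h4
        exact h4
      have h4 := sq_eq_one_of_commute hG h hUV hjU hjV h0U h0V hjW hj2 hx h3
      rw [hsq] at h4
      exact ht1 h4
  -- choose `x`
  have hZ : Subgroup.zpowers t₀ < torus U V := by
    refine lt_of_le_of_ne ((Subgroup.zpowers_le).mpr ht₀) ?_
    intro e
    have h1 : Nat.card (Subgroup.zpowers t₀) = 2 := by rw [Nat.card_zpowers, ho₀]
    rw [e, hT] at h1
    omega
  obtain ⟨x, hx, hxZ⟩ := SetLike.exists_of_lt hZ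
  have hx1 : x ≠ 1 := fun e => hxZ (e ▸ one_mem _)
  have hxt : x ≠ t₀ := fun e => hxZ (e ▸ Subgroup.mem_zpowers _)
  have hxsq : x ^ 2 = t₀ := by
    rcases torus_sq hG h hUV ht₀ ho₀ hx with h1 | h1 | h1
    · exact absurd h1 hx1
    · exact absurd h1 hxt
    · exact h1
  have hxo : orderOf x = 4 := by
    have h4 : x ^ 2 ^ 2 = 1 := by
      rw [pow_two 2, pow_mul, hxsq, ht2]
    have := orderOf_eq_prime_pow (p := 2) (n := 1) (x := x) (by
      rw [pow_one, hxsq]
      exact ht1) h4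
    simpa using this
  have hX : Subgroup.zpowers x < torus U V := by
    refine lt_of_le_of_ne ((Subgroup.zpowers_le).mpr hx) ?_
    intro e
    have h1 : Nat.card (Subgroup.zpowers x) = 4 := by rw [Nat.card_zpowers, hxo]
    rw [e, hT] at h1
    omega
  obtain ⟨y, hy, hyX⟩ := SetLike.exists_of_lt hX
  have ht₀X : t₀ ∈ Subgroup.zpowers x := by
    rw [← hxsq]
    exact Subgroup.pow_mem _ (Subgroup.mem_zpowers x) 2
  have hy1 : y ≠ 1 := fun e => hyX (e ▸ one_mem _)
  have hyt : y ≠ t₀ := fun e => hyX (e ▸ ht₀X)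
  have hyxy : x * y ∉ Subgroup.zpowers x := by
    intro hmem
    apply hyX
    have h1 := Subgroup.mul_mem _ (Subgroup.inv_mem _ (Subgroup.mem_zpowers x)) hmem
    simpa using h1
  have hxy1 : x * y ≠ 1 := fun e => hyxy (e ▸ one_mem _)
  have hxyt : x * y ≠ t₀ := fun e => hyxy (e ▸ ht₀X)
  have hxyT := (torus U V).mul_mem hx hy
  have e1 := hinv x hx hx1 hxt
  have e2 := hinv y hy hy1 hyt
  have e3 := hinv (x * y) hxyT hxy1 hxyt
  have hconj : j⁻¹ * (x * y) * j = (j⁻¹ * x * j) * (j⁻¹ * y * j) := by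
    rw [hji]
    calc j * (x * y) * j = j * x * 1 * y * j := by group
      _ = j * x * (j * j) * y * j := by rw [← pow_two, hj2]
      _ = _ := by group
  rw [hconj, e1, e2, mul_inv_rev] at e3
  have hcomm : x * y = y * x := by
    have h1 := congrArg (fun z => z⁻¹) e3
    simpa using h1.symm
  have hysq : y ^ 2 = t₀ := by
    rcases torus_sq hG h hUV ht₀ ho₀ hy with h1 | h1 | h1
    · exact absurd h1 hy1
    · exact absurd h1 hyt
    · exact h1
  have hxysq : (x * y) ^ 2 = 1 := by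
    rw [(Commute.mul_pow hcomm 2), hxsq, hysq, ← pow_two, ht2]
  rcases torus_sq hG h hUV ht₀ ho₀ hxyT with h1 | h1 | h1
  · exact hxy1 h1
  · exact hxyt h1
  · rw [hxysq] at h1
    exact ht1 h1.symm

end Cfsg.Agent.Lib.Small.Ord720c
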