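/-
A simple group of order 2520: the local data at 5 and 7, and three characters.
-/
import Cfsg.Agent.Lib.Small.Master2
import Cfsg.Agent.Lib.BrauerU.Deg
import Cfsg.Agent.Lib.BrauerP.Main
import Cfsg.Agent.Lib.Char.RealOdd

set_option autoImplicit false
set_option linter.unusedSectionVars false
set_option linter.unusedVariables false

namespace Cfsg.Agent.Lib.Small.A7Chars

open Cfsg Module
open Cfsg.Agent.Lib.Small.Master2 Cfsg.Agent.Lib.Small.Real
open Cfsg.Agent.Lib.Char.Basic Cfsg.Agent.Lib.Char.Ortho Cfsg.Agent.Lib.Char.Complete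
open Cfsg.Agent.Lib.Char.Degree Cfsg.Agent.Lib.Char.Induced
open Cfsg.Agent.Lib.ExcP.Gram Cfsg.Agent.Lib.ExcP.Dual Cfsg.Agent.Lib.ExcP.Core
open Cfsg.Agent.Lib.ExcP.Inst Cfsg.Agent.Lib.ExcP.BlockHA
open Cfsg.Agent.Lib.BrauerP.Fourier Cfsg.Agent.Lib.BrauerP.Data Cfsg.Agent.Lib.BrauerP.Data.BD
open Cfsg.Agent.Lib.BrauerU.Deg
open scoped ComplexConjugate Classical commutatorElement

universe u

variable {G : Type u} [Group G] [Finite G] [IsSimpleGroup G]

/-- The row of the prime `7`. -/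
theorem row7 (hG : ¬ IsMulCommutative G) (h : Nat.card G = 2520) [Fact (Nat.Prime 7)] :
    ∃ Q : Sylow 7 G, Nat.card ((Q : Subgroup G)) = 7 ∧ Nat.card (Sylow 7 G) = 120 ∧
      Nat.card (Subgroup.centralizer ((Q : Subgroup G) : Set G)) = 7 ∧
      Nat.card (Subgroup.normalizer ((Q : Subgroup G) : Set G)) = 21 := by
  by_contra hcon
  refine false_by_prime2 hG h (p := 7) (two := 2) (dmin := 1) (by norm_num) (by norm_num)
    (by norm_num) (by norm_num) (by norm_num) (by norm_num) [(120, 3)] ?_ (by decide +kernel)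
  intro Q n e K hmem hQ hn he he1 hm hC hNo
  simp only [List.mem_cons, List.not_mem_nil, or_false, Prod.mk.injEq] at hmem
  obtain ⟨rfl, rfl⟩ := hmem
  have hK : K = 1 := by omega
  subst hK
  exact hcon ⟨Q, hQ, hn, by simpa using hC, by simpa using hNo⟩

/-- The row of the prime `5`. -/
theorem row5 (hG : ¬ IsMulCommutative G) (h : Nat.card G = 2520) [Fact (Nat.Prime 5)] :
    ∃ Q : Sylow 5 G, Nat.card ((Q : Subgroup G)) = 5 ∧ Nat.card (Sylow 5 G) = 126 ∧
      Nat.card (Subgroup.centralizer ((Q : Subgroup G) : Set G)) = 5 ∧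
      Nat.card (Subgroup.normalizer ((Q : Subgroup G) : Set G)) = 20 := by
  by_contra hcon
  refine false_by_prime2 hG h (p := 5) (two := 2) (dmin := 1) (by norm_num) (by norm_num)
    (by norm_num) (by norm_num) (by norm_num) (by norm_num) [(126, 4)] ?_ (by decide +kernel)
  intro Q n e K hmem hQ hn he he1 hm hC hNo
  simp only [List.mem_cons, List.not_mem_nil, or_false, Prod.mk.injEq] at hmem
  obtain ⟨rfl, rfl⟩ := hmem
  have hK : K = 1 := by omega
  subst hK
  exact hcon ⟨Q, hQ, hn, by simpa using hC, by simpa using hNo⟩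

/-- The data of the principal block, from a row. -/
theorem exists_data_of_row {p e : ℕ} [hp : Fact p.Prime] [Fintype G] [Fintype (IrrCharacter G)]
    (hodd : p ≠ 2) (hN2 : ¬ p ^ 2 ∣ Nat.card G) (Q : Sylow p G) (hQ : Nat.card ((Q : Subgroup G)) = p)
    (hC : Nat.card (Subgroup.centralizer ((Q : Subgroup G) : Set G)) = p)
    (hNo : Nat.card (Subgroup.normalizer ((Q : Subgroup G) : Set G)) = e * p)
    [Fintype (Q : Subgroup G)] [Fintype (DD (Q : Subgroup G) p)] :
    Nonempty (BD (Q : Subgroup G) p e hQ) := by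
  obtain ⟨M, hM⟩ := Cfsg.Agent.Lib.BlockH.Basic.exists_isPModular hp.out
  have hN : Nat.card (Nn (Q : Subgroup G)) = e * Nat.card (Cn (Q : Subgroup G)) := by
    show Nat.card (Subgroup.normalizer ((Q : Subgroup G) : Set G)) =
      e * Nat.card (Subgroup.centralizer ((Q : Subgroup G) : Set G))
    rw [hNo, hC]
  have hle : Cn (Q : Subgroup G) ≤ Nn (Q : Subgroup G) := Subgroup.centralizer_le_normalizer _
  have he : (Cn (Q : Subgroup G)).relIndex (Nn (Q : Subgroup G)) = e := by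
    have h1 := Subgroup.card_mul_index ((Cn (Q : Subgroup G)).subgroupOf (Nn (Q : Subgroup G)))
    have h2 : Nat.card ((Cn (Q : Subgroup G)).subgroupOf (Nn (Q : Subgroup G))) =
        Nat.card (Cn (Q : Subgroup G)) :=
      Nat.card_congr (Subgroup.subgroupOfEquivOfLe hle).toEquiv
    rw [h2, hN, mul_comm] at h1
    have h3 : 0 < Nat.card (Cn (Q : Subgroup G)) := Nat.card_pos
    exact Nat.eq_of_mul_eq_mul_right h3 h1
  have hcount : Nat.card (principalBlock M G) = e + (p - 1) / e :=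
    (Cfsg.Agent.S0960.result p M hM hodd Q hQ e he).1
  exact exists_BD hM hQ hN2 e hN hodd hcount

/-- All degrees are `0`, `1` or `-1` modulo `5`. -/
theorem deg_mod5 (hG : ¬ IsMulCommutative G) (h : Nat.card G = 2520) [Fintype G]
    [Fintype (IrrCharacter G)] (j : IrrCharacter G) :
    charDegree (j : G → ℂ) % 5 = 0 ∨ charDegree (j : G → ℂ) % 5 = 1 ∨
      charDegree (j : G → ℂ) % 5 = 4 := by
  haveI : Fact (Nat.Prime 5) := ⟨by norm_num⟩
  obtain ⟨Q, hQ, hn, hC, hNo⟩ := row5 hG h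
  letI : Fintype (Q : Subgroup G) := Fintype.ofFinite _
  have hN2 : ¬ 5 ^ 2 ∣ Nat.card G := by rw [h]; norm_num
  have := finite_DD (p := 5) (P := (Q : Subgroup G)) hQ hN2
  letI : Fintype (DD (Q : Subgroup G) 5) := Fintype.ofFinite _
  obtain ⟨D⟩ := exists_data_of_row (e := 4) (by norm_num) hN2 Q hQ hC (by rw [hNo])
  have hCe : Cn (Q : Subgroup G) = (Q : Subgroup G) :=
    (Subgroup.eq_of_le_of_card_ge (le_centralizer hQ) (by
      show Nat.card (Subgroup.centralizer ((Q : Subgroup G) : Set G)) ≤ _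
      rw [hC, hQ])).symm
  by_cases hz : D.z j = 0
  · by_cases hr : j ∈ Set.range D.ν
    · obtain ⟨i, rfl⟩ := hr
      have h1 := D.deg_ν hN2 i
      rw [D.hνdeg]
      rcases D.hε with h2 | h2 <;> rw [h2] at h1 <;> push_cast at h1 <;> omega
    · left
      have h1 := D.deg_other hN2 hCe hz hr
      rw [h1]
      omega
  · have h1 := D.deg_z hN2 hz
    rcases D.hz j with h2 | h2 | h2
    · exact absurd h2 hz
    · rw [h2] at h1
      push_cast at h1
      omega
    · rw [h2] at h1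
      push_cast at h1
      omega

/-- The numerics of the block at `7`. -/
theorem arith7 {za zb ε : ℤ} {da db D a1 a2 a3 : ℕ} (hza : za = 1 ∨ za = -1) (hzb : zb = 1 ∨ zb = -1)
    (hε : ε = 1 ∨ ε = -1) (h1 : (da : ℤ) = 6 * za + 7 * a1) (h2 : (db : ℤ) = 6 * zb + 7 * a2)
    (h3 : (D : ℤ) = ε * 3 + 7 * a3) (d1 : da ∣ 360) (d2 : db ∣ 360) (d3 : D ∣ 360)
    (l1 : da ≤ 50) (l2 : db ≤ 50) (l3 : D ≤ 50) (n1 : da ≠ 1) (n2 : db ≠ 1)
    (m1 : da % 5 = 0 ∨ da % 5 = 1 ∨ da % 5 = 4) (m2 : db % 5 = 0 ∨ db % 5 = 1 ∨ db % 5 = 4)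
    (m3 : D % 5 = 0 ∨ D % 5 = 1 ∨ D % 5 = 4) (hrel : -1 + za * da + zb * db + ε * D = 0) :
    (za = 1 ∧ da = 6 ∧ zb = -1 ∧ db = 15 ∧ ε = 1 ∧ D = 10) ∨
    (zb = 1 ∧ db = 6 ∧ za = -1 ∧ da = 15 ∧ ε = 1 ∧ D = 10) ∨
    (za = 1 ∧ da = 20 ∧ zb = -1 ∧ db = 15 ∧ ε = -1 ∧ D = 4) ∨
    (zb = 1 ∧ db = 20 ∧ za = -1 ∧ da = 15 ∧ ε = -1 ∧ D = 4) := by
  have key : ∀ (z : ℤ) (d a : ℕ), (z = 1 ∨ z = -1) → (d : ℤ) = 6 * z + 7 * a → d ∣ 360 → d ≤ 50 →
      d ≠ 1 → (d % 5 = 0 ∨ d % 5 = 1 ∨ d % 5 = 4) →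
      (z = 1 ∧ d = 6) ∨ (z = 1 ∧ d = 20) ∨ (z = -1 ∧ d = 15) ∨ (z = -1 ∧ d = 36) := by
    intro z d a hz h hd hl hn hm
    have hd0 : 0 < d := Nat.pos_of_dvd_of_pos hd (by norm_num)
    interval_cases d <;> first | (exfalso; revert hd; decide) | omega
  have key3 : ∀ (z : ℤ) (d a : ℕ), (z = 1 ∨ z = -1) → (d : ℤ) = z * 3 + 7 * a → d ∣ 360 → d ≤ 50 →
      (d % 5 = 0 ∨ d % 5 = 1 ∨ d % 5 = 4) →
      (z = 1 ∧ d = 10) ∨ (z = 1 ∧ d = 24) ∨ (z = 1 ∧ d = 45) ∨ (z = -1 ∧ d = 4) := by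
    intro z d a hz h hd hl hm
    have hd0 : 0 < d := Nat.pos_of_dvd_of_pos hd (by norm_num)
    interval_cases d <;> first | (exfalso; revert hd; decide) | omega
  rcases key za da a1 hza h1 d1 l1 n1 m1 with ⟨rfl, rfl⟩ | ⟨rfl, rfl⟩ | ⟨rfl, rfl⟩ | ⟨rfl, rfl⟩ <;>
  rcases key zb db a2 hzb h2 d2 l2 n2 m2 with ⟨rfl, rfl⟩ | ⟨rfl, rfl⟩ | ⟨rfl, rfl⟩ | ⟨rfl, rfl⟩ <;>
  rcases key3 ε D a3 hε h3 d3 l3 m3 with ⟨rfl, rfl⟩ | ⟨rfl, rfl⟩ | ⟨rfl, rfl⟩ | ⟨rfl, rfl⟩ <;>
  first | (exfalso; norm_num at hrel; done) | simp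

/-- A non-abelian simple group is perfect. -/
theorem perfect (hG : ¬ IsMulCommutative G) : commutator G = ⊤ := by
  rcases IsSimpleGroup.eq_bot_or_eq_top_of_normal (commutator G) (by infer_instance) with h1 | h1
  · exfalso
    apply hG
    refine ⟨⟨fun a b => ?_⟩⟩
    have h2 : ⁅a, b⁆ ∈ commutator G := by
      rw [commutator_def]
      exact Subgroup.commutator_mem_commutator (Subgroup.mem_top a) (Subgroup.mem_top b)
    rw [h1, Subgroup.mem_bot, commutatorElement_eq_one_iff_mul_comm] at h2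
    exact h2
  · exact h1

/-- The block cannot have exceptional characters of degree `4`. -/
theorem false_of_four {P : Subgroup G} [Fintype G] [Fintype (IrrCharacter G)] (hQ : Nat.card P = 7)
    [hf7 : Fact (Nat.Prime 7)] [Fintype P] [Fintype (DD P 7)] (D : BD P 7 3 hQ)
    (hN2 : ¬ 7 ^ 2 ∣ Nat.card G) (hCe : Cn P = P) (a b : IrrCharacter G)
    (hz' : ∀ j, D.z j ≠ 0 → j = oneIrr G ∨ j = a ∨ j = b) (hza : D.z a = 1)
    (hda : charDegree (a : G → ℂ) = 20) (hzb : D.z b = -1) (hdb : charDegree (b : G → ℂ) = 15)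
    (hε : D.ε = -1) (hD : D.D₀ = 4) (ht2 : D.t = 2) : False := by
  obtain ⟨u, hu⟩ := exists_ne_one (G := G) (p := 7) (P := P) hQ
  have hu' : (u : G) ≠ 1 := fun h => hu (Subtype.ext h)
  let i₁ : Fin D.t := ⟨0, by omega⟩
  let i₂ : Fin D.t := ⟨1, by omega⟩
  have hi₁₂ : i₁ ≠ i₂ := by simp [i₁, i₂, Fin.ext_iff]
  have huniv : ∀ i : Fin D.t, i = i₁ ∨ i = i₂ := by
    intro i
    have h1 := i.2
    rcases Nat.lt_or_ge i.1 1 with h2 | h2
    · left; apply Fin.ext; show i.1 = 0; omega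
    · right; apply Fin.ext; show i.1 = 1; omega
  have hfin : (Finset.univ : Finset (Fin D.t)) = {i₁, i₂} := by
    ext i
    simp only [Finset.mem_univ, Finset.mem_insert, Finset.mem_singleton, true_iff]
    exact huniv i
  set ν₁ : IrrCharacter G := D.ν i₁ with hν₁
  set ν₂ : IrrCharacter G := D.ν i₂ with hν₂
  have hν12 : ν₁ ≠ ν₂ := fun h => hi₁₂ (D.hνinj h)
  set A : ℂ := (ν₁ : G → ℂ) u with hA
  set B : ℂ := (ν₂ : G → ℂ) u with hB
  have hAB : A + B = 1 := by
    have hsum : ∑ i, (D.ν i : G → ℂ) u = -(D.ε : ℂ) := by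
      simp only [D.val_ν hN2 _ hu]
      rw [← Finset.mul_sum]
      have h2 : ∑ i, ∑ d ∈ Finset.univ.filter (fun d => D.c d = i), dv hQ d u = ∑ d, dv hQ d u := by
        rw [Finset.sum_fiberwise]
      rw [h2, sum_dv hQ hN2 hu]
      ring
    rw [hfin, Finset.sum_pair hi₁₂, hε] at hsum
    simpa using hsum
  have hd1 : charDegree (ν₁ : G → ℂ) = 4 := by rw [hν₁, D.hνdeg, hD]
  have hd2 : charDegree (ν₂ : G → ℂ) = 4 := by rw [hν₂, D.hνdeg, hD]
  have hzν₁ : D.z ν₁ = 0 := D.hνz _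
  have hzν₂ : D.z ν₂ = 0 := D.hνz _
  have hv1 : ((oneIrr G : IrrCharacter G) : G → ℂ) u = 1 := by simp [oneIrr]
  have hva : (a : G → ℂ) u = -1 := by
    rw [D.val_z hN2 (j := a) (by rw [hza]; norm_num) hu, hza]
    simp
  have hvb : (b : G → ℂ) u = 1 := by
    rw [D.val_z hN2 (j := b) (by rw [hzb]; norm_num) hu, hzb]
    simp
  have hother : ∀ j : IrrCharacter G, j ≠ oneIrr G → j ≠ a → j ≠ b → j ≠ ν₁ → j ≠ ν₂ →
      (j : G → ℂ) u = 0 := by
    intro j h1 h2 h3 h4 h5
    have hj : D.z j = 0 := by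
      by_contra h6
      rcases hz' j h6 with h7 | h7 | h7
      · exact h1 h7
      · exact h2 h7
      · exact h3 h7
    refine D.val_other hN2 hCe hj ?_ hu
    rintro ⟨i, rfl⟩
    rcases huniv i with rfl | rfl
    · exact h4 rfl
    · exact h5 rfl
  have hone_z : D.z (oneIrr G) = -1 := D.hzone
  have h1a : oneIrr G ≠ a := fun h => by rw [h, hza] at hone_z; norm_num at hone_z
  have h1b : oneIrr G ≠ b := fun h => by
    have h2 := charDegree_oneIrr (G := G)
    rw [h, hdb] at h2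
    norm_num at h2
  have hab : a ≠ b := fun h => by rw [h, hzb] at hza; norm_num at hza
  have h1ν₁ : oneIrr G ≠ ν₁ := fun h => by rw [h, hzν₁] at hone_z; norm_num at hone_z
  have h1ν₂ : oneIrr G ≠ ν₂ := fun h => by rw [h, hzν₂] at hone_z; norm_num at hone_z
  have haν₁ : a ≠ ν₁ := fun h => by rw [h, hzν₁] at hza; norm_num at hza
  have haν₂ : a ≠ ν₂ := fun h => by rw [h, hzν₂] at hza; norm_num at hza
  have hbν₁ : b ≠ ν₁ := fun h => by rw [h, hzν₁] at hzb; norm_num at hzb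
  have hbν₂ : b ≠ ν₂ := fun h => by rw [h, hzν₂] at hzb; norm_num at hzb
  -- column orthogonality
  have hcol : A * conj A + B * conj B = 4 := by
    have h1 := sum_irr_mul_conj (G := G) (u : G) (u : G)
    rw [if_pos (IsConj.refl _), ← centralizer_singleton_eq hQ u.2 hu'] at h1
    have h2 : Nat.card (Cn P) = 7 := by
      rw [hCe]; exact hQ
    rw [h2] at h1
    have h3 : ∑ χ : IrrCharacter G, (χ : G → ℂ) u * conj ((χ : G → ℂ) u) =
        ∑ χ ∈ ({oneIrr G, a, b, ν₁, ν₂} : Finset (IrrCharacter G)),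
          (χ : G → ℂ) u * conj ((χ : G → ℂ) u) := by
      symm
      apply Finset.sum_subset (Finset.subset_univ _)
      intro j _ hj
      simp only [Finset.mem_insert, Finset.mem_singleton, not_or] at hj
      rw [hother j hj.1 hj.2.1 hj.2.2.1 hj.2.2.2.1 hj.2.2.2.2]
      simp
    rw [h3, Finset.sum_insert (by simp [h1a, h1b, h1ν₁, h1ν₂]),
      Finset.sum_insert (by simp [hab, haν₁, haν₂]), Finset.sum_insert (by simp [hbν₁, hbν₂]),
      Finset.sum_pair hν12, hv1, hva, hvb] at h1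
    simp only [map_one, map_neg, mul_one, mul_neg, neg_neg] at h1
    push_cast at h1
    linear_combination h1
  have hBe : B = 1 - A := by linear_combination hAB
  -- the conjugate of `ν₁`
  have hdegc : charDegree ((conjI ν₁ : IrrCharacter G) : G → ℂ) = 4 := by
    rw [degree_conjI, hd1]
  have hA0 : A ≠ 0 := by
    intro h0
    rw [hBe, h0] at hcol
    simp only [map_zero, mul_zero, zero_add, sub_zero, map_one, mul_one] at hcol
    norm_num at hcol
  have hconj : conj A = A ∨ conj A = B := by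
    have hz0 : D.z (conjI ν₁) = 0 := by
      by_contra h6
      rcases hz' _ h6 with h7 | h7 | h7
      · rw [h7, charDegree_oneIrr] at hdegc
        norm_num at hdegc
      · rw [h7, hda] at hdegc
        norm_num at hdegc
      · rw [h7, hdb] at hdegc
        norm_num at hdegc
    by_cases hr : conjI ν₁ ∈ Set.range D.ν
    · obtain ⟨i, hi⟩ := hr
      rcases huniv i with rfl | rfl
      · left
        show (conjI ν₁ : IrrCharacter G).1 u = _
        rw [← hi]
      · right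
        show (conjI ν₁ : IrrCharacter G).1 u = _
        rw [← hi]
    · exfalso
      have h1 := D.val_other hN2 hCe hz0 hr hu
      apply hA0
      have h2 : conj A = 0 := h1
      simpa using h2
  rcases hconj with hc | hc
  · -- real values
    have hcB : conj B = B := by
      rw [hBe, map_sub, map_one, hc]
    rw [hc, hcB] at hcol
    have hprod : 2 * (A * B) = -3 := by
      linear_combination (A + B + 1) * hAB - hcol
    have hint : IsIntegral ℤ (A * B) :=
      (Cfsg.Agent.Lib.Char.RealOdd.isIntegral_irr ν₁.2 u).mul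
        (Cfsg.Agent.Lib.Char.RealOdd.isIntegral_irr ν₂.2 u)
    have h3 : IsIntegral ℤ (((3 : ℕ) : ℂ) / ((2 : ℕ) : ℂ)) := by
      have h4 := hint.neg
      convert h4 using 1
      push_cast
      linear_combination (1 / 2 : ℂ) * hprod
    have h5 := Cfsg.Agent.Lib.Char.Central.nat_dvd_of_isIntegral_div (by norm_num) h3
    omega
  · -- the conjugate pair
    have hcB : conj B = A := by
      rw [← hc, Complex.conj_conj]
    rw [hc, hcB] at hcol
    have hprod : A * B = 2 := by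
      linear_combination (1 / 2 : ℂ) * hcol
    have hsq : A * A = A - 2 := by
      rw [hBe] at hprod
      linear_combination -hprod
    have hre : A.re = 1 / 2 := by
      have h1 : A + conj A = 1 := by rw [hc]; exact hAB
      have h2 := congrArg Complex.re h1
      simp only [Complex.add_re, Complex.conj_re, Complex.one_re] at h2
      linarith
    obtain ⟨m, hm⟩ := exists_nat_combination (isCharacter_mul (isCharacter_of_isIrrCharacter ν₁.2)
      (isCharacter_of_isIrrCharacter ν₁.2))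
    have hmg : ∀ g : G, (ν₁ : G → ℂ) g * (ν₁ : G → ℂ) g = ∑ i, (m i : ℂ) * (i : G → ℂ) g := by
      intro g
      have h1 := congrFun hm g
      simp only [Finset.sum_apply] at h1
      refine h1.trans ?_
      refine Finset.sum_congr rfl fun i _ => ?_
      simp
    have hm1 := hmg 1
    have hmu := hmg (u : G)
    -- the multiplicity of `a`
    have hma : m a = 0 := by
      have h1 : (16 : ℂ) = ∑ i, (m i : ℂ) * ((charDegree (i : G → ℂ) : ℕ) : ℂ) := by
        have h2 : ∀ i : IrrCharacter G, (i : G → ℂ) 1 = ((charDegree (i : G → ℂ) : ℕ) : ℂ) :=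
          fun i => (charDegree_natCast (isCharacter_of_isIrrCharacter i.2)).symm
        simp only [h2] at hm1
        rw [← hm1, hd1]
        norm_num
      have h2 : (16 : ℕ) = ∑ i, m i * charDegree (i : G → ℂ) := by
        exact_mod_cast h1
      have h3 : m a * charDegree (a : G → ℂ) ≤ ∑ i, m i * charDegree (i : G → ℂ) :=
        Finset.single_le_sum (f := fun i : IrrCharacter G => m i * charDegree (i : G → ℂ))
          (fun _ _ => Nat.zero_le _) (Finset.mem_univ a)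
      rw [← h2, hda] at h3
      omega
    -- the real part
    have h1 : (A * A).re = ∑ i, (m i : ℝ) * (((i : G → ℂ) u).re) := by
      have h2 : A * A = ∑ i, (m i : ℂ) * (i : G → ℂ) u := hmu
      rw [h2, Complex.re_sum]
      refine Finset.sum_congr rfl fun i _ => ?_
      simp
    have h2 : (0 : ℝ) ≤ ∑ i, (m i : ℝ) * (((i : G → ℂ) u).re) := by
      apply Finset.sum_nonneg
      intro i _
      by_cases hi1 : i = oneIrr G
      · rw [hi1, hv1]
        simp
      by_cases hi2 : i = a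
      · rw [hi2, hma]
        simp
      by_cases hi3 : i = b
      · rw [hi3, hvb]
        simp
      by_cases hi4 : i = ν₁
      · rw [hi4]
        show 0 ≤ (m ν₁ : ℝ) * A.re
        rw [hre]
        positivity
      by_cases hi5 : i = ν₂
      · rw [hi5]
        show 0 ≤ (m ν₂ : ℝ) * B.re
        rw [hBe]
        simp only [Complex.sub_re, Complex.one_re, hre]
        have : (0 : ℝ) ≤ m ν₂ := by positivity
        linarith
      rw [hother i hi1 hi2 hi3 hi4 hi5]
      simp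
    rw [← h1, hsq] at h2
    simp only [Complex.sub_re, hre] at h2
    norm_num at h2

/-- The principal `7`-block has characters of degrees `1, 6, 15, 10, 10`. -/
theorem exists_chars (hG : ¬ IsMulCommutative G) (h : Nat.card G = 2520) [Fintype G]
    [Fintype (IrrCharacter G)] :
    ∃ F ν₁ ν₂ : IrrCharacter G, charDegree (F : G → ℂ) = 6 ∧ charDegree (ν₁ : G → ℂ) = 10 ∧
      charDegree (ν₂ : G → ℂ) = 10 ∧ ν₁ ≠ ν₂ := by
  haveI hf7 : Fact (Nat.Prime 7) := ⟨by norm_num⟩
  obtain ⟨Q, hQ, hn, hC, hNo⟩ := row7 hG h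
  set P : Subgroup G := (Q : Subgroup G) with hPdef
  letI : Fintype P := Fintype.ofFinite _
  have hN2 : ¬ 7 ^ 2 ∣ Nat.card G := by rw [h]; norm_num
  have := finite_DD (p := 7) (P := P) hQ hN2
  letI : Fintype (DD P 7) := Fintype.ofFinite _
  obtain ⟨D⟩ := exists_data_of_row (e := 3) (by norm_num) hN2 Q hQ hC (by rw [hNo])
  have hCe : Cn P = P :=
    (Subgroup.eq_of_le_of_card_ge (le_centralizer hQ) (by
      show Nat.card (Subgroup.centralizer ((Q : Subgroup G) : Set G)) ≤ _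
      rw [hC, hQ])).symm
  have hperf : commutator G = ⊤ := perfect hG
  have hlin := Cfsg.Agent.Lib.BrauerP.Main.hlin_of_perfect (G := G) hperf
  have hGn : Nat.card G = Nat.card (Cn P) * (3 * 120) := by
    show _ = Nat.card (Subgroup.centralizer ((Q : Subgroup G) : Set G)) * _
    rw [h, hC]
  have ht2 : D.t = 2 := by
    have := D.hte
    omega
  have hle50 : ∀ j : IrrCharacter G, charDegree (j : G → ℂ) ≤ 50 := by
    intro j
    have h1 := charDegree_sq_le j
    rw [h] at h1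
    nlinarith
  -- the members of the block with `z ≠ 0`
  obtain ⟨a, b, hab, hS⟩ : ∃ a b : IrrCharacter G, a ≠ b ∧
      (Finset.univ.filter (fun j => D.z j ≠ 0)).erase (oneIrr G) = {a, b} := by
    apply Finset.card_eq_two.mp
    rw [Finset.card_erase_of_mem (by simp [D.hzone]), D.hcard]
  have hamem : a ∈ (Finset.univ.filter (fun j => D.z j ≠ 0)).erase (oneIrr G) := by
    rw [hS]; simp
  have hbmem : b ∈ (Finset.univ.filter (fun j => D.z j ≠ 0)).erase (oneIrr G) := by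
    rw [hS]; simp
  obtain ⟨ha1, hza0⟩ := Finset.mem_erase.mp hamem
  obtain ⟨hb1, hzb0⟩ := Finset.mem_erase.mp hbmem
  have hza0' : D.z a ≠ 0 := (Finset.mem_filter.mp hza0).2
  have hzb0' : D.z b ≠ 0 := (Finset.mem_filter.mp hzb0).2
  have hz' : ∀ j, D.z j ≠ 0 → j = oneIrr G ∨ j = a ∨ j = b := by
    intro j hj
    by_cases hj1 : j = oneIrr G
    · exact Or.inl hj1
    · right
      have : j ∈ (Finset.univ.filter (fun j => D.z j ≠ 0)).erase (oneIrr G) :=
        Finset.mem_erase.mpr ⟨hj1, Finset.mem_filter.mpr ⟨Finset.mem_univ _, hj⟩⟩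
      rw [hS] at this
      simpa using this
  have hrel : (-1 : ℤ) + D.z a * (charDegree (a : G → ℂ) : ℤ) + D.z b * (charDegree (b : G → ℂ) : ℤ) +
      D.ε * (D.D₀ : ℤ) = 0 := by
    have h1 := D.deg_rel
    have h2 : ∑ j, D.z j * (charDegree (j : G → ℂ) : ℤ) =
        ∑ j ∈ ({oneIrr G, a, b} : Finset (IrrCharacter G)), D.z j * (charDegree (j : G → ℂ) : ℤ) := by
      symm
      apply Finset.sum_subset (Finset.subset_univ _)
      intro j _ hj
      have h3 : D.z j = 0 := by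
        by_contra h4
        apply hj
        simpa using hz' j h4
      rw [h3, zero_mul]
    rw [h2, Finset.sum_insert (by simp [Ne.symm ha1, Ne.symm hb1]), Finset.sum_pair hab, D.hzone,
      charDegree_oneIrr] at h1
    push_cast at h1
    linarith
  obtain ⟨i₀⟩ : Nonempty (Fin D.t) := ⟨⟨0, by omega⟩⟩
  have hda := dvd_of_z D hN2 hGn hza0'
  have hdb := dvd_of_z D hN2 hGn hzb0'
  have hdD := dvd_of_ν D hN2 hGn
  have hc1 := D.deg_z hN2 hza0'
  have hc2 := D.deg_z hN2 hzb0'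
  have hc3 := D.deg_ν hN2 i₀
  have hzaa : D.z a = 1 ∨ D.z a = -1 := by
    rcases D.hz a with h1 | h1
    · exact absurd h1 hza0'
    · exact h1
  have hzbb : D.z b = 1 ∨ D.z b = -1 := by
    rcases D.hz b with h1 | h1
    · exact absurd h1 hzb0'
    · exact h1
  have hD50 : D.D₀ ≤ 50 := by
    rw [← D.hνdeg i₀]
    exact hle50 _
  have hm3 := deg_mod5 hG h (D.ν i₀)
  rw [D.hνdeg] at hm3
  have hone1 : ∀ j : IrrCharacter G, j ≠ oneIrr G → charDegree (j : G → ℂ) ≠ 1 :=
    fun j hj h1 => hj (hlin j h1)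
  push_cast at hc1 hc2 hc3
  have hres := arith7 (a1 := aP (hP := hQ) hN2 a) (a2 := aP (hP := hQ) hN2 b)
    (a3 := aP (hP := hQ) hN2 (D.ν i₀)) hzaa hzbb D.hε hc1 hc2
    hc3 hda hdb hdD (hle50 a) (hle50 b) hD50 (hone1 a ha1) (hone1 b hb1) (deg_mod5 hG h a)
    (deg_mod5 hG h b) hm3 hrel
  let i₁ : Fin D.t := ⟨0, by omega⟩
  let i₂ : Fin D.t := ⟨1, by omega⟩
  have hi₁₂ : i₁ ≠ i₂ := by simp [i₁, i₂, Fin.ext_iff]
  have hν12 : D.ν i₁ ≠ D.ν i₂ := fun h => hi₁₂ (D.hνinj h)
  have hdeg1 := D.hνdeg i₁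
  have hdeg2 := D.hνdeg i₂
  rcases hres with ⟨h1, h2, h3, h4, h5, h6⟩ | ⟨h1, h2, h3, h4, h5, h6⟩ | ⟨h1, h2, h3, h4, h5, h6⟩ |
      ⟨h1, h2, h3, h4, h5, h6⟩
  · exact ⟨a, D.ν i₁, D.ν i₂, h2, by rw [hdeg1, h6], by rw [hdeg2, h6], hν12⟩
  · exact ⟨b, D.ν i₁, D.ν i₂, h2, by rw [hdeg1, h6], by rw [hdeg2, h6], hν12⟩
  · exact (false_of_four hQ D hN2 hCe a b hz' h1 h2 h3 h4 h5 h6 ht2).elim
  · exact (false_of_four hQ D hN2 hCe b a (fun j hj => by
      rcases hz' j hj with h7 | h7 | h7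
      · exact Or.inl h7
      · exact Or.inr (Or.inr h7)
      · exact Or.inr (Or.inl h7)) h1 h2 h3 h4 h5 h6 ht2).elim

end Cfsg.Agent.Lib.Small.A7Chars
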