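/-
Tools for the simple groups of order 2520: fixed spaces of representations, sums over products of
subgroups, fixed points of `p`-groups acting by conjugation.
-/
import Cfsg.Agent.Lib.CharX.Fixed
import Cfsg.Agent.Lib.ZStar.EC.Rep

set_option autoImplicit false
set_option linter.unusedSectionVars false
set_option linter.unusedVariables false

namespace Cfsg.Agent.Lib.Small.A7Tools

open Cfsg Module
open Cfsg.Agent.Lib.Char.Basic Cfsg.Agent.Lib.Char.Ortho Cfsg.Agent.Lib.Char.Complete
open Cfsg.Agent.Lib.CharX.Fixed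
open scoped ComplexConjugate

universe u v

variable {G : Type u} [Group G] {V : Type v} [AddCommGroup V] [Module ℂ V]

/-- The dimension of the space of the points fixed by a subgroup. -/
noncomputable def fixDim (ρ : Representation ℂ G V) (H : Subgroup G) : ℕ :=
  finrank ℂ (Representation.invariants (ρ.comp H.subtype))

theorem mem_fix {ρ : Representation ℂ G V} {H : Subgroup G} {v : V} :
    v ∈ Representation.invariants (ρ.comp H.subtype) ↔ ∀ h ∈ H, ρ h v = v := by
  constructor
  · intro hv h hh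
    exact hv ⟨h, hh⟩
  · intro hv h
    exact hv h.1 h.2

theorem sum_char_eq [Finite G] [FiniteDimensional ℂ V] (ρ : Representation ℂ G V) (H : Subgroup G)
    [Fintype H] :
    ∑ x : H, ρ.character (x : G) = (Nat.card H : ℂ) * (fixDim ρ H : ℂ) := by
  have h1 := classInner_restrict_one_eq_finrank H ρ
  rw [classInner_one_eq] at h1
  have h2 : (Nat.card H : ℂ) ≠ 0 := Nat.cast_ne_zero.mpr Nat.card_pos.ne'
  rw [fixDim, ← h1, mul_inv_cancel_left₀ h2]

theorem fix_anti {ρ : Representation ℂ G V} {H K : Subgroup G} (hle : H ≤ K) :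
    Representation.invariants (ρ.comp K.subtype) ≤ Representation.invariants (ρ.comp H.subtype) := by
  intro v hv
  rw [mem_fix] at hv ⊢
  exact fun h hh => hv h (hle hh)

theorem fixDim_anti [FiniteDimensional ℂ V] (ρ : Representation ℂ G V) {H K : Subgroup G}
    (hle : H ≤ K) : fixDim ρ K ≤ fixDim ρ H :=
  Submodule.finrank_mono (fix_anti hle)

theorem fixDim_le [FiniteDimensional ℂ V] (ρ : Representation ℂ G V) (H : Subgroup G) :
    fixDim ρ H ≤ finrank ℂ V :=
  Submodule.finrank_le _

/-- A subgroup fixing everything acts trivially. -/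
theorem eq_one_of_fixDim [FiniteDimensional ℂ V] {ρ : Representation ℂ G V} {H : Subgroup G}
    (h : fixDim ρ H = finrank ℂ V) {x : G} (hx : x ∈ H) : ρ x = 1 := by
  have h1 : Representation.invariants (ρ.comp H.subtype) = ⊤ := Submodule.eq_top_of_finrank_eq h
  refine LinearMap.ext fun v => ?_
  have h2 : v ∈ Representation.invariants (ρ.comp H.subtype) := by rw [h1]; trivial
  exact mem_fix.mp h2 x hx

/-- The subgroup of the elements fixing a line. -/
def lineStab (ρ : Representation ℂ G V) (v : V) (hv : v ≠ 0) : Subgroup G where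
  carrier := {g | ∃ c : ℂ, ρ g v = c • v}
  mul_mem' := by
    rintro a b ⟨c, hc⟩ ⟨d, hd⟩
    refine ⟨d * c, ?_⟩
    rw [map_mul, Module.End.mul_apply, hd, map_smul, hc, smul_smul]
  one_mem' := ⟨1, by simp⟩
  inv_mem' := by
    rintro a ⟨c, hc⟩
    have hc0 : c ≠ 0 := by
      rintro rfl
      rw [zero_smul] at hc
      have h1 : ρ a⁻¹ (ρ a v) = v := by
        rw [← Module.End.mul_apply, ← map_mul]
        simp
      rw [hc, map_zero] at h1
      exact hv h1.symm
    refine ⟨c⁻¹, ?_⟩
    have h1 : ρ a⁻¹ (ρ a v) = v := by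
      rw [← Module.End.mul_apply, ← map_mul]
      simp
    rw [hc, map_smul] at h1
    calc ρ a⁻¹ v = c⁻¹ • (c • ρ a⁻¹ v) := by rw [smul_smul, inv_mul_cancel₀ hc0, one_smul]
      _ = c⁻¹ • v := by rw [h1]

theorem mem_lineStab {ρ : Representation ℂ G V} {v : V} {hv : v ≠ 0} {g : G} :
    g ∈ lineStab ρ v hv ↔ ∃ c : ℂ, ρ g v = c • v := Iff.rfl

/-- The stabilizer of a line is a proper subgroup of a perfect group without fixed vectors. -/
theorem lineStab_ne_top {ρ : Representation ℂ G V} {v : V} (hv : v ≠ 0) (hperf : commutator G = ⊤)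
    (hinv : Representation.invariants ρ = ⊥) : lineStab ρ v hv ≠ ⊤ := by
  classical
  intro htop
  have hex : ∀ g : G, ∃ c : ℂ, ρ g v = c • v := fun g => by
    have : g ∈ lineStab ρ v hv := by rw [htop]; trivial
    exact this
  choose c hc using hex
  have huniq : ∀ (a b : ℂ), a • v = b • v → a = b := fun a b h => smul_left_injective ℂ hv h
  let lam : G →* ℂ :=
    { toFun := c
      map_one' := huniq _ _ (by rw [← hc]; simp)
      map_mul' := fun a b => huniq _ _ (by
        rw [← hc, map_mul, Module.End.mul_apply, hc b, map_smul, hc a, smul_smul, mul_comm]) }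
  let lamU : G →* ℂˣ := lam.toHomUnits
  have hker : commutator G ≤ lamU.ker := by
    rw [commutator_def, Subgroup.commutator_le]
    intro a _ b _
    rw [MonoidHom.mem_ker, commutatorElement_def]
    simp only [map_mul, map_inv]
    rw [mul_comm (lamU a) (lamU b)]
    simp
  rw [hperf] at hker
  have hfix : v ∈ Representation.invariants ρ := by
    intro g
    have h1 : lamU g = 1 := hker (Subgroup.mem_top g)
    have h2 : c g = 1 := by
      have h3 := congrArg Units.val h1
      simpa [lamU, lam] using h3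
    rw [hc, h2, one_smul]
  rw [hinv, Submodule.mem_bot] at hfix
  exact hv hfix

variable [Finite G]

/-- A sum over a product of two subgroups with trivial intersection. -/
theorem mem_mul_of_card_le {H K L : Subgroup G} (hH : H ≤ L) (hK : K ≤ L) (hb : H ⊓ K = ⊥)
    (hc : Nat.card L ≤ Nat.card H * Nat.card K) {x : G} (hx : x ∈ L) :
    ∃ p ∈ H, ∃ q ∈ K, x = p * q := by
  let φ : H × K → L := fun a => ⟨a.1 * a.2, L.mul_mem (hH a.1.2) (hK a.2.2)⟩
  have hinj : Function.Injective φ := by
    rintro ⟨a, b⟩ ⟨a', b'⟩ he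
    have h1 : (a : G) * b = a' * b' := congrArg Subtype.val he
    have h2 : (a' : G)⁻¹ * a = b' * (b : G)⁻¹ := by
      calc (a' : G)⁻¹ * a = (a' : G)⁻¹ * (a * b) * (b : G)⁻¹ := by group
        _ = b' * (b : G)⁻¹ := by rw [h1]; group
    have h3 : (a' : G)⁻¹ * a ∈ H ⊓ K := by
      refine ⟨H.mul_mem (H.inv_mem a'.2) a.2, ?_⟩
      rw [h2]
      exact K.mul_mem b'.2 (K.inv_mem b.2)
    rw [hb, Subgroup.mem_bot] at h3
    have h4 : (a : G) = a' := by
      have := inv_mul_eq_one.mp h3
      exact this.symm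
    have h5 : (b : G) = b' := by
      rw [h4] at h1
      exact mul_left_cancel h1
    exact Prod.ext (Subtype.ext h4) (Subtype.ext h5)
  have hbij : Function.Bijective φ := by
    rw [Nat.bijective_iff_injective_and_card]
    refine ⟨hinj, le_antisymm ?_ ?_⟩
    · exact Nat.card_le_card_of_injective φ hinj
    · rw [Nat.card_prod]
      exact hc
  obtain ⟨⟨a, b⟩, hab⟩ := hbij.2 ⟨x, hx⟩
  exact ⟨a, a.2, b, b.2, (congrArg Subtype.val hab).symm⟩

theorem sum_mul_of_card_le {H K L : Subgroup G} (hH : H ≤ L) (hK : K ≤ L) (hb : H ⊓ K = ⊥)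
    (hc : Nat.card L ≤ Nat.card H * Nat.card K) [Fintype H] [Fintype K] [Fintype L]
    {R : Type*} [AddCommMonoid R] (f : G → R) :
    ∑ x : L, f x = ∑ p : H, ∑ q : K, f (p * q) := by
  classical
  let φ : H × K → L := fun a => ⟨a.1 * a.2, L.mul_mem (hH a.1.2) (hK a.2.2)⟩
  have hinj : Function.Injective φ := by
    rintro ⟨a, b⟩ ⟨a', b'⟩ he
    have h1 : (a : G) * b = a' * b' := congrArg Subtype.val he
    have h2 : (a' : G)⁻¹ * a = b' * (b : G)⁻¹ := by
      calc (a' : G)⁻¹ * a = (a' : G)⁻¹ * (a * b) * (b : G)⁻¹ := by group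
        _ = b' * (b : G)⁻¹ := by rw [h1]; group
    have h3 : (a' : G)⁻¹ * a ∈ H ⊓ K := by
      refine ⟨H.mul_mem (H.inv_mem a'.2) a.2, ?_⟩
      rw [h2]
      exact K.mul_mem b'.2 (K.inv_mem b.2)
    rw [hb, Subgroup.mem_bot] at h3
    have h4 : (a : G) = a' := by
      have := inv_mul_eq_one.mp h3
      exact this.symm
    have h5 : (b : G) = b' := by
      rw [h4] at h1
      exact mul_left_cancel h1
    exact Prod.ext (Subtype.ext h4) (Subtype.ext h5)
  have hbij : Function.Bijective φ := by
    rw [Nat.bijective_iff_injective_and_card]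
    refine ⟨hinj, le_antisymm ?_ ?_⟩
    · exact Nat.card_le_card_of_injective φ hinj
    · rw [Nat.card_prod]
      exact hc
  rw [← Fintype.sum_prod_type']
  exact (Function.Bijective.sum_comp hbij (fun x : L => f x)).symm

/-- A sum over a cyclic group. -/
theorem sum_zpowers {x : G} {n : ℕ} (hx : orderOf x = n) [Fintype (Subgroup.zpowers x)]
    {R : Type*} [AddCommMonoid R] (f : G → R) :
    ∑ k : Subgroup.zpowers x, f k = ∑ i ∈ Finset.range n, f (x ^ i) := by
  classical
  have hfin : IsOfFinOrder x := isOfFinOrder_of_finite x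
  subst hx
  rw [Finset.sum_range]
  exact (Fintype.sum_equiv (finEquivZPowers hfin) _ _ (fun i => rfl)).symm

/-- A `p`-group acting by conjugation on a set of size prime to `p` has a fixed point. -/
theorem exists_fixed_of_not_dvd {p : ℕ} [hp : Fact p.Prime] {R : Subgroup G} (hR : IsPGroup p R)
    (X : Set G) (hX : ∀ r ∈ R, ∀ x ∈ X, r * x * r⁻¹ ∈ X) (hd : ¬ p ∣ Nat.card X) :
    ∃ x ∈ X, ∀ r ∈ R, r * x * r⁻¹ = x := by
  classical
  letI act : MulAction R X :=
    { smul := fun r x => ⟨(r : G) * x * (r : G)⁻¹, hX r r.2 x x.2⟩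
      one_smul := fun x => Subtype.ext (by show ((1 : R) : G) * x * ((1 : R) : G)⁻¹ = x; simp)
      mul_smul := fun a b x => Subtype.ext (by
        show ((a * b : R) : G) * x * ((a * b : R) : G)⁻¹ =
          (a : G) * ((b : G) * x * (b : G)⁻¹) * (a : G)⁻¹
        push_cast
        group) }
  haveI : Finite (MulAction.fixedPoints R X) := inferInstance
  obtain ⟨x, hx⟩ := hR.nonempty_fixed_point_of_prime_not_dvd_card X hd
  refine ⟨x.1, x.2, fun r hr => ?_⟩
  have h1 := hx ⟨r, hr⟩
  exact congrArg Subtype.val h1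

end Cfsg.Agent.Lib.Small.A7Tools
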