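/-
Dihedral subgroups of order 8: elements, sums over them.
-/
import Cfsg.Agent.Lib.Small.A7Tools
import Cfsg.Agent.Lib.LocalStruct.ThompsonIdx

set_option autoImplicit false
set_option linter.unusedSectionVars false
set_option linter.unusedVariables false

namespace Cfsg.Agent.Lib.Small.A7D8

open Cfsg Module
open Cfsg.Agent.Lib.Small.A7Tools

universe u

variable {G : Type u} [Group G]

/-- `T` is dihedral of order `8`, generated by `u` and `w`. -/
structure D8 (T : Subgroup G) (u w : G) : Prop where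
  card : Nat.card T = 8
  hu : u ∈ T
  hw : w ∈ T
  huo : orderOf u = 4
  hwK : w ∉ Subgroup.zpowers u
  hww : w * w = 1
  hrel : w * u * w⁻¹ = u⁻¹

namespace D8

variable {T : Subgroup G} {u w : G} (h : D8 T u w)

include h

theorem u4 : u ^ 4 = 1 := by
  rw [← h.huo]
  exact pow_orderOf_eq_one u

theorem u3 : u ^ 3 = u⁻¹ := by
  apply eq_inv_of_mul_eq_one_left
  rw [← pow_succ]
  exact h.u4

theorem w_inv : w⁻¹ = w := inv_eq_of_mul_eq_one_left h.hww

theorem conj_pow (i : ℕ) : w * u ^ i * w⁻¹ = (u ^ i)⁻¹ := by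
  have h1 : w * u ^ i * w⁻¹ = (w * u * w⁻¹) ^ i := by
    rw [← MulAut.conj_apply, map_pow, MulAut.conj_apply]
  rw [h1, h.hrel, inv_pow]

theorem w_mul_pow (i : ℕ) : w * u ^ i = (u ^ i)⁻¹ * w := by
  have h1 := h.conj_pow i
  rw [mul_inv_eq_iff_eq_mul] at h1
  exact h1

theorem sq_pow_mul (i : ℕ) : (u ^ i * w) * (u ^ i * w) = 1 := by
  calc (u ^ i * w) * (u ^ i * w) = u ^ i * (w * u ^ i) * w := by group
    _ = u ^ i * ((u ^ i)⁻¹ * w) * w := by rw [h.w_mul_pow]
    _ = w * w := by group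
    _ = 1 := h.hww

theorem pow_mul_ne_one (i : ℕ) : u ^ i * w ≠ 1 := by
  intro h1
  apply h.hwK
  have h2 : w = (u ^ i)⁻¹ := eq_inv_of_mul_eq_one_right h1
  rw [h2]
  exact Subgroup.inv_mem _ (Subgroup.pow_mem _ (Subgroup.mem_zpowers u) _)

theorem order_pow_mul (i : ℕ) : orderOf (u ^ i * w) = 2 := by
  haveI : Fact (Nat.Prime 2) := ⟨Nat.prime_two⟩
  exact orderOf_eq_prime (by rw [pow_two]; exact h.sq_pow_mul i) (h.pow_mul_ne_one i)

theorem order_w : orderOf w = 2 := by
  have h1 := h.order_pow_mul 0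
  simpa using h1

theorem w_ne_one : w ≠ 1 := by
  have h1 := h.pow_mul_ne_one 0
  simpa using h1

theorem order_sq : orderOf (u ^ 2) = 2 := by
  have h1 := orderOf_pow' (x := u) (n := 2) (by norm_num)
  rw [h.huo] at h1
  simpa using h1

theorem sq_ne_one : u ^ 2 ≠ 1 := by
  have h1 := h.order_sq
  intro h2
  rw [h2, orderOf_one] at h1
  omega

theorem u_ne_one : u ≠ 1 := by
  have h1 := h.huo
  intro h2
  rw [h2, orderOf_one] at h1
  omega

theorem order_u3 : orderOf (u ^ 3) = 4 := by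
  rw [h.u3, orderOf_inv, h.huo]

theorem mem_pow (i : ℕ) : u ^ i ∈ T := T.pow_mem h.hu i

theorem mem_pow_mul (i : ℕ) : u ^ i * w ∈ T := T.mul_mem (h.mem_pow i) h.hw

theorem K_le : Subgroup.zpowers u ≤ T := by
  rw [Subgroup.zpowers_le]
  exact h.hu

theorem W_le : Subgroup.zpowers w ≤ T := by
  rw [Subgroup.zpowers_le]
  exact h.hw

theorem card_K : Nat.card (Subgroup.zpowers u) = 4 := by
  rw [Nat.card_zpowers, h.huo]

theorem card_W : Nat.card (Subgroup.zpowers w) = 2 := by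
  rw [Nat.card_zpowers, h.order_w]

theorem mem_W {x : G} (hx : x ∈ Subgroup.zpowers w) : x = 1 ∨ x = w := by
  haveI : Fact (Nat.Prime 2) := ⟨Nat.prime_two⟩
  obtain ⟨k, rfl⟩ := Subgroup.mem_zpowers_iff.mp hx
  rcases Int.even_or_odd' k with ⟨c, rfl | rfl⟩
  · left
    rw [zpow_mul, zpow_two, h.hww, one_zpow]
  · right
    rw [zpow_add, zpow_mul, zpow_two, h.hww, one_zpow, one_mul, zpow_one]

theorem inf_KW : Subgroup.zpowers u ⊓ Subgroup.zpowers w = ⊥ := by
  rw [eq_bot_iff]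
  rintro x ⟨h1, h2⟩
  rcases h.mem_W h2 with rfl | rfl
  · exact Subgroup.one_mem _
  · exact absurd h1 h.hwK

variable [Finite G]

theorem card_le : Nat.card T ≤ Nat.card (Subgroup.zpowers u) * Nat.card (Subgroup.zpowers w) := by
  rw [h.card, h.card_K, h.card_W]

theorem mem_K_cases {x : G} (hx : x ∈ Subgroup.zpowers u) : x = 1 ∨ x = u ∨ x = u ^ 2 ∨ x = u ^ 3 := by
  obtain ⟨k, rfl⟩ := Subgroup.mem_zpowers_iff.mp hx
  have h1 : u ^ k = u ^ (k % 4) := by
    conv_lhs => rw [← Int.mul_ediv_add_emod k 4, zpow_add, zpow_mul]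
    have : u ^ (4 : ℤ) = 1 := by
      exact_mod_cast h.u4
    rw [this, one_zpow, one_mul]
  have h2 : 0 ≤ k % 4 := Int.emod_nonneg _ (by norm_num)
  have h3 : k % 4 < 4 := Int.emod_lt_of_pos _ (by norm_num)
  rw [h1]
  generalize k % 4 = r at h2 h3
  interval_cases r
  · left; simp
  · right; left; simp
  · right; right; left; exact_mod_cast rfl
  · right; right; right; exact_mod_cast rfl

theorem mem_cases {x : G} (hx : x ∈ T) :
    x ∈ Subgroup.zpowers u ∨ ∃ k ∈ Subgroup.zpowers u, x = k * w := by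
  obtain ⟨k, hk, j, hj, rfl⟩ := mem_mul_of_card_le h.K_le h.W_le h.inf_KW h.card_le hx
  rcases h.mem_W hj with rfl | rfl
  · left
    simpa using hk
  · right
    exact ⟨k, hk, rfl⟩

theorem cases {x : G} (hx : x ∈ T) : x = 1 ∨ x = u ∨ x = u ^ 2 ∨ x = u ^ 3 ∨ x = w ∨ x = u * w ∨
    x = u ^ 2 * w ∨ x = u ^ 3 * w := by
  rcases h.mem_cases hx with h1 | ⟨k, hk, rfl⟩
  · rcases h.mem_K_cases h1 with rfl | rfl | rfl | rfl <;> simp
  · rcases h.mem_K_cases hk with rfl | rfl | rfl | rfl <;> simp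

/-- Elements of order `4`. -/
theorem order4_cases {x : G} (hx : x ∈ T) (ho : orderOf x = 4) : x = u ∨ x = u ^ 3 := by
  have key : ∀ k ∈ Subgroup.zpowers u, orderOf (k * w) ≠ 4 := by
    intro k hk
    rcases h.mem_K_cases hk with rfl | rfl | rfl | rfl
    · have := h.order_pow_mul 0
      simp only [pow_zero] at this
      rw [this]; norm_num
    · have := h.order_pow_mul 1
      simp only [pow_one] at this
      rw [this]; norm_num
    · rw [h.order_pow_mul 2]; norm_num
    · rw [h.order_pow_mul 3]; norm_num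
  rcases h.mem_cases hx with h1 | ⟨k, hk, rfl⟩
  · rcases h.mem_K_cases h1 with rfl | rfl | rfl | rfl
    · rw [orderOf_one] at ho
      omega
    · exact Or.inl rfl
    · rw [h.order_sq] at ho
      omega
    · exact Or.inr rfl
  · exact absurd ho (key k hk)

/-- Involutions are `u ^ 2` and the elements outside `⟨u⟩`. -/
theorem sum_T [Fintype T] [Fintype (Subgroup.zpowers u)] [Fintype (Subgroup.zpowers w)]
    {R : Type*} [AddCommMonoid R] (f : G → R) :
    ∑ x : T, f x = f 1 + f w + (f u + f (u * w)) + (f (u ^ 2) + f (u ^ 2 * w)) +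
      (f (u ^ 3) + f (u ^ 3 * w)) := by
  classical
  have hW : ∀ c : G, ∑ q : Subgroup.zpowers w, f (c * q) = f c + f (c * w) := by
    intro c
    rw [sum_zpowers (x := w) h.order_w (fun q => f (c * q))]
    simp only [Finset.sum_range_succ, Finset.sum_range_zero, zero_add, pow_zero, pow_one, mul_one]
  rw [sum_mul_of_card_le h.K_le h.W_le h.inf_KW h.card_le]
  rw [sum_zpowers (x := u) h.huo (fun k => ∑ q : Subgroup.zpowers w, f (k * q))]
  simp only [hW, Finset.sum_range_succ, Finset.sum_range_zero, zero_add, pow_zero, pow_one, one_mul]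

theorem sum_K [Fintype (Subgroup.zpowers u)] {R : Type*} [AddCommMonoid R] (f : G → R) :
    ∑ x : Subgroup.zpowers u, f x = f 1 + f u + f (u ^ 2) + f (u ^ 3) := by
  classical
  rw [sum_zpowers (x := u) h.huo f]
  simp only [Finset.sum_range_succ, Finset.sum_range_zero, zero_add, pow_zero, pow_one]

omit [Finite G] in
theorem comm_sq : w * u ^ 2 = u ^ 2 * w := by
  rw [h.w_mul_pow 2]
  congr 1
  have h1 : u ^ 2 * u ^ 2 = 1 := by
    rw [← pow_add]
    exact h.u4
  exact inv_eq_of_mul_eq_one_left h1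

/-- The four-group. -/
def V4 (T : Subgroup G) (w : G) : Subgroup G := T ⊓ Subgroup.centralizer ({w} : Set G)

theorem sq_mem_V4 : u ^ 2 ∈ V4 T w :=
  ⟨h.mem_pow 2, Subgroup.mem_centralizer_singleton_iff.mpr h.comm_sq.symm⟩

theorem w_mem_V4 : w ∈ V4 T w :=
  ⟨h.hw, Subgroup.mem_centralizer_singleton_iff.mpr rfl⟩

theorem u_not_mem_V4 : u ∉ V4 T w := by
  rintro ⟨-, h1⟩
  have h1' : u ∈ Subgroup.centralizer ({w} : Set G) := h1
  rw [Subgroup.mem_centralizer_singleton_iff] at h1'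
  have h2 := h.hrel
  rw [mul_inv_eq_iff_eq_mul, ← h1'] at h2
  have h3 : u = u⁻¹ := mul_right_cancel h2
  have h4 : u ^ 2 = 1 := by
    rw [pow_two]
    nth_rewrite 1 [h3]
    simp
  exact h.sq_ne_one h4

theorem card_V4 : Nat.card (V4 T w) ≤ 4 := by
  have h1 : V4 T w ≤ T := inf_le_left
  have h2 : Nat.card (V4 T w) ∣ 8 := by
    rw [← h.card]
    exact Subgroup.card_dvd_of_le h1
  have h3 : Nat.card (V4 T w) ≠ 8 := by
    intro h4
    have h5 : V4 T w = T := Subgroup.eq_of_le_of_card_ge h1 (by rw [h.card, h4])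
    apply h.u_not_mem_V4
    rw [h5]
    exact h.hu
  have h6 : Nat.card (V4 T w) ≤ 8 := Nat.le_of_dvd (by norm_num) h2
  have h7 : 0 < Nat.card (V4 T w) := Nat.card_pos
  have : Nat.card (V4 T w) ∈ Nat.divisors 8 := by
    exact Nat.mem_divisors.mpr ⟨h2, by norm_num⟩
  rw [show Nat.divisors 8 = {1, 2, 4, 8} by decide] at this
  simp only [Finset.mem_insert, Finset.mem_singleton] at this
  omega

theorem inf_zw : Subgroup.zpowers (u ^ 2) ⊓ Subgroup.zpowers w = ⊥ := by
  rw [eq_bot_iff]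
  rintro x ⟨h1, h2⟩
  rcases h.mem_W h2 with rfl | rfl
  · exact Subgroup.one_mem _
  · exfalso
    apply h.hwK
    exact (Subgroup.zpowers_le.mpr (Subgroup.pow_mem _ (Subgroup.mem_zpowers u) 2)) h1

theorem sum_V4 [Fintype (V4 T w)] [Fintype (Subgroup.zpowers (u ^ 2))] [Fintype (Subgroup.zpowers w)]
    {R : Type*} [AddCommMonoid R] (f : G → R) :
    ∑ x : V4 T w, f x = f 1 + f w + (f (u ^ 2) + f (u ^ 2 * w)) := by
  classical
  have hc : Nat.card (V4 T w) ≤ Nat.card (Subgroup.zpowers (u ^ 2)) * Nat.card (Subgroup.zpowers w) := by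
    rw [Nat.card_zpowers, Nat.card_zpowers, h.order_sq, h.order_w]
    exact h.card_V4
  have hW : ∀ c : G, ∑ q : Subgroup.zpowers w, f (c * q) = f c + f (c * w) := by
    intro c
    rw [sum_zpowers (x := w) h.order_w (fun q => f (c * q))]
    simp only [Finset.sum_range_succ, Finset.sum_range_zero, zero_add, pow_zero, pow_one, mul_one]
  rw [sum_mul_of_card_le (Subgroup.zpowers_le.mpr h.sq_mem_V4) (Subgroup.zpowers_le.mpr h.w_mem_V4)
    h.inf_zw hc]
  rw [sum_zpowers (x := u ^ 2) h.order_sq (fun k => ∑ q : Subgroup.zpowers w, f (k * q))]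
  simp only [hW, Finset.sum_range_succ, Finset.sum_range_zero, zero_add, pow_zero, pow_one, one_mul]

end D8

end Cfsg.Agent.Lib.Small.A7D8
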