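/-
Small simple groups: tools for commuting pairs, and the beginning of order 1440.
-/
import Cfsg.Agent.Lib.Small.Low5
import Cfsg.Agent.Lib.Small.Ord720a
import Cfsg.Agent.S1018
import Cfsg.Agent.S1019

set_option autoImplicit false
set_option linter.unusedSectionVars false
set_option linter.unusedVariables false

namespace Cfsg.Agent.Lib.Small.Ord1440a

open Cfsg.Agent.Lib.Small.Basic Cfsg.Agent.Lib.Small.Sieve Cfsg.Agent.Lib.Small.TI
  Cfsg.Agent.Lib.Small.TI2 Cfsg.Agent.Lib.Small.TI3 Cfsg.Agent.Lib.Small.Low1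
  Cfsg.Agent.Lib.Small.Low3 Cfsg.Agent.Lib.Small.Low5

universe u

instance fact_prime2'' : Fact (Nat.Prime 2) := ⟨by norm_num⟩
instance fact_prime3'' : Fact (Nat.Prime 3) := ⟨by norm_num⟩
instance fact_prime5'' : Fact (Nat.Prime 5) := ⟨by norm_num⟩

variable {G : Type u} [Group G] [Finite G]

/-- A free action of a subgroup on an invariant subset: the order divides the number of points. -/
theorem card_dvd_of_free {Ω : Type*} [MulAction G Ω] [Finite Ω] (V : Subgroup G) (P : Ω → Prop)
    (hP : ∀ v ∈ V, ∀ x, P x → P (v • x)) (hfree : ∀ v ∈ V, v ≠ 1 → ∀ x, P x → v • x ≠ x) :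
    Nat.card V ∣ Nat.card {x // P x} := by
  classical
  let _ : MulAction V {x // P x} :=
    { smul := fun g x => ⟨(g : G) • x.1, hP g g.2 x.1 x.2⟩
      one_smul := fun x => Subtype.ext (one_smul G x.1)
      mul_smul := fun a b x => Subtype.ext (mul_smul (a : G) (b : G) x.1) }
  have hst : ∀ b : {x // P x}, MulAction.stabilizer V b = ⊥ := by
    intro b
    rw [eq_bot_iff]
    intro v hv
    rw [Subgroup.mem_bot]
    by_contra hv1
    apply hfree v v.2 (fun h => hv1 (Subtype.ext h)) b.1 b.2
    have h1 : v • b = b := hv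
    exact congrArg Subtype.val h1
  have e := MulAction.selfEquivOrbitsQuotientProd hst
  rw [Nat.card_congr e, Nat.card_prod]
  exact Dvd.intro_left _ rfl

variable [IsSimpleGroup G]

/-- A commuting pair from two Sylow subgroups of order `p ^ 2` with a non-trivial intersection. -/
theorem exists_commuting_of_not_modEq {p m : ℕ} [hp : Fact p.Prime] (hcard : Nat.card G = p ^ 2 * m)
    (hm : ¬ p ∣ m) (hnot : ¬ Nat.card (Sylow p G) ≡ 1 [MOD p ^ 2])
    (heven : ∀ n ∈ List.range (m + 1), n ∣ m → n % p = 1 → n ≠ 1 → 2 ∣ n) :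
    ∃ w u : G, orderOf w = p ∧ orderOf u = 2 ∧ w * u = u * w := by
  have hkc := card_sylow_eq hcard hm
  have hm0 : 0 < m := by
    rcases Nat.eq_zero_or_pos m with h0 | h0
    · subst h0
      exact absurd (dvd_zero p) hm
    · exact h0
  obtain ⟨P, R, hPR, hinf, -, -, -⟩ := exists_normal_inf (k := 2) hnot hkc
  have hinf' : Nat.card ((P : Subgroup G) ⊓ (R : Subgroup G) : Subgroup G) = p := by
    simpa using hinf
  obtain ⟨w', hw'⟩ := exists_prime_orderOf_dvd_card' (G := ((P : Subgroup G) ⊓ (R : Subgroup G) : Subgroup G))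
    p (by rw [hinf'])
  have hw : orderOf (w' : G) = p := by rw [Subgroup.orderOf_coe, hw']
  set w : G := (w' : G) with hwdef
  have hPC : ∀ X : Sylow p G, w ∈ X → (X : Subgroup G) ≤ Subgroup.centralizer ({w} : Set G) := by
    intro X hX a ha
    rw [Subgroup.mem_centralizer_iff]
    intro b hb
    rw [Set.mem_singleton_iff] at hb
    subst hb
    have hab : IsMulCommutative X := isMulCommutative_of_card_le_two (p := p) (k := 2)
      le_rfl (hkc X)
    exact congrArg Subtype.val (mul_comm' (⟨_, hX⟩ : (X : Subgroup G)) ⟨a, ha⟩)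
  have hwP : w ∈ (P : Subgroup G) := w'.2.1
  have hwR : w ∈ (R : Subgroup G) := w'.2.2
  set C := Subgroup.centralizer ({w} : Set G) with hC
  obtain ⟨c, hc⟩ := index_mul_card_sylow_mul hcard P (hkc P) C (hPC P hwP)
  have hn1 : Nat.card (Sylow p C) ≠ 1 := by
    intro h1
    have hu := (Nat.card_eq_one_iff_unique.mp h1).1
    have h2 : P.subtype (hPC P hwP) = R.subtype (hPC R hwR) := hu.elim _ _
    exact hPR (Sylow.subtype_injective h2)
  have hmod := card_sylow_modEq_one p C
  have hmod' : Nat.card (Sylow p C) % p = 1 := by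
    rwa [Nat.ModEq, Nat.mod_eq_of_lt hp.out.one_lt] at hmod
  have hdvd : Nat.card (Sylow p C) ∣ m := ⟨C.index * c, by rw [← hc]; ring⟩
  have h2n := heven _ (List.mem_range.mpr (Nat.lt_succ_of_le (Nat.le_of_dvd hm0 hdvd))) hdvd hmod' hn1
  obtain ⟨c', hc'⟩ := Cfsg.Agent.Lib.SmallSimple.Inter.exists_card_eq_of_le P C (hPC P hwP)
  have h2C : 2 ∣ Nat.card C := by
    rw [hc']
    exact Dvd.dvd.mul_left (Dvd.dvd.mul_right h2n _) _
  have hf2 : Fact (Nat.Prime 2) := ⟨by norm_num⟩
  obtain ⟨u, hu⟩ := exists_prime_orderOf_dvd_card' (G := C) 2 h2C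
  refine ⟨w, u, hw, by rw [Subgroup.orderOf_coe, hu], ?_⟩
  exact (Subgroup.mem_centralizer_iff.mp u.2) w rfl

/-- `n₅ ≠ 16` in a simple group of order `1440`. -/
theorem card_sylow_five_ne (hG : ¬ IsMulCommutative G) (h : Nat.card G = 1440) :
    Nat.card (Sylow 5 G) ≠ 16 := by
  classical
  intro hn
  have hcard : ∀ U : Sylow 5 G, Nat.card U = 5 := by
    intro U
    simpa using card_sylow_eq (p := 5) (k := 1) (m := 288) (by rw [h]; norm_num) (by norm_num) U
  obtain ⟨r, hr, hr1, hN, -⟩ := exists_card_multiples hG (p := 5) (by rw [h]; norm_num) hcard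
  obtain ⟨Q⟩ : Nonempty (Sylow 5 G) := inferInstance
  have h2 := card_normalizer_mul Q
  rw [hn, h, hN Q] at h2
  have hr4 : r ∣ 4 := hr
  have hle : r ≤ 4 := Nat.le_of_dvd (by norm_num) hr4
  have hrcases : r = 2 := by
    interval_cases r
    · omega
    · exact absurd rfl hr1
    · rfl
    · exact absurd hr4 (by norm_num)
    · omega
  subst hrcases
  have hC45 : Nat.card (Subgroup.centralizer ((Q : Subgroup G) : Set G)) = 45 := by omega
  set C := Subgroup.centralizer ((Q : Subgroup G) : Set G) with hC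
  obtain ⟨V', hV'⟩ := Sylow.exists_subgroup_card_pow_prime
    (G := C) 3 (n := 2) (by rw [hC45]; norm_num)
  set V := V'.map C.subtype with hVdef
  have hVcard : Nat.card V = 9 := by
    rw [hVdef, Subgroup.card_map_of_injective C.subtype_injective, hV']
    norm_num
  have hVC : V ≤ C := Subgroup.map_subtype_le V'
  have hVN : ∀ v ∈ V, v • Q = Q := by
    intro v hv
    exact Sylow.smul_eq_iff_mem_normalizer.mpr (Subgroup.centralizer_le_normalizer _ (hVC hv))
  -- an element `y` of order five
  obtain ⟨y', hy'⟩ := exists_prime_orderOf_dvd_card' (G := (Q : Subgroup G)) 5 (by rw [hcard Q])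
  have hy : orderOf (y' : G) = 5 := by rw [Subgroup.orderOf_coe, hy']
  set y : G := (y' : G) with hydef
  have hyQ : y ∈ (Q : Subgroup G) := y'.2
  have hTI := isTI_of_card_prime hcard
  have hy1 : y ≠ 1 := by
    intro h0
    rw [h0, orderOf_one] at hy
    omega
  have huniq : ∀ W : Sylow 5 G, y • W = W → W = Q := by
    intro W hW
    by_contra hne
    exact hy1 (eq_one_of_smul_eq hTI hne hyQ hW)
  have hfaith := smul_faithful hG 5 (by rw [h]; norm_num)
  -- elements of order three
  have hthree : ∀ w ∈ V, orderOf w = 3 → ∀ W : Sylow 5 G, W ≠ Q → w • W ≠ W := by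
    intro w hw hw3 W hWQ hfix
    have hcw : y * w = w * y := ((Subgroup.mem_centralizer_iff.mp (hVC hw)) y hyQ)
    let F : Sylow 5 G → Prop := fun X => w • X = X
    have h1 := card_fix_modEq hy F (by
      intro X hX
      change w • y • X = y • X
      rw [← mul_smul, ← hcw, mul_smul, hX])
    have hv : Nat.card {X // F X ∧ y • X = X} = 1 := by
      rw [Nat.card_eq_one_iff_unique]
      refine ⟨⟨fun a b => Subtype.ext ((huniq _ a.2.2).trans (huniq _ b.2.2).symm)⟩,
        ⟨⟨Q, hVN w hw, smul_self_of_mem Q hyQ⟩⟩⟩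
    rw [hv] at h1
    have h2' := card_fix_modEq hw3 (fun _ : Sylow 5 G => True) (fun _ _ => trivial)
    have htotal : Nat.card {x : Sylow 5 G // True} = 16 := by
      rw [Nat.card_congr (Equiv.subtypeUnivEquiv (fun _ => trivial)), hn]
    have h3 : Nat.card {x : Sylow 5 G // True ∧ w • x = x} = Nat.card {x // F x} := by
      apply Nat.card_congr
      exact Equiv.subtypeEquivRight (fun x => by simp [F])
    rw [htotal, h3] at h2'
    have hw1 : w ≠ 1 := by
      intro h0
      rw [h0, orderOf_one] at hw3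
      omega
    have hle16 : Nat.card {x // F x} ≤ 16 := by
      rw [← hn]
      exact card_subtype_le _ _
    have hne16 : Nat.card {x // F x} ≠ 16 := by
      intro heq
      apply hw1
      apply hfaith
      intro W'
      have hsub : Function.Surjective (Subtype.val : {x // F x} → Sylow 5 G) := by
        have hinj : Function.Injective (Subtype.val : {x // F x} → Sylow 5 G) :=
          Subtype.val_injective
        exact ((Nat.bijective_iff_injective_and_card _).mpr ⟨hinj, by rw [heq, hn]⟩).2
      obtain ⟨a, rfl⟩ := hsub W'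
      exact a.2
    have h1' : Nat.card {x // F x} % 5 = 1 := h1
    have h2'' : 16 % 3 = Nat.card {x // F x} % 3 := h2'
    have hone : Nat.card {x // F x} = 1 := by omega
    have hu := (Nat.card_eq_one_iff_unique.mp hone).1
    have h4 : (⟨W, hfix⟩ : {x // F x}) = ⟨Q, hVN w hw⟩ := hu.elim _ _
    exact hWQ (congrArg Subtype.val h4)
  have hfree : ∀ v ∈ V, v ≠ 1 → ∀ W : Sylow 5 G, W ≠ Q → v • W ≠ W := by
    intro v hv hv1 W hWQ hfix
    have hd : orderOf v ∣ 3 ^ 2 := by
      have := orderOf_dvd_natCard (⟨v, hv⟩ : V)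
      rw [Subgroup.orderOf_mk, hVcard] at this
      exact this
    have h3d : 3 ∣ orderOf v := by
      have hne : orderOf v ≠ 1 := by
        rw [Ne, orderOf_eq_one_iff]
        exact hv1
      obtain ⟨q, hq, hqd⟩ := Nat.exists_prime_and_dvd hne
      have := (Nat.prime_dvd_prime_iff_eq hq (by norm_num)).mp (hq.dvd_of_dvd_pow (hqd.trans hd))
      rwa [this] at hqd
    have h0 : orderOf v ≠ 0 := by
      intro h0
      rw [h0] at hd
      omega
    refine hthree _ (V.pow_mem hv _) (orderOf_pow_orderOf_div h0 h3d) W hWQ ?_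
    exact (MulAction.stabilizer G W).pow_mem hfix _
  -- counting
  have hdiv := card_dvd_of_free V (fun W : Sylow 5 G => W ≠ Q) (by
    intro v hv W hW e
    apply hW
    rw [← hVN v hv] at e
    exact smul_left_cancel v e) hfree
  have hc15 : Nat.card {W : Sylow 5 G // W ≠ Q} = 15 := by
    have h5 := card_subtype_ne (fun _ : Sylow 5 G => True) (a := Q) trivial
    have h6 : Nat.card {x : Sylow 5 G // True} = 16 := by
      rw [Nat.card_congr (Equiv.subtypeUnivEquiv (fun _ => trivial)), hn]
    have h7 : Nat.card {x : Sylow 5 G // True ∧ x ≠ Q} = Nat.card {x : Sylow 5 G // x ≠ Q} := by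
      apply Nat.card_congr
      exact Equiv.subtypeEquivRight (fun x => by simp)
    omega
  rw [hVcard, hc15] at hdiv
  omega

end Cfsg.Agent.Lib.Small.Ord1440a
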