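/-
Small simple groups: primitive actions on cosets, Bochert's bound and Schur's theorem on regular
cyclic subgroups, in the form used to exclude indices of subgroups.
-/
import Cfsg.Agent.Lib.Small.Low5
import Cfsg.Agent.S3559
import Cfsg.Agent.S3681

set_option autoImplicit false
set_option linter.unusedSectionVars false
set_option linter.unusedVariables false

namespace Cfsg.Agent.Lib.Small.PermTools

open Cfsg.Agent.Lib.Small.Basic Cfsg.Agent.Lib.Small.Sieve Cfsg.Agent.Lib.Small.TI
  Cfsg.Agent.Lib.Small.TI2 Cfsg.Agent.Lib.Small.TI3 Cfsg.Agent.Lib.Small.Low1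
  Cfsg.Agent.Lib.Small.Low5

universe u

variable {G : Type u} [Group G] [Finite G] [IsSimpleGroup G]

instance instFaithful (K : Subgroup G) [hK : Fact (K ≠ ⊤)] : FaithfulSMul G (G ⧸ K) :=
  ⟨fun {a b} h => by
    apply toPermHom_injective K hK.out
    ext1 x
    exact h x⟩

theorem nontrivial_quotient (K : Subgroup G) (hK : K ≠ ⊤) : Nontrivial (G ⧸ K) := by
  apply Finite.one_lt_card_iff_nontrivial.mp
  have h1 : Nat.card (G ⧸ K) = K.index := rfl
  rw [h1]
  have h2 : K.index ≠ 0 := Subgroup.index_ne_zero_of_finite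
  have h3 : K.index ≠ 1 := fun h => hK (Subgroup.index_eq_one.mp h)
  omega

/-- The action on cosets of `K` is primitive if there is no intermediate index. -/
theorem isPreprimitive_of_index (hG : ¬ IsMulCommutative G) (K : Subgroup G) (hK : K ≠ ⊤)
    (h : ∀ d, d ∣ K.index → 1 < d → d < K.index → ¬ 2 * Nat.card G ∣ d.factorial) :
    MulAction.IsPreprimitive G (G ⧸ K) := by
  haveI := nontrivial_quotient K hK
  rw [← MulAction.isCoatom_stabilizer_iff_preprimitive G ((1 : G) : G ⧸ K)]
  have hst : MulAction.stabilizer G ((1 : G) : G ⧸ K) = K := by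
    have := MulAction.stabilizer_quotient (G := G) K
    exact this
  rw [hst]
  refine ⟨hK, fun L hL => ?_⟩
  by_contra hLt
  have hd : L.index ∣ K.index := Subgroup.index_dvd_of_le hL.le
  have h1 : L.index ≠ 1 := fun h1 => hLt (Subgroup.index_eq_one.mp h1)
  have h0 : L.index ≠ 0 := Subgroup.index_ne_zero_of_finite
  have hne : L.index ≠ K.index := by
    intro heq
    have h2 := L.card_mul_index
    have h3 := K.card_mul_index
    have h4 : Nat.card K = Nat.card L := by
      have h5 : 0 < K.index := Nat.pos_of_ne_zero Subgroup.index_ne_zero_of_finite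
      apply Nat.eq_of_mul_eq_mul_right h5
      rw [h3, ← heq, h2]
    exact hL.ne (Subgroup.eq_of_le_of_card_ge hL.le h4.ge)
  have hK0 : 0 < K.index := Nat.pos_of_ne_zero Subgroup.index_ne_zero_of_finite
  have hle := Nat.le_of_dvd hK0 hd
  exact h _ hd (by omega) (by omega) (two_mul_card_dvd_factorial_index hG L hLt)

/-- Bochert's bound, for a simple group acting on cosets. -/
theorem false_of_bochert (K : Subgroup G) (hK : K ≠ ⊤) (hprim : MulAction.IsPreprimitive G (G ⧸ K))
    (hA : Nat.card G * 2 < K.index.factorial)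
    (hB : K.index.factorial < Nat.card G * ((K.index + 1) / 2).factorial) : False := by
  classical
  haveI : Fact (K ≠ ⊤) := ⟨hK⟩
  haveI : Fintype (G ⧸ K) := Fintype.ofFinite _
  haveI := nontrivial_quotient K hK
  have hcard : Fintype.card (G ⧸ K) = K.index := by
    rw [← Nat.card_eq_fintype_card]
    rfl
  by_cases hle : alternatingGroup (G ⧸ K) ≤ (MulAction.toPermHom G (G ⧸ K)).range
  · have h1 := Subgroup.card_le_of_le hle
    have h2 : Nat.card (MulAction.toPermHom G (G ⧸ K)).range = Nat.card G :=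
      Nat.card_congr (MonoidHom.ofInjective (toPermHom_injective K hK)).toEquiv.symm
    have h3 := two_mul_card_alternatingGroup (α := G ⧸ K)
    rw [Fintype.card_perm, hcard] at h3
    rw [h2, Nat.card_eq_fintype_card (α := alternatingGroup (G ⧸ K))] at h1
    omega
  · have h1 := Cfsg.Agent.S3681.result hprim hle
    rw [hcard] at h1
    omega

/-- The order of a doubly transitive group. -/
theorem mul_pred_dvd_of_two_trans {Ω : Type*} [MulAction G Ω] [Finite Ω]
    (h2 : MulAction.IsMultiplyPretransitive G Ω 2) (hΩ : 2 ≤ Nat.card Ω) :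
    Nat.card Ω * (Nat.card Ω - 1) ∣ Nat.card G := by
  classical
  have hnt : Nontrivial Ω := (Finite.one_lt_card_iff_nontrivial).mp (by omega)
  obtain ⟨a, b, hab⟩ := exists_pair_ne Ω
  have hs : ({a, b} : Set Ω).ncard = 2 := Set.ncard_pair hab
  have h3 := MulAction.IsMultiplyPretransitive.index_of_fixingSubgroup_eq (G := G) ({a, b} : Set Ω)
    (by rw [hs]; exact h2)
  rw [hs] at h3
  have h4 : (Nat.card Ω).choose 2 * Nat.factorial 2 = Nat.card Ω * (Nat.card Ω - 1) := by
    rw [Nat.choose_two_right]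
    have h5 : 2 ∣ Nat.card Ω * (Nat.card Ω - 1) := by
      rcases Nat.even_mul_pred_self (Nat.card Ω) with ⟨k, hk⟩
      exact ⟨k, by omega⟩
    simp only [Nat.factorial_two]
    exact Nat.div_mul_cancel h5
  rw [h4] at h3
  rw [← h3]
  exact Subgroup.index_dvd_card _

/-- An element commuting with a fixed point free element of prime order, on `p * q` points. -/
theorem fpf_of_commute {p q : ℕ} [hp : Fact p.Prime] [hq : Fact q.Prime] (hpq : p ≠ q) (K : Subgroup G)
    (hK : K ≠ ⊤) (hi : K.index = p * q) {y x : G} (hy : orderOf y = p) (hx : orderOf x = q) (hc : y * x = x * y)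
    (hyf : ∀ a : G ⧸ K, y • a ≠ a) (a : G ⧸ K) : x • a ≠ a := by
  classical
  have hcard : Nat.card (G ⧸ K) = p * q := hi
  have h1 := card_fix_modEq (G := G) (Ω := G ⧸ K) hy (fun a => x • a = a) (by
    intro a ha
    show x • y • a = y • a
    rw [← mul_smul, ← hc, mul_smul, ha])
  have h2 : Nat.card {a : G ⧸ K // x • a = a ∧ y • a = a} = 0 := by
    have : IsEmpty {a : G ⧸ K // x • a = a ∧ y • a = a} := ⟨fun a => hyf a.1 a.2.2⟩
    exact Nat.card_of_isEmpty
  rw [h2] at h1
  have h3 := card_fix_modEq (G := G) (Ω := G ⧸ K) hx (fun _ => True) (fun _ _ => trivial)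
  have h4 : Nat.card {a : G ⧸ K // True} = p * q := by
    rw [← hcard]
    exact Nat.card_congr (Equiv.subtypeUnivEquiv fun _ => trivial)
  rw [h4] at h3
  have h5 : Nat.card {a : G ⧸ K // True ∧ x • a = a} = Nat.card {a : G ⧸ K // x • a = a} :=
    Nat.card_congr (Equiv.subtypeEquivRight fun a => by simp)
  rw [h5] at h3
  have hpd : p ∣ Nat.card {a : G ⧸ K // x • a = a} := (Nat.modEq_zero_iff_dvd).mp h1
  have hqd : q ∣ Nat.card {a : G ⧸ K // x • a = a} := by
    have h6 : p * q ≡ 0 [MOD q] := (Nat.modEq_zero_iff_dvd).mpr (Dvd.intro_left _ rfl)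
    exact (Nat.modEq_zero_iff_dvd).mp (h3.symm.trans h6)
  intro ha
  have hpq' : p * q ∣ Nat.card {a : G ⧸ K // x • a = a} :=
    ((Nat.coprime_primes hp.out hq.out).mpr hpq).mul_dvd_of_dvd_of_dvd hpd hqd
  have hpos : 0 < Nat.card {a : G ⧸ K // x • a = a} := Nat.card_pos_iff.mpr ⟨⟨⟨a, ha⟩⟩, inferInstance⟩
  have hle := Nat.le_of_dvd hpos hpq'
  have hle2 := card_subtype_le (G ⧸ K) (fun a => x • a = a)
  rw [hcard] at hle2
  have heq : Nat.card {a : G ⧸ K // x • a = a} = Nat.card (G ⧸ K) := by
    rw [hcard]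
    omega
  have hall : ∀ b : G ⧸ K, x • b = b := by
    have hbij := (Subtype.val_injective (p := fun a : G ⧸ K => x • a = a)).bijective_of_nat_card_le
      heq.ge
    intro b
    obtain ⟨c, rfl⟩ := hbij.2 b
    exact c.2
  have hx1 := eq_one_of_fix_all hK hall
  rw [hx1, orderOf_one] at hx
  have := hq.out.one_lt
  omega

/-- Schur's theorem, for a commuting pair of fixed point free elements of prime order. -/
theorem two_trans_of_commuting {p q : ℕ} [hp : Fact p.Prime] [hq : Fact q.Prime] (hpq : p ≠ q)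
    (K : Subgroup G) (hK : K ≠ ⊤) (hi : K.index = p * q) (hprim : MulAction.IsPreprimitive G (G ⧸ K))
    {y x : G} (hy : orderOf y = p) (hx : orderOf x = q) (hc : y * x = x * y)
    (hyf : ∀ a : G ⧸ K, y • a ≠ a) (hxf : ∀ a : G ⧸ K, x • a ≠ a) :
    MulAction.IsMultiplyPretransitive G (G ⧸ K) 2 := by
  classical
  haveI : Fact (K ≠ ⊤) := ⟨hK⟩
  have hcard : Nat.card (G ⧸ K) = p * q := hi
  have hcop : Nat.Coprime p q := (Nat.coprime_primes hp.out hq.out).mpr hpq
  have hcomm : Commute y x := hc
  have hz : orderOf (y * x) = p * q := by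
    rw [hcomm.orderOf_mul_eq_mul_orderOf_of_coprime (by rw [hy, hx]; exact hcop), hy, hx]
  set z := y * x with hzdef
  have hCcard : Nat.card (Subgroup.zpowers z) = p * q := by rw [Nat.card_zpowers, hz]
  have hypow : y ^ p = 1 := by rw [← hy]; exact pow_orderOf_eq_one y
  have hxpow : x ^ q = 1 := by rw [← hx]; exact pow_orderOf_eq_one x
  -- powers of z with a fixed point
  have hfree : ∀ (k : ℕ) (a : G ⧸ K), z ^ k • a = a → z ^ k = 1 := by
    intro k a ha
    have hzq : (z ^ k) ^ q = y ^ (k * q) := by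
      rw [hzdef, ← pow_mul, hcomm.mul_pow, mul_comm k q, pow_mul x, hxpow, one_pow, mul_one, mul_comm]
    have hzp : (z ^ k) ^ p = x ^ (k * p) := by
      rw [hzdef, ← pow_mul, hcomm.mul_pow, mul_comm k p, pow_mul y, hypow, one_pow, one_mul, mul_comm]
    have hfixpow : ∀ (n : ℕ) (g : G), g • a = a → g ^ n • a = a := by
      intro n g hg
      induction n with
      | zero => simp
      | succ n ih => rw [pow_succ, mul_smul, hg, ih]
    have h1 : y ^ (k * q) • a = a := by
      rw [← hzq]
      exact hfixpow q _ ha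
    have h2 : x ^ (k * p) • a = a := by
      rw [← hzp]
      exact hfixpow p _ ha
    have hpk : p ∣ k * q := by
      by_contra hnd
      have hco : Nat.Coprime (k * q) p := ((Nat.Prime.coprime_iff_not_dvd hp.out).mpr hnd).symm
      obtain ⟨u, hu⟩ := Nat.exists_mul_mod_eq_one_of_coprime hco hp.out.one_lt
      have h3 : y ^ ((k * q) * u) • a = a := by
        rw [pow_mul]
        exact hfixpow u _ h1
      have h4 : y ^ ((k * q) * u) = y := by
        rw [← pow_mod_orderOf, hy, hu.2, pow_one]
      rw [h4] at h3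
      exact hyf a h3
    have hqk : q ∣ k * p := by
      by_contra hnd
      have hco : Nat.Coprime (k * p) q := ((Nat.Prime.coprime_iff_not_dvd hq.out).mpr hnd).symm
      obtain ⟨u, hu⟩ := Nat.exists_mul_mod_eq_one_of_coprime hco hq.out.one_lt
      have h3 : x ^ ((k * p) * u) • a = a := by
        rw [pow_mul]
        exact hfixpow u _ h2
      have h4 : x ^ ((k * p) * u) = x := by
        rw [← pow_mod_orderOf, hx, hu.2, pow_one]
      rw [h4] at h3
      exact hxf a h3
    have hpk' : p ∣ k := (hcop.dvd_of_dvd_mul_right hpk)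
    have hqk' : q ∣ k := (hcop.symm.dvd_of_dvd_mul_right hqk)
    have hpqk : p * q ∣ k := hcop.mul_dvd_of_dvd_of_dvd hpk' hqk'
    rw [← hz] at hpqk
    exact orderOf_dvd_iff_pow_eq_one.mp hpqk
  have hstab : ∀ a : G ⧸ K, MulAction.stabilizer (Subgroup.zpowers z) a = ⊥ := by
    intro a
    rw [Subgroup.eq_bot_iff_forall]
    rintro ⟨c, hc'⟩ hca
    obtain ⟨k, hk⟩ := (mem_powers_iff_mem_zpowers.mpr hc' : c ∈ Submonoid.powers z)
    have hk' : z ^ k = c := hk
    subst hk'
    apply Subtype.ext
    exact hfree k a hca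
  have hreg : MulAction.IsPretransitive (Subgroup.zpowers z) (G ⧸ K) := by
    refine ⟨fun a b => ?_⟩
    have horb := MulAction.index_stabilizer (Subgroup.zpowers z) a
    rw [hstab a, Subgroup.index_bot, hCcard, ← hcard] at horb
    have huniv : MulAction.orbit (Subgroup.zpowers z) a = Set.univ := by
      have h1 : (MulAction.orbit (Subgroup.zpowers z) a).ncard = (Set.univ : Set (G ⧸ K)).ncard := by
        rw [Set.ncard_univ, ← horb]
      exact Set.eq_of_subset_of_ncard_le (Set.subset_univ _) h1.ge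
    have hb : b ∈ MulAction.orbit (Subgroup.zpowers z) a := by
      rw [huniv]
      exact Set.mem_univ b
    obtain ⟨c, hc'⟩ := hb
    exact ⟨c, hc'⟩
  have hnp : ¬ IsPrimePow (Nat.card (G ⧸ K)) := by
    rw [hcard]
    intro h
    obtain ⟨r, n, hr, hn, hrn⟩ := h
    have hr' : r.Prime := hr.nat_prime
    have h1 : p ∣ r ^ n := by rw [hrn]; exact Dvd.intro _ rfl
    have h2 : q ∣ r ^ n := by rw [hrn]; exact Dvd.intro_left _ rfl
    have h3 := (Nat.prime_dvd_prime_iff_eq hp.out hr').mp (hp.out.dvd_of_dvd_pow h1)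
    have h4 := (Nat.prime_dvd_prime_iff_eq hq.out hr').mp (hq.out.dvd_of_dvd_pow h2)
    exact hpq (h3.trans h4.symm)
  have h2le : 2 ≤ Nat.card (G ⧸ K) := by
    rw [hcard]
    have := hp.out.two_le
    have := hq.out.one_lt
    nlinarith
  rcases Cfsg.Agent.S3559.result (G := G) (Ω := G ⧸ K) inferInstance h2le hnp (Subgroup.zpowers z)
    inferInstance ⟨hreg, hstab⟩ with h | h
  · exact absurd hprim h
  · exact h

/-- Exclusion by Schur's theorem. -/
theorem false_of_commuting {p q : ℕ} [hp : Fact p.Prime] [hq : Fact q.Prime] (hpq : p ≠ q)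
    (K : Subgroup G) (hK : K ≠ ⊤) (hi : K.index = p * q) (hprim : MulAction.IsPreprimitive G (G ⧸ K))
    {y x : G} (hy : orderOf y = p) (hx : orderOf x = q) (hc : y * x = x * y)
    (hyf : ∀ a : G ⧸ K, y • a ≠ a)
    (hnd : ¬ (p * q) * (p * q - 1) ∣ Nat.card G) : False := by
  have h2 := two_trans_of_commuting hpq K hK hi hprim hy hx hc hyf (fpf_of_commute hpq K hK hi hy hx hc hyf)
  have hcard : Nat.card (G ⧸ K) = p * q := hi
  have h2le : 2 ≤ Nat.card (G ⧸ K) := by
    rw [hcard]
    have := hp.out.two_le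
    have := hq.out.one_lt
    nlinarith
  have h3 := mul_pred_dvd_of_two_trans h2 h2le
  rw [hcard] at h3
  exact hnd h3

end Cfsg.Agent.Lib.Small.PermTools
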