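/-
Small simple groups: local arguments for the action on the Sylow subgroups of prime order.
-/
import Cfsg.Agent.Lib.Small.Master2
import Cfsg.Agent.Lib.Small.PermTools
import Cfsg.Agent.Lib.Small.Ord1440a

set_option autoImplicit false
set_option linter.unusedSectionVars false
set_option linter.unusedVariables false

namespace Cfsg.Agent.Lib.Small.OrdLocal

open Cfsg.Agent.Lib.Small.Basic Cfsg.Agent.Lib.Small.Sieve Cfsg.Agent.Lib.Small.TI
  Cfsg.Agent.Lib.Small.TI2 Cfsg.Agent.Lib.Small.TI3 Cfsg.Agent.Lib.Small.Low1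
  Cfsg.Agent.Lib.Small.Low5 Cfsg.Agent.Lib.Small.PermTools
open Cfsg.Agent.Lib.ExcP.Gram Cfsg.Agent.Lib.ExcP.Local

universe u

variable {G : Type u} [Group G] [Finite G] [IsSimpleGroup G]

/-- Numerical data for an element of prime order commuting with a Sylow subgroup of prime order. -/
theorem exists_fix_sylow (hG : ¬ IsMulCommutative G) {p q : ℕ} [hp : Fact p.Prime] [hq : Fact q.Prime]
    (hcard : ∀ U : Sylow p G, Nat.card U = p) (Q : Sylow p G) {w : G}
    (hw : w ∈ Subgroup.centralizer ((Q : Subgroup G) : Set G)) (hwq : orderOf w = q) :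
    ∃ f : ℕ, f % p = 1 % p ∧ f % q = Nat.card (Sylow p G) % q ∧ f < Nat.card (Sylow p G) ∧
      (q = 2 → 4 ∣ Nat.card (Sylow p G) - f) ∧
      f = Nat.card {W : Sylow p G // w • W = W} := by
  classical
  obtain ⟨y', hy'⟩ := exists_prime_orderOf_dvd_card' (G := (Q : Subgroup G)) p (by rw [hcard Q])
  have hy : orderOf (y' : G) = p := by rw [Subgroup.orderOf_coe, hy']
  set y : G := (y' : G) with hydef
  have hyQ : y ∈ (Q : Subgroup G) := y'.2
  have hTI := isTI_of_card_prime hcard
  have hy1 : y ≠ 1 := by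
    intro h0
    rw [h0, orderOf_one] at hy
    exact hp.out.ne_one hy.symm
  have huniq : ∀ W : Sylow p G, y • W = W → W = Q := by
    intro W hW
    by_contra hne
    exact hy1 (eq_one_of_smul_eq hTI hne hyQ hW)
  have hQp : p ∣ Nat.card G := by
    rw [← hcard Q]
    exact Subgroup.card_subgroup_dvd_card _
  have hfaith := smul_faithful hG p hQp
  have hwN : w • Q = Q :=
    Sylow.smul_eq_iff_mem_normalizer.mpr (Subgroup.centralizer_le_normalizer _ hw)
  have hcw : y * w = w * y := (Subgroup.mem_centralizer_iff.mp hw) y hyQ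
  let F : Sylow p G → Prop := fun X => w • X = X
  have h1 := card_fix_modEq hy F (by
    intro X hX
    change w • y • X = y • X
    rw [← mul_smul, ← hcw, mul_smul, hX])
  have hv : Nat.card {X // F X ∧ y • X = X} = 1 := by
    rw [Nat.card_eq_one_iff_unique]
    refine ⟨⟨fun a b => Subtype.ext ((huniq _ a.2.2).trans (huniq _ b.2.2).symm)⟩,
      ⟨⟨Q, hwN, smul_self_of_mem Q hyQ⟩⟩⟩
  rw [hv] at h1
  have h2' := card_fix_modEq hwq (fun _ : Sylow p G => True) (fun _ _ => trivial)
  have htotal : Nat.card {x : Sylow p G // True} = Nat.card (Sylow p G) := by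
    rw [Nat.card_congr (Equiv.subtypeUnivEquiv (fun _ => trivial))]
  have h3 : Nat.card {x : Sylow p G // True ∧ w • x = x} = Nat.card {x // F x} := by
    apply Nat.card_congr
    exact Equiv.subtypeEquivRight (fun x => by simp [F])
  rw [htotal, h3] at h2'
  have hw1 : w ≠ 1 := by
    intro h0
    rw [h0, orderOf_one] at hwq
    exact hq.out.ne_one hwq.symm
  have hle : Nat.card {x // F x} ≤ Nat.card (Sylow p G) := card_subtype_le _ _
  have hne : Nat.card {x // F x} ≠ Nat.card (Sylow p G) := by
    intro heq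
    apply hw1
    apply hfaith
    intro W'
    have hsub : Function.Surjective (Subtype.val : {x // F x} → Sylow p G) := by
      have hinj : Function.Injective (Subtype.val : {x // F x} → Sylow p G) :=
        Subtype.val_injective
      exact ((Nat.bijective_iff_injective_and_card _).mpr ⟨hinj, by rw [heq]⟩).2
    obtain ⟨a, rfl⟩ := hsub W'
    exact a.2
  refine ⟨Nat.card {x // F x}, h1, h2'.symm, lt_of_le_of_ne hle hne, ?_, rfl⟩
  rintro rfl
  have h5 := Cfsg.Agent.Lib.SmallSimple.Sign.four_dvd_card_sub_fixedBy hG (Ω := Sylow p G) w (by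
    rw [← hwq]
    exact pow_orderOf_eq_one w)
  have h6 : Nat.card (MulAction.fixedBy (Sylow p G) w) = Nat.card {x // F x} := rfl
  rwa [h6] at h5

/-- The numerical test for the fixed points. -/
def fixS (n p q : ℕ) : Bool :=
  (List.range n).any fun f => (f % p == 1 % p) && (f % q == n % q) &&
    ((q != 2) || ((n - f) % 4 == 0))

/-- Elimination by the fixed points of an element commuting with a Sylow subgroup of prime order. -/
theorem false_of_fixS (hG : ¬ IsMulCommutative G) {p q K n : ℕ} [hp : Fact p.Prime]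
    [hq : Fact q.Prime] (hcard : ∀ U : Sylow p G, Nat.card U = p) (Q : Sylow p G)
    (hn : Nat.card (Sylow p G) = n)
    (hC : Nat.card (Subgroup.centralizer ((Q : Subgroup G) : Set G)) = p * K) (hqK : q ∣ K)
    (hk : fixS n p q = false) : False := by
  obtain ⟨w', hw'⟩ := exists_prime_orderOf_dvd_card'
    (G := Subgroup.centralizer ((Q : Subgroup G) : Set G)) q
    (by rw [hC]; exact Dvd.dvd.mul_left hqK _)
  have hwq : orderOf (w' : G) = q := by rw [Subgroup.orderOf_coe, hw']
  obtain ⟨f, h1, h2, h3, h4, -⟩ := exists_fix_sylow hG hcard Q w'.2 hwq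
  rw [hn] at h2 h3 h4
  rw [fixS, List.any_eq_false] at hk
  apply hk f (List.mem_range.mpr h3)
  simp only [Bool.and_eq_true, beq_iff_eq, Bool.or_eq_true, bne_iff_ne, ne_eq]
  refine ⟨⟨h1, h2⟩, ?_⟩
  by_cases hq2 : q = 2
  · right
    exact Nat.mod_eq_zero_of_dvd (h4 hq2)
  · left
    exact hq2

/-- The subgroups of prime order of a centralizer of order `p * q`. -/
theorem card_sylow_centralizer_one {p q : ℕ} [hp : Fact p.Prime] [hq : Fact q.Prime] {P : Subgroup G}
    (hP : Nat.card P = p) (hqp : q ≠ p) (hC : Nat.card (Cn P) = p * q) :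
    Nat.card (Sylow q (Cn P)) = 1 := by
  classical
  obtain ⟨S⟩ : Nonempty (Sylow q (Cn P)) := inferInstance
  have hcop : ¬ q ∣ p := fun h => hqp ((Nat.prime_dvd_prime_iff_eq hq.out hp.out).mp h)
  have hS : Nat.card (S : Subgroup (Cn P)) = q := by
    have hm : Nat.card (Cn P) = q ^ 1 * p := by rw [hC, pow_one, mul_comm]
    simpa using card_sylow_eq hm hcop S
  rw [S.card_eq_index_normalizer, Subgroup.index_eq_one]
  let P' : Subgroup (Cn P) := P.subgroupOf (Cn P)
  have hPle : P ≤ Cn P := le_centralizer hP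
  have hP' : Nat.card P' = p := by
    rw [← hP]
    exact Nat.card_congr (Subgroup.subgroupOfEquivOfLe hPle).toEquiv
  have hcentral : ∀ u ∈ P', ∀ x : Cn P, u * x = x * u := by
    intro u hu x
    apply Subtype.ext
    have h2 : (u : G) ∈ P := hu
    exact (Subgroup.mem_centralizer_iff.mp x.2 _ h2)
  have hPn : P' ≤ Nn (S : Subgroup (Cn P)) := by
    intro u hu
    rw [Subgroup.mem_normalizer_iff]
    intro h
    have h3 : u * h * u⁻¹ = h := by
      rw [hcentral u hu h]
      group
    rw [h3]
  have hSn : (S : Subgroup (Cn P)) ≤ Nn (S : Subgroup (Cn P)) := Subgroup.le_normalizer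
  have h1 : q ∣ Nat.card (Nn (S : Subgroup (Cn P))) := by
    have h0 := Subgroup.card_dvd_of_le hSn
    rwa [hS] at h0
  have h2 : p ∣ Nat.card (Nn (S : Subgroup (Cn P))) := by
    rw [← hP']
    exact Subgroup.card_dvd_of_le hPn
  have hcp : Nat.Coprime p q :=
    (Nat.coprime_primes hp.out hq.out).mpr (Ne.symm hqp)
  have h3 : p * q ∣ Nat.card (Nn (S : Subgroup (Cn P))) := hcp.mul_dvd_of_dvd_of_dvd h2 h1
  have h4 : Nat.card (Nn (S : Subgroup (Cn P))) ∣ Nat.card (Cn P) :=
    Subgroup.card_subgroup_dvd_card _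
  apply Subgroup.eq_top_of_card_eq
  apply Nat.dvd_antisymm h4
  rw [hC]
  exact h3

/-- Overgroups of the normalizer of a Sylow subgroup have index congruent to one. -/
theorem index_modEq {p : ℕ} [hp : Fact p.Prime] (Q : Sylow p G) (L : Subgroup G)
    (hL : Nn (Q : Subgroup G) ≤ L) :
    ∃ m : ℕ, Nat.card L = Nat.card (Nn (Q : Subgroup G)) * m ∧ m % p = 1 % p := by
  classical
  have hQL : (Q : Subgroup G) ≤ L := Subgroup.le_normalizer.trans hL
  let Q' : Sylow p L := Q.subtype hQL
  refine ⟨Nat.card (Sylow p L), ?_, ?_⟩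
  · have h1 := (Nn (Q' : Subgroup L)).card_mul_index
    have h2 : Nn (Q' : Subgroup L) = (Nn (Q : Subgroup G)).subgroupOf L := by
      rw [Sylow.coe_subtype]
      exact (Subgroup.subgroupOf_normalizer_eq hQL).symm
    have h3 : Nat.card (Nn (Q' : Subgroup L)) = Nat.card (Nn (Q : Subgroup G)) := by
      rw [h2]
      exact Nat.card_congr (Subgroup.subgroupOfEquivOfLe hL).toEquiv
    rw [Q'.card_eq_index_normalizer, ← h3]
    exact h1.symm
  · exact card_sylow_modEq_one p L

end Cfsg.Agent.Lib.Small.OrdLocal
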