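/-
Small simple groups: orders between 3640 and 6232 eliminated by short local arguments.
-/
import Cfsg.Agent.Lib.Small.OrdLocal

set_option autoImplicit false
set_option linter.unusedSectionVars false
set_option linter.unusedVariables false

namespace Cfsg.Agent.Lib.Small.OrdLocal2

open Cfsg.Agent.Lib.Small.Basic Cfsg.Agent.Lib.Small.Sieve Cfsg.Agent.Lib.Small.Low1
  Cfsg.Agent.Lib.Small.Master2 Cfsg.Agent.Lib.Small.OrdLocal
open Cfsg.Agent.Lib.ExcP.Gram Cfsg.Agent.Lib.ExcP.Local

universe u

variable {G : Type u} [Group G] [Finite G] [IsSimpleGroup G]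

theorem false_3888 (hG : ¬ IsMulCommutative G) (h : Nat.card G = 3888) : False :=
  false_of_two_primes (p := 2) (q := 3) (a := 4) (b := 5) hG (by norm_num) (by norm_num) (by rw [h]; norm_num)

theorem false_3968 (hG : ¬ IsMulCommutative G) (h : Nat.card G = 3968) : False :=
  false_of_two_primes (p := 2) (q := 31) (a := 7) (b := 1) hG (by norm_num) (by norm_num) (by rw [h]; norm_num)

theorem false_4000 (hG : ¬ IsMulCommutative G) (h : Nat.card G = 4000) : False :=
  false_of_two_primes (p := 2) (q := 5) (a := 5) (b := 3) hG (by norm_num) (by norm_num) (by rw [h]; norm_num)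

theorem false_5184 (hG : ¬ IsMulCommutative G) (h : Nat.card G = 5184) : False :=
  false_of_two_primes (p := 2) (q := 3) (a := 6) (b := 4) hG (by norm_num) (by norm_num) (by rw [h]; norm_num)

theorem false_6075 (hG : ¬ IsMulCommutative G) (h : Nat.card G = 6075) : False :=
  false_of_two_primes (p := 3) (q := 5) (a := 5) (b := 2) hG (by norm_num) (by norm_num) (by rw [h]; norm_num)

theorem false_4500 (hG : ¬ IsMulCommutative G) (h : Nat.card G = 4500) : False := by
  haveI : Fact (Nat.Prime 5) := ⟨by norm_num⟩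
  have hm := card_sylow_mem_candidates (p := 5) (k := 3) (m := 36) hG h (by norm_num) (by norm_num)
    (by norm_num)
  have hc : candidates 4500 5 3 36 = [36] := by decide +kernel
  rw [hc, List.mem_singleton] at hm
  obtain ⟨P, R, K, -, -, -, -, hi⟩ := exists_idxCand (p := 5) (k := 3) (m := 36) hG (by rw [h]; norm_num)
    (by norm_num) (by norm_num) (by rw [hm]; decide)
  have he : idxCand (5 ^ 3 * 36) 5 36 = [] := by decide +kernel
  rw [he] at hi
  simp at hi

theorem false_6000 (hG : ¬ IsMulCommutative G) (h : Nat.card G = 6000) : False := by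
  haveI : Fact (Nat.Prime 5) := ⟨by norm_num⟩
  have hm := card_sylow_mem_candidates (p := 5) (k := 3) (m := 48) hG h (by norm_num) (by norm_num)
    (by norm_num)
  have hc : candidates 6000 5 3 48 = [16] := by decide +kernel
  rw [hc, List.mem_singleton] at hm
  obtain ⟨P, R, K, -, -, -, -, hi⟩ := exists_idxCand (p := 5) (k := 3) (m := 48) hG (by rw [h]; norm_num)
    (by norm_num) (by norm_num) (by rw [hm]; decide)
  have he : idxCand (5 ^ 3 * 48) 5 48 = [] := by decide +kernel
  rw [he] at hi
  simp at hi

theorem false_5292 (hG : ¬ IsMulCommutative G) (h : Nat.card G = 5292) : False := by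
  haveI : Fact (Nat.Prime 7) := ⟨by norm_num⟩
  have hm := card_sylow_mem_candidates (p := 7) (k := 2) (m := 108) hG h (by norm_num) (by norm_num)
    (by norm_num)
  have hc : candidates 5292 7 2 108 = [36] := by decide +kernel
  rw [hc, List.mem_singleton] at hm
  obtain ⟨P, R, K, -, -, -, -, hi⟩ := exists_idxCand (p := 7) (k := 2) (m := 108) hG (by rw [h]; norm_num)
    (by norm_num) (by norm_num) (by rw [hm]; decide)
  have he : idxCand (7 ^ 2 * 108) 7 108 = [] := by decide +kernel
  rw [he] at hi
  simp at hi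

theorem false_4620 (hG : ¬ IsMulCommutative G) (h : Nat.card G = 4620) : False := by
  haveI : Fact (Nat.Prime 7) := ⟨by norm_num⟩
  haveI : Fact (Nat.Prime 5) := ⟨by norm_num⟩
  have hcard : ∀ U : Sylow 7 G, Nat.card U = 7 := by
    intro U
    simpa using card_sylow_eq (p := 7) (k := 1) (m := 660) (by rw [h]; norm_num) (by norm_num) U
  refine false_by_prime2 (p := 7) (two := 2) (dmin := 3) hG h (by norm_num) (by norm_num)
    (by norm_num) (by norm_num) (by norm_num) (by norm_num) [(22, 3), (22, 6)] ?_ (by decide +kernel)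
  intro Q n e K hmem hQ hn he he1 hm hC hNo
  simp only [List.mem_cons, List.not_mem_nil, or_false, Prod.mk.injEq] at hmem
  rcases hmem with ⟨rfl, rfl⟩ | ⟨rfl, rfl⟩
  · have hK : K = 10 := by omega
    exact false_of_fixS (q := 5) hG hcard Q hn hC (by rw [hK]; norm_num) (by decide +kernel)
  · have hK : K = 5 := by omega
    exact false_of_fixS (q := 5) hG hcard Q hn hC (by rw [hK]) (by decide +kernel)

theorem false_5460 (hG : ¬ IsMulCommutative G) (h : Nat.card G = 5460) : False := by
  haveI : Fact (Nat.Prime 13) := ⟨by norm_num⟩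
  haveI : Fact (Nat.Prime 5) := ⟨by norm_num⟩
  have hcard : ∀ U : Sylow 13 G, Nat.card U = 13 := by
    intro U
    simpa using card_sylow_eq (p := 13) (k := 1) (m := 420) (by rw [h]; norm_num) (by norm_num) U
  refine false_by_prime2 (p := 13) (two := 2) (dmin := 3) hG h (by norm_num) (by norm_num)
    (by norm_num) (by norm_num) (by norm_num) (by norm_num) [(14, 2), (14, 6)] ?_ (by decide +kernel)
  intro Q n e K hmem hQ hn he he1 hm hC hNo
  simp only [List.mem_cons, List.not_mem_nil, or_false, Prod.mk.injEq] at hmem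
  rcases hmem with ⟨rfl, rfl⟩ | ⟨rfl, rfl⟩
  · have hK : K = 15 := by omega
    exact false_of_fixS (q := 5) hG hcard Q hn hC (by rw [hK]; norm_num) (by decide +kernel)
  · have hK : K = 5 := by omega
    exact false_of_fixS (q := 5) hG hcard Q hn hC (by rw [hK]) (by decide +kernel)

/-- The normalizer of a subgroup of prime order `p` whose centralizer has order `p * r` normalizes the
subgroup of order `r` of the centralizer. -/
theorem exists_le_normalizer {p r : ℕ} [hp : Fact p.Prime] [hr : Fact r.Prime] {Q : Subgroup G}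
    (hQ : Nat.card Q = p) (hrp : r ≠ p) (hC : Nat.card (Cn Q) = p * r) :
    ∃ S : Subgroup G, Nat.card S = r ∧ S ≤ Cn Q ∧ Nn Q ≤ Nn S := by
  have hone := card_sylow_centralizer_one (q := r) hQ hrp hC
  obtain ⟨S⟩ : Nonempty (Sylow r (Cn Q)) := inferInstance
  have hinv : ∀ g ∈ Nn Q, ∀ v ∈ Cn Q, g * v * g⁻¹ ∈ Cn Q := by
    intro g hg v hv
    have h1 := conj_mem_centralizer Q (inv_mem hg) hv
    simpa using h1
  have hle := le_normalizer_of_unique (K := Cn Q) (N := Nn Q) hinv hone S
  have hcop : ¬ r ∣ p := fun h => hrp ((Nat.prime_dvd_prime_iff_eq hr.out hp.out).mp h)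
  have hS : Nat.card (S : Subgroup (Cn Q)) = r := by
    have hm : Nat.card (Cn Q) = r ^ 1 * p := by rw [hC, pow_one, mul_comm]
    simpa using card_sylow_eq hm hcop S
  refine ⟨_, ?_, ?_, hle⟩
  · exact (Nat.card_congr (Subgroup.equivMapOfInjective _ _ (Cn Q).subtype_injective).toEquiv.symm).trans hS
  · rintro _ ⟨v, _, rfl⟩
    exact v.2

/-- A subgroup whose order is the full power of `p` is a Sylow subgroup. -/
theorem exists_sylow_of_card {p k m : ℕ} [hp : Fact p.Prime] (hN : Nat.card G = p ^ k * m) (hm : ¬ p ∣ m)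
    {S : Subgroup G} (hS : Nat.card S = p ^ k) : ∃ T : Sylow p G, (T : Subgroup G) = S := by
  have hP : IsPGroup p S := IsPGroup.of_card hS
  obtain ⟨T, hT⟩ := hP.exists_le_sylow
  refine ⟨T, ?_⟩
  have h1 := card_sylow_eq hN hm T
  exact (Subgroup.eq_of_le_of_card_ge hT (by rw [h1, hS])).symm

theorem false_3780 (hG : ¬ IsMulCommutative G) (h : Nat.card G = 3780) : False := by
  haveI : Fact (Nat.Prime 7) := ⟨by norm_num⟩
  haveI : Fact (Nat.Prime 5) := ⟨by norm_num⟩
  haveI : Fact (Nat.Prime 2) := ⟨by norm_num⟩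
  have hcard : ∀ U : Sylow 7 G, Nat.card U = 7 := by
    intro U
    simpa using card_sylow_eq (p := 7) (k := 1) (m := 540) (by rw [h]; norm_num) (by norm_num) U
  refine false_by_prime2 (p := 7) (two := 2) (dmin := 3) hG h (by norm_num) (by norm_num)
    (by norm_num) (by norm_num) (by norm_num) (by norm_num) [(15, 3), (15, 6), (36, 3)] ?_
    (by decide +kernel)
  intro Q n e K hmem hQ hn he he1 hm hC hNo
  simp only [List.mem_cons, List.not_mem_nil, or_false, Prod.mk.injEq] at hmem
  rcases hmem with ⟨rfl, rfl⟩ | ⟨rfl, rfl⟩ | ⟨rfl, rfl⟩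
  · have hK : K = 12 := by omega
    exact false_of_fixS (q := 2) hG hcard Q hn hC (by rw [hK]; norm_num) (by decide +kernel)
  · have hK : K = 6 := by omega
    exact false_of_fixS (q := 2) hG hcard Q hn hC (by rw [hK]; norm_num) (by decide +kernel)
  · have hK : K = 5 := by omega
    subst hK
    obtain ⟨S, hS, -, hle⟩ := exists_le_normalizer (r := 5) hQ (by norm_num) hC
    obtain ⟨T, rfl⟩ := exists_sylow_of_card (p := 5) (k := 1) (m := 756) (by rw [h]; norm_num)
      (by norm_num) (S := S) (by simpa using hS)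
    have h1 := card_sylow_mem_candidates (p := 5) (k := 1) (m := 756) hG h (by norm_num) (by norm_num)
      (by norm_num)
    have hc : candidates 3780 5 1 756 = [21, 126] := by decide +kernel
    rw [hc] at h1
    have h2 : Nat.card (Nn (T : Subgroup G)) * Nat.card (Sylow 5 G) = 3780 := by
      rw [T.card_eq_index_normalizer, ← h]
      exact (Nn (T : Subgroup G)).card_mul_index
    have h3 : 105 ∣ Nat.card (Nn (T : Subgroup G)) := by
      have h4 := Subgroup.card_dvd_of_le hle
      have h5 : Nat.card (Nn (Q : Subgroup G)) = 105 := hNo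
      rwa [h5] at h4
    simp only [List.mem_cons, List.not_mem_nil, or_false] at h1
    rcases h1 with h1 | h1 <;> rw [h1] at h2 <;> omega

end Cfsg.Agent.Lib.Small.OrdLocal2
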