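/-
Small simple groups: no simple group of order 5400.
-/
import Cfsg.Agent.Lib.Small.OrdLocal2

set_option autoImplicit false
set_option linter.unusedSectionVars false
set_option linter.unusedVariables false

namespace Cfsg.Agent.Lib.Small.Ord5400

open Cfsg.Agent.Lib.Small.Basic Cfsg.Agent.Lib.Small.Sieve Cfsg.Agent.Lib.Small.Low1
  Cfsg.Agent.Lib.Small.Master2 Cfsg.Agent.Lib.Small.OrdLocal Cfsg.Agent.Lib.Small.TI
open Cfsg.Agent.Lib.ExcP.Gram Cfsg.Agent.Lib.ExcP.Local

universe u

/-- A finite group of order twice an odd number has a sign character onto the units of `ℤ`. -/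
theorem exists_surjective_sign {H : Type*} [Group H] [Finite H] {r : ℕ} (hr : Odd r)
    (hcard : Nat.card H = 2 * r) : ∃ φ : H →* ℤˣ, Function.Surjective φ := by
  classical
  letI : Fintype H := Fintype.ofFinite H
  haveI : Fact (Nat.Prime 2) := ⟨Nat.prime_two⟩
  obtain ⟨t, ht⟩ := exists_prime_orderOf_dvd_card' (G := H) 2 (by rw [hcard]; exact Dvd.intro _ rfl)
  let φ : H →* ℤˣ := Equiv.Perm.sign.comp (MulAction.toPermHom H H)
  refine ⟨φ, ?_⟩
  have ht1 : t ≠ 1 := by
    rintro rfl
    simp at ht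
  have hsq : (MulAction.toPermHom H H t) ^ 2 = 1 := by
    rw [← map_pow, ← ht, pow_orderOf_eq_one, map_one]
  have hsupp : (MulAction.toPermHom H H t).support = Finset.univ := by
    ext x
    simp only [Equiv.Perm.mem_support, Finset.mem_univ, iff_true]
    intro hx
    apply ht1
    have h1 : t • x = x := hx
    simpa using h1
  have hcard' : Fintype.card H = 2 * r := by rw [← Nat.card_eq_fintype_card, hcard]
  have hneg : φ t = -1 := by
    change Equiv.Perm.sign (MulAction.toPermHom H H t) = -1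
    rw [Cfsg.Agent.Lib.SmallSimple.Sign.sign_of_sq_eq_one _ hsq, hsupp, Finset.card_univ, hcard',
      Nat.mul_div_cancel_left _ (by norm_num)]
    exact hr.neg_one_pow
  intro u
  rcases Int.units_eq_one_or u with rfl | rfl
  · exact ⟨1, map_one φ⟩
  · exact ⟨t, hneg⟩

/-- A group of order 450 has a unique Sylow 5-subgroup. -/
theorem card_sylow_of_450 {H : Type*} [Group H] [Finite H] (hcard : Nat.card H = 450) :
    Nat.card (Sylow 5 H) = 1 := by
  classical
  haveI : Fact (Nat.Prime 5) := ⟨by norm_num⟩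
  obtain ⟨φ, hφ⟩ := exists_surjective_sign (H := H) (r := 225) (by decide) (by rw [hcard])
  have hidx : φ.ker.index = 2 := by
    rw [Subgroup.index_ker, MonoidHom.range_eq_top.mpr hφ, Subgroup.card_top]
    simp
  have hM : Nat.card φ.ker = 225 := by
    have h1 := φ.ker.card_mul_index
    rw [hidx, hcard] at h1
    omega
  have hle : ∀ P : Sylow 5 H, (P : Subgroup H) ≤ φ.ker := by
    intro P x hx
    have h1 : Nat.card (P : Subgroup H) = 25 := by
      simpa using card_sylow_eq (p := 5) (k := 2) (m := 18) (by rw [hcard]; norm_num) (by norm_num) P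
    have h2 : x ^ 25 = 1 := by
      have h3 : orderOf x ∣ 25 := by
        rw [← h1, ← Subgroup.orderOf_mk x hx]
        exact orderOf_dvd_natCard _
      exact orderOf_dvd_iff_pow_eq_one.mp h3
    rw [MonoidHom.mem_ker]
    have h4 : φ x ^ 25 = 1 := by rw [← map_pow, h2, map_one]
    rcases Int.units_eq_one_or (φ x) with h5 | h5
    · exact h5
    · rw [h5] at h4
      exact absurd h4 (by decide)
  have hone : Nat.card (Sylow 5 φ.ker) = 1 := by
    obtain ⟨S⟩ : Nonempty (Sylow 5 φ.ker) := inferInstance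
    have h1 : Nat.card (S : Subgroup φ.ker) = 25 := by
      simpa using card_sylow_eq (p := 5) (k := 2) (m := 9) (by rw [hM]; norm_num) (by norm_num) S
    have h2 : (S : Subgroup φ.ker).index = 9 := by
      have h3 := (S : Subgroup φ.ker).card_mul_index
      rw [h1, hM] at h3
      omega
    have h3 : Nat.card (Sylow 5 φ.ker) ∣ 9 := by
      rw [← h2]
      exact S.card_dvd_index
    have h4 := card_sylow_modEq_one 5 φ.ker
    have h5 : Nat.card (Sylow 5 φ.ker) ≤ 9 := Nat.le_of_dvd (by norm_num) h3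
    have h6 : Nat.card (Sylow 5 φ.ker) % 5 = 1 := h4
    have h7 : 0 < Nat.card (Sylow 5 φ.ker) := Nat.card_pos
    generalize Nat.card (Sylow 5 φ.ker) = n at *
    interval_cases n <;> simp_all
  have hsub : Subsingleton (Sylow 5 φ.ker) := (Nat.card_eq_one_iff_unique.mp hone).1
  rw [Nat.card_eq_one_iff_unique]
  refine ⟨⟨fun P R => ?_⟩, inferInstance⟩
  exact Sylow.subtype_injective (hP := hle P) (hQ := hle R) (hsub.elim _ _)

variable {G : Type u} [Group G] [Finite G] [IsSimpleGroup G]

theorem mem_smul_iff {p : ℕ} (g : G) (W : Sylow p G) (x : G) :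
    x ∈ ((g • W : Sylow p G) : Subgroup G) ↔ g⁻¹ * x * g ∈ (W : Subgroup G) := by
  rw [Sylow.coe_subgroup_smul, Subgroup.mem_pointwise_smul_iff_inv_smul_mem]
  simp [MulAut.smul_def]

/-- A subgroup of a group of order `p ^ 2` is normalized by it. -/
theorem le_normalizer_of_card_sq {p : ℕ} [hp : Fact p.Prime] {A D : Subgroup G}
    (hA : Nat.card A = p ^ 2) (hDA : D ≤ A) : A ≤ Nn D := by
  have hc := IsPGroup.isMulCommutative_of_card_eq_prime_sq hA
  have hcomm : ∀ a ∈ A, ∀ x ∈ A, a * x = x * a := by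
    intro a ha x hx
    exact congrArg Subtype.val (hc.is_comm.comm (⟨a, ha⟩ : A) ⟨x, hx⟩)
  intro a ha
  rw [Subgroup.mem_normalizer_iff]
  intro x
  constructor
  · intro hx
    have h1 : a * x * a⁻¹ = x := by
      rw [hcomm a ha x (hDA hx)]
      group
    rwa [h1]
  · intro hx
    have h1 : a * x * a⁻¹ ∈ A := hDA hx
    have h2 : x ∈ A := by
      have h3 : x = a⁻¹ * (a * x * a⁻¹) * a := by group
      rw [h3]
      exact A.mul_mem (A.mul_mem (A.inv_mem ha) h1) ha
    have h4 : a * x * a⁻¹ = x := by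
      rw [hcomm a ha x h2]
      group
    rwa [h4] at hx

theorem false_5400 (hG : ¬ IsMulCommutative G) (h : Nat.card G = 5400) : False := by
  classical
  haveI : Fact (Nat.Prime 5) := ⟨by norm_num⟩
  haveI : Fact (Nat.Prime 3) := ⟨by norm_num⟩
  have hcard : ∀ U : Sylow 5 G, Nat.card U = 25 := by
    intro U
    simpa using card_sylow_eq (p := 5) (k := 2) (m := 216) (by rw [h]; norm_num) (by norm_num) U
  have hn : Nat.card (Sylow 5 G) = 36 := by
    have h1 := card_sylow_mem_candidates (p := 5) (k := 2) (m := 216) hG h (by norm_num) (by norm_num)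
      (by norm_num)
    have hc : candidates 5400 5 2 216 = [36] := by decide +kernel
    rw [hc, List.mem_singleton] at h1
    exact h1
  obtain ⟨Q⟩ : Nonempty (Sylow 5 G) := inferInstance
  have hNQ : Nat.card (Nn (Q : Subgroup G)) = 150 := by
    have h1 := (Nn (Q : Subgroup G)).card_mul_index
    have h2 : (Nn (Q : Subgroup G)).index = 36 := by
      rw [← hn, Q.card_eq_index_normalizer]
      rfl
    rw [h2, h] at h1
    omega
  obtain ⟨w', hw'⟩ := exists_prime_orderOf_dvd_card' (G := Nn (Q : Subgroup G)) 3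
    (by rw [hNQ]; norm_num)
  have hw : orderOf (w' : G) = 3 := by rw [Subgroup.orderOf_coe, hw']
  set w : G := (w' : G) with hwdef
  have hwN : w ∈ Nn (Q : Subgroup G) := w'.2
  have hwQ : w • Q = Q := Sylow.smul_eq_iff_mem_normalizer.mpr hwN
  let Y : Sylow 5 G → Prop := fun W => W ≠ Q ∧ (Q : Subgroup G) ⊓ (W : Subgroup G) ≠ ⊥
  let Z : Sylow 5 G → Prop := fun W => W ≠ Q ∧ (Q : Subgroup G) ⊓ (W : Subgroup G) = ⊥
  have hsum : Nat.card {x // Y x} + Nat.card {x // Z x} = 35 := by
    letI : Fintype (Sylow 5 G) := Fintype.ofFinite _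
    simp only [Nat.card_eq_fintype_card, Fintype.card_subtype]
    have h1 : (Finset.univ.filter Y).card + (Finset.univ.filter Z).card =
        ((Finset.univ.filter Y) ∪ (Finset.univ.filter Z)).card := by
      rw [Finset.card_union_of_disjoint]
      rw [Finset.disjoint_filter]
      intro x _ hx hz
      exact hx.2 hz.2
    have h2 : (Finset.univ.filter Y) ∪ (Finset.univ.filter Z) = Finset.univ.erase Q := by
      ext x
      simp only [Y, Z, Finset.mem_union, Finset.mem_filter, Finset.mem_univ, true_and,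
        Finset.mem_erase, and_true]
      tauto
    rw [h1, h2, Finset.card_erase_of_mem (Finset.mem_univ Q), Finset.card_univ,
      ← Nat.card_eq_fintype_card, hn]
  have hZ25 : 25 ∣ Nat.card {x // Z x} := by
    rw [← hcard Q]
    apply Ord1440a.card_dvd_of_free (Q : Subgroup G) Z
    · intro v hv W hW
      refine ⟨?_, ?_⟩
      · intro hh
        apply hW.1
        have h1 : v⁻¹ • Q = Q := smul_self_of_mem Q (Q.inv_mem hv)
        rw [← h1, ← hh, inv_smul_smul]
      · rw [Subgroup.eq_bot_iff_forall]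
        rintro x ⟨hx1, hx2⟩
        have hx3 := (mem_smul_iff v W x).mp hx2
        have hx4 : v⁻¹ * x * v ∈ (Q : Subgroup G) ⊓ (W : Subgroup G) :=
          ⟨Q.mul_mem (Q.mul_mem (Q.inv_mem hv) hx1) hv, hx3⟩
        rw [hW.2, Subgroup.mem_bot] at hx4
        have hx5 : x = v * (v⁻¹ * x * v) * v⁻¹ := by group
        rw [hx5, hx4]
        group
    · intro v hv hv1 W hW hfix
      have h1 : v ∈ Nn (W : Subgroup G) := Sylow.smul_eq_iff_mem_normalizer.mp hfix
      have h2 := (Q.isPGroup').inf_normalizer_sylow W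
      have h3 : v ∈ (Q : Subgroup G) ⊓ (W : Subgroup G) := by
        rw [← h2]
        exact ⟨hv, h1⟩
      rw [hW.2, Subgroup.mem_bot] at h3
      exact hv1 h3
  have hY3 : ¬ 3 ∣ Nat.card {x // Y x} := by
    obtain ⟨c, hc⟩ := hZ25
    have hc1 : c = 0 ∨ c = 1 := by omega
    rcases hc1 with rfl | rfl <;> omega
  have hYinv : ∀ W, Y W → Y (w • W) := by
    intro W hW
    refine ⟨?_, ?_⟩
    · intro hh
      apply hW.1
      rw [← hwQ] at hh
      exact smul_left_cancel _ hh
    · intro hbot
      apply hW.2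
      rw [Subgroup.eq_bot_iff_forall]
      rintro x ⟨hx1, hx2⟩
      have hx3 : w * x * w⁻¹ ∈ (Q : Subgroup G) := (Subgroup.mem_normalizer_iff.mp hwN x).mp hx1
      have hx4 : w * x * w⁻¹ ∈ ((w • W : Sylow 5 G) : Subgroup G) := by
        rw [mem_smul_iff]
        have h5 : w⁻¹ * (w * x * w⁻¹) * w = x := by group
        rw [h5]
        exact hx2
      have hx5 : w * x * w⁻¹ ∈ (Q : Subgroup G) ⊓ ((w • W : Sylow 5 G) : Subgroup G) := ⟨hx3, hx4⟩
      rw [hbot, Subgroup.mem_bot] at hx5
      have h6 : x = w⁻¹ * (w * x * w⁻¹) * w := by group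
      rw [h6, hx5]
      group
  obtain ⟨W, hYW, hwW⟩ : ∃ W, Y W ∧ w • W = W := by
    have h1 := card_fix_modEq hw Y hYinv
    by_contra hno
    have h2 : Nat.card {x // Y x ∧ w • x = x} = 0 := by
      rw [Nat.card_eq_zero]
      left
      exact ⟨fun x => hno ⟨x.1, x.2⟩⟩
    rw [h2] at h1
    exact hY3 ((Nat.modEq_zero_iff_dvd).mp h1)
  have hne : Q ≠ W := hYW.1.symm
  set D : Subgroup G := (Q : Subgroup G) ⊓ (W : Subgroup G) with hD
  have hcD : Nat.card D = 5 := by
    have h1 : Nat.card D ∣ 5 ^ 2 := by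
      have h2 : (25 : ℕ) = 5 ^ 2 := by norm_num
      rw [← h2, ← hcard Q]
      exact Subgroup.card_dvd_of_le inf_le_left
    obtain ⟨j, hj, hj2⟩ := (Nat.dvd_prime_pow (by norm_num : Nat.Prime 5)).mp h1
    interval_cases j
    · exact absurd (Subgroup.eq_bot_of_card_eq D (by simpa using hj2)) hYW.2
    · simpa using hj2
    · exfalso
      have h3 : D = (Q : Subgroup G) :=
        Subgroup.eq_of_le_of_card_ge inf_le_left (by rw [hj2, hcard Q]; norm_num)
      have h4 : (Q : Subgroup G) ≤ W := inf_eq_left.mp h3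
      exact hne (Sylow.ext (Q.is_maximal' W.isPGroup' h4).symm)
  have hQH : (Q : Subgroup G) ≤ Nn D :=
    le_normalizer_of_card_sq (p := 5) (by rw [hcard Q]; norm_num) inf_le_left
  have hWH : (W : Subgroup G) ≤ Nn D :=
    le_normalizer_of_card_sq (p := 5) (by rw [hcard W]; norm_num) inf_le_right
  have hwH : w ∈ Nn D := by
    rw [Subgroup.mem_normalizer_iff]
    intro x
    have h1 := Subgroup.mem_normalizer_iff.mp hwN x
    have h2 := Subgroup.mem_normalizer_iff.mp (Sylow.smul_eq_iff_mem_normalizer.mp hwW) x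
    simp only [hD, Subgroup.mem_inf, h1, h2]
  have hHtop : Nn D ≠ ⊤ := by
    intro htop
    have hnorm : D.Normal := Subgroup.normalizer_eq_top_iff.mp htop
    rcases hnorm.eq_bot_or_eq_top with h1 | h1
    · rw [h1, Subgroup.card_bot] at hcD
      omega
    · rw [h1, Subgroup.card_top, h] at hcD
      omega
  have hi := mem_idxCand (p := 5) (k := 2) (m := 216) hG (by rw [h]; norm_num) (by norm_num) Q W hne
    (by rw [hcard Q]; norm_num) (Nn D) hHtop hQH hWH
  have hl : idxCand (5 ^ 2 * 216) 5 216 = [12, 18, 36] := by decide +kernel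
  rw [hl] at hi
  set H : Subgroup G := Nn D with hHdef
  let Q' : Sylow 5 H := Q.subtype hQH
  have hmne : Nat.card (Sylow 5 H) ≠ 1 := by
    intro h1
    have hu := (Nat.card_eq_one_iff_unique.mp h1).1
    exact hne (Sylow.subtype_injective (hP := hQH) (hQ := hWH) (hu.elim _ _))
  have hmod : Nat.card (Sylow 5 H) % 5 = 1 := card_sylow_modEq_one 5 H
  have hm1 : Nat.card (Nn (Q' : Subgroup H)) * Nat.card (Sylow 5 H) = Nat.card H := by
    rw [Q'.card_eq_index_normalizer]
    exact (Nn (Q' : Subgroup H)).card_mul_index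
  have h25 : 25 ∣ Nat.card (Nn (Q' : Subgroup H)) := by
    have h1 : Nat.card (Q' : Subgroup H) = 25 := by
      rw [← hcard Q]
      exact Nat.card_congr (Subgroup.subgroupOfEquivOfLe hQH).toEquiv
    rw [← h1]
    exact Subgroup.card_dvd_of_le Subgroup.le_normalizer
  have h3 : 3 ∣ Nat.card (Nn (Q' : Subgroup H)) := by
    have hmem : (⟨w, hwH⟩ : H) ∈ Nn (Q' : Subgroup H) := by
      have h1 : Nn (Q' : Subgroup H) = (Nn (Q : Subgroup G)).subgroupOf H := by
        rw [Sylow.coe_subtype]
        exact (Subgroup.subgroupOf_normalizer_eq hQH).symm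
      rw [h1]
      exact Subgroup.mem_subgroupOf.mpr hwN
    have h1 := Subgroup.orderOf_dvd_natCard (Nn (Q' : Subgroup H)) hmem
    rwa [Subgroup.orderOf_mk, hw] at h1
  obtain ⟨c, hc⟩ : 3 * 25 ∣ Nat.card (Nn (Q' : Subgroup H)) :=
    Nat.Coprime.mul_dvd_of_dvd_of_dvd (by norm_num) h3 h25
  rw [hc] at hm1
  have hGH : Nat.card H * H.index = 5400 := by rw [H.card_mul_index, h]
  have hm0 : 0 < Nat.card (Sylow 5 H) := Nat.card_pos
  simp only [List.mem_cons, List.not_mem_nil, or_false] at hi
  rcases hi with hi | hi | hi <;> rw [hi] at hGH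
  · have h450 : Nat.card H = 450 := by omega
    exact hmne (card_sylow_of_450 h450)
  · have h4 : Nat.card H = 300 := by omega
    rw [h4] at hm1
    have h5 : c * Nat.card (Sylow 5 H) = 4 := by
      have h6 : 75 * (c * Nat.card (Sylow 5 H)) = 300 := by rw [← hm1]; ring
      omega
    have h6 : Nat.card (Sylow 5 H) ≤ 4 := Nat.le_of_dvd (by norm_num) (Dvd.intro_left _ h5)
    omega
  · have h4 : Nat.card H = 150 := by omega
    rw [h4] at hm1
    have h5 : c * Nat.card (Sylow 5 H) = 2 := by
      have h6 : 75 * (c * Nat.card (Sylow 5 H)) = 150 := by rw [← hm1]; ring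
      omega
    have h6 : Nat.card (Sylow 5 H) ≤ 2 := Nat.le_of_dvd (by norm_num) (Dvd.intro_left _ h5)
    omega

end Cfsg.Agent.Lib.Small.Ord5400
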