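/-
Small simple groups: no simple group of order 5040.
-/
import Cfsg.Agent.Lib.Small.Ord5400

set_option autoImplicit false
set_option linter.unusedSectionVars false
set_option linter.unusedVariables false

namespace Cfsg.Agent.Lib.Small.Ord5040

open Cfsg.Agent.Lib.Small.Basic Cfsg.Agent.Lib.Small.Sieve Cfsg.Agent.Lib.Small.Low1
  Cfsg.Agent.Lib.Small.Master2 Cfsg.Agent.Lib.Small.OrdLocal Cfsg.Agent.Lib.Small.OrdLocal2
  Cfsg.Agent.Lib.Small.Ord5400 Cfsg.Agent.Lib.Small.TI
open Cfsg.Agent.Lib.ExcP.Gram Cfsg.Agent.Lib.ExcP.Local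
open Cfsg.Agent.Lib.SmallSimple.Sign (conj_eq_inv_of_not_centralizer eq_one_of_smul_eq)

universe u

/-- In a group of order twice an odd number two commuting involutions are equal. -/
theorem eq_of_commute_invol {H : Type*} [Group H] [Finite H] {r : ℕ} (hr : Odd r)
    (hcard : Nat.card H = 2 * r) {x t : H} (hx : orderOf x = 2) (ht : orderOf t = 2)
    (hc : t * x = x * t) : x = t := by
  obtain ⟨φ, hφ⟩ := exists_surjective_sign hr hcard
  have hidx : φ.ker.index = 2 := by
    rw [Subgroup.index_ker, MonoidHom.range_eq_top.mpr hφ, Subgroup.card_top]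
    simp
  have hM : Nat.card φ.ker = r := by
    have h1 := φ.ker.card_mul_index
    rw [hidx, hcard] at h1
    omega
  have hno : ∀ z : H, orderOf z = 2 → φ z = -1 := by
    intro z hz
    rcases Int.units_eq_one_or (φ z) with h5 | h5
    · exfalso
      have hmem : z ∈ φ.ker := h5
      have h6 := Subgroup.orderOf_dvd_natCard φ.ker hmem
      rw [hz, hM] at h6
      rcases hr with ⟨k, hk⟩
      omega
    · exact h5
  by_contra hne
  have hsq : (x * t) ^ 2 = 1 := by
    have hx2 : x * x = 1 := by rw [← pow_two, ← hx, pow_orderOf_eq_one]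
    have ht2 : t * t = 1 := by rw [← pow_two, ← ht, pow_orderOf_eq_one]
    calc (x * t) ^ 2 = x * (t * x) * t := by rw [pow_two]; group
      _ = x * (x * t) * t := by rw [hc]
      _ = (x * x) * (t * t) := by group
      _ = 1 := by rw [hx2, ht2, one_mul]
  have hne1 : x * t ≠ 1 := by
    intro h1
    have ht2 : t⁻¹ = t := by
      apply inv_eq_of_mul_eq_one_left
      rw [← pow_two, ← ht, pow_orderOf_eq_one]
    apply hne
    rw [← ht2]
    exact eq_inv_of_mul_eq_one_left h1
  haveI : Fact (Nat.Prime 2) := ⟨Nat.prime_two⟩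
  have h7 := hno (x * t) (orderOf_eq_prime hsq hne1)
  rw [map_mul, hno x hx, hno t ht] at h7
  exact absurd h7 (by decide)

/-- Removing a point from a subset. -/
theorem card_and_ne {α : Type*} [Finite α] (P : α → Prop) (a : α) (ha : P a) :
    Nat.card {x // P x ∧ x ≠ a} + 1 = Nat.card {x // P x} := by
  classical
  letI : Fintype α := Fintype.ofFinite α
  simp only [Nat.card_eq_fintype_card, Fintype.card_subtype]
  have h1 : Finset.univ.filter (fun x => P x ∧ x ≠ a) = (Finset.univ.filter P).erase a := by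
    ext x
    simp only [Finset.mem_filter, Finset.mem_univ, true_and, Finset.mem_erase]
    tauto
  have h2 : a ∈ Finset.univ.filter P := by simp [ha]
  rw [h1, Finset.card_erase_of_mem h2]
  have h3 : 0 < (Finset.univ.filter P).card := Finset.card_pos.mpr ⟨a, h2⟩
  have h4 := Nat.sub_add_cancel h3
  convert h4

theorem card_ne {α : Type*} [Finite α] (a : α) : Nat.card {x // x ≠ a} + 1 = Nat.card α := by
  have h1 := card_and_ne (fun _ : α => True) a trivial
  have h2 : Nat.card {x : α // True ∧ x ≠ a} = Nat.card {x // x ≠ a} :=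
    Nat.card_congr (Equiv.subtypeEquivRight (fun x => by simp))
  have h3 : Nat.card {x : α // True} = Nat.card α :=
    Nat.card_congr (Equiv.subtypeUnivEquiv (fun _ => trivial))
  rwa [h2, h3] at h1

variable {G : Type u} [Group G] [Finite G] [IsSimpleGroup G]

/-- A proper subgroup of small index. -/
theorem false_of_small_index (hG : ¬ IsMulCommutative G) (L : Subgroup G) (hL : L ≠ ⊤) {d : ℕ}
    (hi : L.index = d) (hd : 5 ≤ d) (hsmall : d.factorial < 2 * Nat.card G * d)
    (hne : 2 * Nat.card G ≠ d.factorial) : False := by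
  subst hi
  obtain ⟨φ, hφ⟩ := exists_embed_alt hG L hL
  haveI : Nontrivial (Fin L.index) := Fin.nontrivial_iff_two_le.mpr (by omega)
  have h2 := two_mul_nat_card_alternatingGroup (α := Fin L.index)
  rw [Nat.card_perm, Nat.card_fin] at h2
  have h1 : Nat.card φ.range = Nat.card G := Nat.card_congr (MonoidHom.ofInjective hφ).toEquiv.symm
  by_cases htop : φ.range = ⊤
  · rw [htop, Subgroup.card_top] at h1
    apply hne
    rw [← h2, h1]
  · have h3 := le_index_of_alternating hd φ.range htop
    have h4 := φ.range.card_mul_index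
    rw [h1] at h4
    have h5 : Nat.card G * L.index ≤ Nat.card G * φ.range.index := Nat.mul_le_mul_left _ h3
    rw [h4] at h5
    have h6 : 2 * Nat.card G * L.index = 2 * (Nat.card G * L.index) := by ring
    rw [h6] at hsmall
    omega

/-- The row with 36 Sylow 7-subgroups and a centralizer of order 70. -/
theorem false_row_36 (hG : ¬ IsMulCommutative G) [hp : Fact (Nat.Prime 7)]
    (hcard : ∀ U : Sylow 7 G, Nat.card U = 7) (Q : Sylow 7 G) (hn : Nat.card (Sylow 7 G) = 36)
    (hC : Nat.card (Cn (Q : Subgroup G)) = 7 * 10) : False := by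
  classical
  haveI two : Fact (Nat.Prime 2) := ⟨Nat.prime_two⟩
  obtain ⟨t', ht'⟩ := exists_prime_orderOf_dvd_card' (G := Cn (Q : Subgroup G)) 2
    (by rw [hC]; norm_num)
  have ht : orderOf (t' : G) = 2 := by rw [Subgroup.orderOf_coe, ht']
  set t : G := (t' : G) with htdef
  have htC : t ∈ Cn (Q : Subgroup G) := t'.2
  have htN : t • Q = Q :=
    Sylow.smul_eq_iff_mem_normalizer.mpr (Subgroup.centralizer_le_normalizer _ htC)
  obtain ⟨f, h1, h2, h3, h4, hf⟩ := exists_fix_sylow hG hcard Q htC ht
  have hf8 : f = 8 := by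
    have h4' := h4 rfl
    rw [hn] at h2 h3 h4'
    omega
  have hfix : ∀ x, IsConj t x → Nat.card {W : Sylow 7 G // x • W = W} = 8 := by
    intro x hx
    obtain ⟨c, rfl⟩ := isConj_iff.mp hx
    rw [← hf8, hf]
    symm
    refine Nat.card_congr (Equiv.subtypeEquiv (MulAction.toPerm c) ?_)
    intro W
    simp only [MulAction.toPerm_apply]
    rw [mul_smul, mul_smul, inv_smul_smul]
    exact (smul_left_cancel_iff c).symm
  have hne35 : Nat.card {W : Sylow 7 G // W ≠ Q} = 35 := by
    have h5 := card_ne Q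
    omega
  -- conjugates of `t` normalizing `Q` centralize `Q`
  have hcen : ∀ x, IsConj t x → x • Q = Q → x ∈ Cn (Q : Subgroup G) := by
    intro x hx hxQ
    by_contra hxC
    have hx2 : x ^ 2 = 1 := by
      obtain ⟨c, rfl⟩ := isConj_iff.mp hx
      have h5 : t ^ 2 = 1 := by rw [← ht, pow_orderOf_eq_one]
      rw [conj_pow, h5]
      group
    have hxN : x ∈ Nn (Q : Subgroup G) := Sylow.smul_eq_iff_mem_normalizer.mp hxQ
    have hinv : ∀ u ∈ (Q : Subgroup G), x * u * x⁻¹ = u⁻¹ := fun u hu =>
      conj_eq_inv_of_not_centralizer Q (hcard Q) hxN hx2 hxC hu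
    have hF : Nat.card {W : Sylow 7 G // x • W = W ∧ W ≠ Q} = 7 := by
      have h5 := card_and_ne (fun W : Sylow 7 G => x • W = W) Q hxQ
      rw [hfix x hx] at h5
      omega
    have hcomm : ∀ a ∈ (Q : Subgroup G), ∀ b ∈ (Q : Subgroup G), a * b = b * a := by
      have hc1 : IsCyclic (Q : Subgroup G) := isCyclic_of_prime_card (hcard Q)
      intro a ha b hb
      exact congrArg Subtype.val (mul_comm' (⟨a, ha⟩ : (Q : Subgroup G)) ⟨b, hb⟩)
    let φ : ↥(Q : Subgroup G) × {W : Sylow 7 G // x • W = W ∧ W ≠ Q} → {W : Sylow 7 G // W ≠ Q} :=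
      fun a => ⟨(a.1 : G) • a.2.1, by
        intro h5
        apply a.2.2.2
        have h6 : (a.1 : G)⁻¹ • Q = Q := smul_self_of_mem Q (Q.inv_mem a.1.2)
        calc a.2.1 = (a.1 : G)⁻¹ • ((a.1 : G) • a.2.1) := (inv_smul_smul _ _).symm
          _ = (a.1 : G)⁻¹ • Q := congrArg _ h5
          _ = Q := h6⟩
    have hφ : Function.Injective φ := by
      rintro ⟨u, W⟩ ⟨u', W'⟩ hab
      have h5 : (u : G) • W.1 = (u' : G) • W'.1 := congrArg Subtype.val hab
      have h6 : x • ((u : G) • W.1) = (u : G)⁻¹ • W.1 := by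
        have h7 : x • ((u : G) • W.1) = (x * (u : G) * x⁻¹) • (x • W.1) := by
          rw [smul_smul, smul_smul]
          congr 1
          group
        rw [h7, hinv _ u.2, W.2.1]
      have h6' : x • ((u' : G) • W'.1) = (u' : G)⁻¹ • W'.1 := by
        have h7 : x • ((u' : G) • W'.1) = (x * (u' : G) * x⁻¹) • (x • W'.1) := by
          rw [smul_smul, smul_smul]
          congr 1
          group
        rw [h7, hinv _ u'.2, W'.2.1]
      have h8 : (u : G)⁻¹ • W.1 = (u' : G)⁻¹ • W'.1 := by rw [← h6, ← h6', h5]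
      set v : G := (u' : G)⁻¹ * (u : G) with hv
      have hvQ : v ∈ (Q : Subgroup G) := Q.mul_mem (Q.inv_mem u'.2) u.2
      have h9 : v • W.1 = W'.1 := by
        rw [hv, mul_smul, h5, inv_smul_smul]
      have h10 : v⁻¹ • W.1 = W'.1 := by
        have h11 : v⁻¹ = (u' : G) * (u : G)⁻¹ := by
          rw [hv, mul_inv_rev, inv_inv]
          exact hcomm _ (Q.inv_mem u.2) _ u'.2
        rw [h11, mul_smul, h8, smul_inv_smul]
      have h12 : (v * v) • W.1 = W.1 := by
        rw [mul_smul, h9, ← h10, smul_inv_smul]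
      have h13 := eq_one_of_smul_eq Q W.1 (hcard Q) W.2.2 (Q.mul_mem hvQ hvQ) h12
      have hv7 : v ^ 7 = 1 := by
        have h14 : orderOf v ∣ 7 := by
          rw [← hcard Q, ← Subgroup.orderOf_mk v hvQ]
          exact orderOf_dvd_natCard _
        exact orderOf_dvd_iff_pow_eq_one.mp h14
      have hv1 : v = 1 := by
        have h15 : v ^ 2 = 1 := by rw [pow_two, h13]
        have h16 := pow_gcd_eq_one.mpr ⟨h15, hv7⟩
        simpa using h16
      have huu : (u : G) = (u' : G) := by
        rw [hv, inv_mul_eq_one] at hv1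
        exact hv1.symm
      have hWW : W.1 = W'.1 := by
        rw [← h9, hv1, one_smul]
      have h17 : u = u' := Subtype.ext huu
      have h18 : W = W' := Subtype.ext hWW
      rw [h17, h18]
    have hle := Nat.card_le_card_of_injective φ hφ
    rw [Nat.card_prod, hcard Q, hF, hne35] at hle
    omega
  -- the number of conjugates of `t` normalizing `Q` is odd
  let A : G → Prop := fun x => IsConj t x ∧ x • Q = Q
  have hAt : A t := ⟨IsConj.refl t, htN⟩
  have hodd : Nat.card {x // A x} % 2 = 1 := by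
    have h5 : orderOf (ConjAct.toConjAct t) = 2 := by
      rw [MulEquiv.orderOf_eq, ht]
    have hsmul : ∀ x : G, ConjAct.toConjAct t • x = t * x * t⁻¹ := fun x => ConjAct.toConjAct_smul t x
    haveI : Finite (ConjAct G) := inferInstanceAs (Finite G)
    have h6 := card_fix_modEq h5 A (by
      rintro x ⟨hx1, hx2⟩
      rw [hsmul]
      refine ⟨hx1.trans (isConj_iff.mpr ⟨t, rfl⟩), ?_⟩
      have h8 : t⁻¹ • Q = Q := inv_smul_eq_iff.mpr htN.symm
      rw [mul_smul, mul_smul, h8, hx2, htN])
    have h7 : Nat.card {x // A x ∧ ConjAct.toConjAct t • x = x} = 1 := by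
      rw [Nat.card_eq_one_iff_unique]
      refine ⟨⟨?_⟩, ⟨⟨t, hAt, ?_⟩⟩⟩
      · have key : ∀ x : {x // A x ∧ ConjAct.toConjAct t • x = x}, x.1 = t := by
          rintro ⟨x, ⟨hx1, hx2⟩, hx3⟩
          rw [hsmul] at hx3
          have hxC := hcen x hx1 hx2
          have hr : Nat.card (Cn (Q : Subgroup G)) = 2 * 35 := by rw [hC]
          have hxo : orderOf x = 2 := by
            obtain ⟨c, rfl⟩ := isConj_iff.mp hx1
            have h10 := MulEquiv.orderOf_eq (MulAut.conj c) t
            rw [ht] at h10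
            exact h10
          have h9 := eq_of_commute_invol (H := Cn (Q : Subgroup G)) (x := ⟨x, hxC⟩) (t := t')
            (r := 35) (by decide) hr (by rw [Subgroup.orderOf_mk, hxo]) ht' (by
              apply Subtype.ext
              change t * x = x * t
              calc t * x = t * x * t⁻¹ * t := by group
                _ = x * t := by rw [hx3])
          exact congrArg Subtype.val h9
        intro a b
        exact Subtype.ext ((key a).trans (key b).symm)
      · rw [hsmul]
        group
    rw [h7] at h6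
    exact h6
  -- double counting
  letI : Fintype G := Fintype.ofFinite G
  letI : Fintype (Sylow 7 G) := Fintype.ofFinite _
  have hdc := Finset.sum_card_bipartiteAbove_eq_sum_card_bipartiteBelow
    (s := Finset.univ.filter (fun x : G => IsConj t x)) (t := (Finset.univ : Finset (Sylow 7 G)))
    (fun (x : G) (W : Sylow 7 G) => x • W = W)
  have hL : ∀ x ∈ Finset.univ.filter (fun x : G => IsConj t x),
      (Finset.bipartiteAbove (fun (x : G) (W : Sylow 7 G) => x • W = W) Finset.univ x).card = 8 := by
    intro x hx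
    have h5 := hfix x (by simpa using hx)
    rw [Nat.card_eq_fintype_card, Fintype.card_subtype] at h5
    exact h5
  have hR : ∀ W : Sylow 7 G,
      (Finset.bipartiteBelow (fun (x : G) (W : Sylow 7 G) => x • W = W)
        (Finset.univ.filter (fun x : G => IsConj t x)) W).card = Nat.card {x // A x} := by
    intro W
    obtain ⟨g, rfl⟩ := MulAction.exists_smul_eq G Q W
    have h5 : Nat.card {x // A x} = Nat.card {x // IsConj t x ∧ x • (g • Q) = g • Q} := by
      refine Nat.card_congr (Equiv.subtypeEquiv (MulAut.conj g).toEquiv ?_)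
      intro x
      simp only [A, MulEquiv.toEquiv_eq_coe, EquivLike.coe_coe, MulAut.conj_apply]
      constructor
      · rintro ⟨h6, h7⟩
        refine ⟨h6.trans (isConj_iff.mpr ⟨g, rfl⟩), ?_⟩
        rw [mul_smul, mul_smul, inv_smul_smul, h7]
      · rintro ⟨h6, h7⟩
        refine ⟨h6.trans (isConj_iff.mpr ⟨g⁻¹, by group⟩), ?_⟩
        rw [mul_smul, mul_smul, inv_smul_smul] at h7
        exact smul_left_cancel g h7
    rw [h5, Nat.card_eq_fintype_card, Fintype.card_subtype, Finset.bipartiteBelow, Finset.filter_filter]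
  rw [Finset.sum_congr rfl hL, Finset.sum_congr rfl (fun W _ => hR W)] at hdc
  simp only [Finset.sum_const, Finset.card_univ, smul_eq_mul] at hdc
  rw [← Nat.card_eq_fintype_card, hn] at hdc
  omega

/-- The row with 120 Sylow 7-subgroups and a centralizer of order 21. -/
theorem false_row_120 (hG : ¬ IsMulCommutative G) (h : Nat.card G = 5040) [hp : Fact (Nat.Prime 7)]
    (Q : Sylow 7 G) (hQ : Nat.card (Q : Subgroup G) = 7)
    (hC : Nat.card (Cn (Q : Subgroup G)) = 7 * 3)
    (hNo : Nat.card (Nn (Q : Subgroup G)) = 2 * (7 * 3)) : False := by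
  classical
  haveI : Fact (Nat.Prime 3) := ⟨by norm_num⟩
  obtain ⟨S, hS, -, hle⟩ := exists_le_normalizer (r := 3) hQ (by norm_num) hC
  have hSP : IsPGroup 3 S := IsPGroup.of_card (n := 1) (by simpa using hS)
  obtain ⟨T, hT⟩ := hSP.exists_le_sylow
  have hT9 : Nat.card (T : Subgroup G) = 3 ^ 2 :=
    card_sylow_eq (p := 3) (k := 2) (m := 560) (by rw [h]; norm_num) (by norm_num) T
  have hTN : (T : Subgroup G) ≤ Nn S := le_normalizer_of_card_sq hT9 hT
  have h9 : 9 ∣ Nat.card (Nn S) := by
    have h1 := Subgroup.card_dvd_of_le hTN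
    rwa [hT9] at h1
  obtain ⟨m, hm, hm7⟩ := index_modEq Q (Nn S) hle
  rw [hNo] at hm
  have hmul := (Nn S).card_mul_index
  rw [h, hm] at hmul
  have hLtop : Nn S ≠ ⊤ := by
    intro htop
    have hnorm : S.Normal := Subgroup.normalizer_eq_top_iff.mp htop
    rcases hnorm.eq_bot_or_eq_top with h1 | h1
    · rw [h1, Subgroup.card_bot] at hS
      omega
    · rw [h1, Subgroup.card_top, h] at hS
      omega
  rw [hm] at h9
  have h3m : 3 ∣ m := by omega
  have hmi : m * (Nn S).index = 120 := by
    have h2 : 2 * (7 * 3) * (m * (Nn S).index) = 2 * (7 * 3) * 120 := by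
      rw [← mul_assoc]
      rw [hmul]
    exact Nat.eq_of_mul_eq_mul_left (by norm_num) h2
  have hmle : m ≤ 120 := Nat.le_of_dvd (by norm_num) (Dvd.intro _ hmi)
  have hi0 : (Nn S).index ≠ 1 := by
    intro h1
    exact hLtop (Subgroup.index_eq_one.mp h1)
  have hi8 : (Nn S).index = 8 := by
    generalize (Nn S).index = i at *
    have hm7' : m % 7 = 1 := hm7
    obtain ⟨c, rfl⟩ := h3m
    have hc : c ≤ 40 := by omega
    interval_cases c <;> omega
  refine false_of_small_index hG (Nn S) hLtop hi8 (by norm_num) ?_ ?_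
  · rw [h]
    decide
  · rw [h]
    decide

theorem false_5040 (hG : ¬ IsMulCommutative G) (h : Nat.card G = 5040) : False := by
  haveI : Fact (Nat.Prime 7) := ⟨by norm_num⟩
  haveI : Fact (Nat.Prime 2) := ⟨by norm_num⟩
  have hcard : ∀ U : Sylow 7 G, Nat.card U = 7 := by
    intro U
    simpa using card_sylow_eq (p := 7) (k := 1) (m := 720) (by rw [h]; norm_num) (by norm_num) U
  refine false_by_prime2 (p := 7) (two := 4) (dmin := 3) hG h (by norm_num) (by norm_num)
    (by norm_num) (by norm_num) (by norm_num) (by norm_num) [(15, 2), (15, 6), (36, 2), (120, 2)] ?_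
    (by decide +kernel)
  intro Q n e K hmem hQ hn he he1 hm hC hNo
  simp only [List.mem_cons, List.not_mem_nil, or_false, Prod.mk.injEq] at hmem
  rcases hmem with ⟨rfl, rfl⟩ | ⟨rfl, rfl⟩ | ⟨rfl, rfl⟩ | ⟨rfl, rfl⟩
  · have hK : K = 24 := by omega
    exact false_of_fixS (q := 2) hG hcard Q hn hC (by rw [hK]; norm_num) (by decide +kernel)
  · have hK : K = 8 := by omega
    exact false_of_fixS (q := 2) hG hcard Q hn hC (by rw [hK]; norm_num) (by decide +kernel)
  · have hK : K = 10 := by omega
    subst hK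
    exact false_row_36 hG hcard Q hn hC
  · have hK : K = 3 := by omega
    subst hK
    exact false_row_120 hG h Q hQ hC hNo

end Cfsg.Agent.Lib.Small.Ord5040
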