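/-
A simple group of order 2520: centralizers of elements of order 5 and 7, the representation of
degree 6, Sylow 2-subgroups are not abelian.
-/
import Cfsg.Agent.Lib.Small.A7Chars
import Cfsg.Agent.Lib.Small.A7D8
import Cfsg.Agent.Lib.Small.Ord5040
import Cfsg.Agent.Lib.ZStar.AbelianSylow
import Cfsg.Agent.Lib.Transfer.Frobenius

set_option autoImplicit false
set_option linter.unusedSectionVars false
set_option linter.unusedVariables false

namespace Cfsg.Agent.Lib.Small.A7Local

open Cfsg Module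
open Cfsg.Agent.Lib.Small.A7Tools Cfsg.Agent.Lib.Small.A7D8 Cfsg.Agent.Lib.Small.A7Chars
open Cfsg.Agent.Lib.Char.Basic Cfsg.Agent.Lib.Char.Ortho Cfsg.Agent.Lib.Char.Complete
open Cfsg.Agent.Lib.Char.Degree Cfsg.Agent.Lib.CharX.Fixed
open Cfsg.Agent.Lib.Transfer.Frobenius (mem_smul_sylow_iff)
open scoped ComplexConjugate

universe u

variable {G : Type u} [Group G] [Finite G]

/-- The number of non-identity elements of a subgroup. -/
theorem card_sharp (H : Subgroup G) : Nat.card {x | x ∈ H ∧ x ≠ 1} + 1 = Nat.card H := by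
  rw [← Cfsg.Agent.Lib.Small.Ord5040.card_ne (1 : H)]
  congr 1
  refine Nat.card_congr ?_
  refine
    { toFun := fun x => ⟨⟨x.1, x.2.1⟩, fun h => x.2.2 (congrArg Subtype.val h)⟩
      invFun := fun x => ⟨x.1.1, x.1.2, fun h => x.2 (Subtype.ext h)⟩
      left_inv := fun x => rfl
      right_inv := fun x => rfl }

theorem order_conj (g x : G) : orderOf (g * x * g⁻¹) = orderOf x := by
  simpa [MulAut.conj_apply] using (MulAut.conj g).orderOf_eq x

theorem order_conj' (g x : G) : orderOf (g⁻¹ * x * g) = orderOf x := by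
  have h1 := order_conj g⁻¹ x
  rwa [inv_inv] at h1

/-- If `Q` is a self-centralizing Sylow subgroup of prime order, elements commuting with an element
of order `p` are powers of it. -/
theorem mem_zpowers_of_comm {p : ℕ} [hp : Fact p.Prime] (Q : Sylow p G)
    (hQ : Nat.card ((Q : Subgroup G)) = p)
    (hC : Nat.card (Subgroup.centralizer ((Q : Subgroup G) : Set G)) = p) {x y : G}
    (hx : orderOf x = p) (hc : y * x = x * y) : y ∈ Subgroup.zpowers x := by
  have hpx : IsPGroup p (Subgroup.zpowers x) := by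
    apply IsPGroup.of_card (n := 1)
    rw [Nat.card_zpowers, hx, pow_one]
  obtain ⟨U, hU⟩ := hpx.exists_le_sylow
  have hUc : Nat.card ((U : Subgroup G)) = p := by
    rw [U.card_eq_multiplicity, ← Q.card_eq_multiplicity, hQ]
  have hUe : Subgroup.zpowers x = (U : Subgroup G) :=
    Subgroup.eq_of_le_of_card_ge hU (by rw [hUc, Nat.card_zpowers, hx])
  obtain ⟨g, rfl⟩ := MulAction.exists_smul_eq G Q U
  rw [hUe]
  have hcomm : IsMulCommutative (Q : Subgroup G) := by
    have hcyc : IsCyclic (Q : Subgroup G) := isCyclic_of_prime_card hQ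
    exact hcyc.isMulCommutative
  have hQC : (Q : Subgroup G) = Subgroup.centralizer ((Q : Subgroup G) : Set G) := by
    apply Subgroup.eq_of_le_of_card_ge
    · intro a ha
      rw [Subgroup.mem_centralizer_iff]
      intro b hb
      have := hcomm.is_comm.comm (⟨b, hb⟩ : (Q : Subgroup G)) ⟨a, ha⟩
      exact congrArg Subtype.val this
    · rw [hC, hQ]
  show y ∈ g • Q
  rw [mem_smul_sylow_iff]
  suffices hs : g⁻¹ * y * g ∈ Subgroup.centralizer ((Q : Subgroup G) : Set G) by
    rw [← hQC] at hs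
    exact hs
  have hx0 : g⁻¹ * x * g ∈ (Q : Subgroup G) := by
    refine (mem_smul_sylow_iff g x Q).mp ?_
    show x ∈ ((g • Q : Sylow p G) : Subgroup G)
    rw [← hUe]
    exact Subgroup.mem_zpowers x
  have ho : orderOf (g⁻¹ * x * g) = p := by
    rw [order_conj', hx]
  have hQe : (Q : Subgroup G) = Subgroup.zpowers (g⁻¹ * x * g) := by
    symm
    apply Subgroup.eq_of_le_of_card_ge
    · rw [Subgroup.zpowers_le]
      exact hx0
    · rw [Nat.card_zpowers, ho, hQ]
  rw [Subgroup.mem_centralizer_iff]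
  intro b hb
  have hb' : b ∈ Subgroup.zpowers (g⁻¹ * x * g) := by
    rw [← hQe]
    exact hb
  obtain ⟨k, rfl⟩ := Subgroup.mem_zpowers_iff.mp hb'
  have h1 : (g⁻¹ * y * g) * (g⁻¹ * x * g) = (g⁻¹ * x * g) * (g⁻¹ * y * g) := by
    calc (g⁻¹ * y * g) * (g⁻¹ * x * g) = g⁻¹ * (y * x) * g := by group
      _ = g⁻¹ * (x * y) * g := by rw [hc]
      _ = _ := by group
  exact (Commute.zpow_left (Commute.symm h1) k).eq

variable [IsSimpleGroup G]

section numbers

variable (hG : ¬ IsMulCommutative G) (h : Nat.card G = 2520)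

include hG h

theorem comm5 {x y : G} (hx : orderOf x = 5) (hc : y * x = x * y) : y ∈ Subgroup.zpowers x := by
  haveI : Fact (Nat.Prime 5) := ⟨by norm_num⟩
  obtain ⟨Q, hQ, -, hC, -⟩ := row5 hG h
  exact mem_zpowers_of_comm Q hQ hC hx hc

theorem comm7 {x y : G} (hx : orderOf x = 7) (hc : y * x = x * y) : y ∈ Subgroup.zpowers x := by
  haveI : Fact (Nat.Prime 7) := ⟨by norm_num⟩
  obtain ⟨Q, hQ, -, hC, -⟩ := row7 hG h
  exact mem_zpowers_of_comm Q hQ hC hx hc

/-- Elements of order prime to `5` have centralizers of order prime to `5`. -/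
theorem not5 {y : G} (hy : y ≠ 1) (hy5 : ¬ 5 ∣ orderOf y) :
    ¬ 5 ∣ Nat.card (Subgroup.centralizer ({y} : Set G)) := by
  intro hd
  haveI : Fact (Nat.Prime 5) := ⟨by norm_num⟩
  obtain ⟨x, hx⟩ := exists_prime_orderOf_dvd_card' (G := Subgroup.centralizer ({y} : Set G)) 5 hd
  have hx' : orderOf (x : G) = 5 := by rw [Subgroup.orderOf_coe, hx]
  have hc : y * (x : G) = x * y := (Subgroup.mem_centralizer_singleton_iff.mp x.2).symm
  have h1 := comm5 hG h hx' hc
  have h2 := orderOf_dvd_of_mem_zpowers h1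
  rw [hx'] at h2
  rcases (Nat.dvd_prime (by norm_num)).mp h2 with h3 | h3
  · exact hy (orderOf_eq_one_iff.mp h3)
  · exact hy5 (by rw [h3])

theorem not7 {y : G} (hy : y ≠ 1) (hy7 : ¬ 7 ∣ orderOf y) :
    ¬ 7 ∣ Nat.card (Subgroup.centralizer ({y} : Set G)) := by
  intro hd
  haveI : Fact (Nat.Prime 7) := ⟨by norm_num⟩
  obtain ⟨x, hx⟩ := exists_prime_orderOf_dvd_card' (G := Subgroup.centralizer ({y} : Set G)) 7 hd
  have hx' : orderOf (x : G) = 7 := by rw [Subgroup.orderOf_coe, hx]
  have hc : y * (x : G) = x * y := (Subgroup.mem_centralizer_singleton_iff.mp x.2).symm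
  have h1 := comm7 hG h hx' hc
  have h2 := orderOf_dvd_of_mem_zpowers h1
  rw [hx'] at h2
  rcases (Nat.dvd_prime (by norm_num)).mp h2 with h3 | h3
  · exact hy (orderOf_eq_one_iff.mp h3)
  · exact hy7 (by rw [h3])

omit h in
theorem center_bot : Subgroup.center G = ⊥ := by
  rcases IsSimpleGroup.eq_bot_or_eq_top_of_normal (Subgroup.center G) inferInstance with h1 | h1
  · exact h1
  · exfalso
    apply hG
    refine ⟨⟨fun a b => ?_⟩⟩
    have h2 : a ∈ Subgroup.center G := by rw [h1]; trivial
    exact (Subgroup.mem_center_iff.mp h2 b).symm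

theorem core_bot : pPrimeCore 2 G = ⊥ := by
  have hn : (pPrimeCore 2 G).Normal := inferInstance
  rcases IsSimpleGroup.eq_bot_or_eq_top_of_normal _ hn with h1 | h1
  · exact h1
  · exfalso
    have h2 := Cfsg.Agent.Lib.Core.Basic.pPrimeCore_eq_top_iff.mp h1
    rw [h] at h2
    norm_num at h2

/-- An involution with no other conjugate in a Sylow `2`-subgroup is impossible. -/
theorem false_of_fixed (S : Sylow 2 G) {z : G} (hz : orderOf z = 2)
    (hf : ∀ g : G, g * z * g⁻¹ ∈ (S : Subgroup G) → g * z * g⁻¹ = z) : False := by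
  have hiso := Cfsg.Agent.Lib.ZStar.Cor.isolated_of_fixed S hz hf
  have hc : z ∈ Subgroup.center G := by
    rw [Subgroup.mem_center_iff]
    intro g
    have h1 := Cfsg.Agent.Lib.ZStar.Cor.zstar' hiso g
    rw [core_bot hG h, Subgroup.mem_bot] at h1
    have h2 : z * g * z⁻¹ = g := by
      have := congrArg (· * g) h1
      simpa using this
    have h3 : z * g = g * z := by
      have := congrArg (· * z) h2
      simpa using this
    exact h3.symm
  rw [center_bot hG, Subgroup.mem_bot] at hc
  rw [hc, orderOf_one] at hz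
  omega

end numbers

section rep

/-- The representation of degree `6`. -/
structure Faith (ρ : Representation ℂ G (Fin 6 → ℂ)) : Prop where
  hinv : Representation.invariants ρ = ⊥
  hfaith : ∀ H : Subgroup G, fixDim ρ H = 6 → H = ⊥

theorem character_one_eq {V : Type*} [AddCommGroup V] [Module ℂ V] [FiniteDimensional ℂ V]
    (ρ : Representation ℂ G V) : ρ.character 1 = (finrank ℂ V : ℂ) := by
  simp [Representation.character, LinearMap.trace_one]

theorem exists_faith [Fintype G] (F : IrrCharacter G) (hF : charDegree (F : G → ℂ) = 6) :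
    ∃ ρ : Representation ℂ G (Fin 6 → ℂ), ρ.character = F ∧ Faith ρ := by
  obtain ⟨n, ρ, hirr, hch⟩ := F.2
  have hn : n = 6 := by
    have h1 := charDegree_natCast (isCharacter_of_isIrrCharacter F.2)
    rw [hF, ← hch, character_one_eq] at h1
    simp only [finrank_fintype_fun_eq_card, Fintype.card_fin] at h1
    exact_mod_cast h1.symm
  subst hn
  refine ⟨ρ, hch, ?_⟩
  have hinv : Representation.invariants ρ = ⊥ := by
    apply Submodule.finrank_eq_zero.mp
    apply finrank_invariants_eq_zero ρ hirr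
    intro h1
    have h2 := congrFun h1 1
    rw [character_one_eq] at h2
    simp only [finrank_fintype_fun_eq_card, Fintype.card_fin] at h2
    norm_num at h2
  refine ⟨hinv, fun H hH => ?_⟩
  by_contra hne
  obtain ⟨x, hx, hx1⟩ := (Subgroup.bot_or_exists_ne_one H).resolve_left hne
  have hρx : ρ x = 1 := eq_one_of_fixDim (by simpa using hH) hx
  have hker : ρ.ker = ⊤ := by
    rcases IsSimpleGroup.eq_bot_or_eq_top_of_normal _ ρ.normal_ker with h1 | h1
    · exfalso
      have h2 : x ∈ ρ.ker := hρx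
      rw [h1, Subgroup.mem_bot] at h2
      exact hx1 h2
    · exact h1
  have hall : ∀ v : Fin 6 → ℂ, v ∈ Representation.invariants ρ := by
    intro v g
    have h1 : g ∈ ρ.ker := by rw [hker]; trivial
    have h2 : ρ g = 1 := h1
    rw [h2]
    rfl
  have h3 := hall (fun _ => 1)
  rw [hinv, Submodule.mem_bot] at h3
  have h4 := congrFun h3 0
  simp at h4

/-- The value at an involution. -/
theorem val_invol {V : Type*} [AddCommGroup V] [Module ℂ V] [FiniteDimensional ℂ V]
    (ρ : Representation ℂ G V) {t : G} (ht : orderOf t = 2) :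
    ρ.character t = 2 * (fixDim ρ (Subgroup.zpowers t) : ℂ) - (finrank ℂ V : ℂ) := by
  classical
  letI : Fintype (Subgroup.zpowers t) := Fintype.ofFinite _
  have h1 := sum_char_eq ρ (Subgroup.zpowers t)
  rw [sum_zpowers ht ρ.character, Nat.card_zpowers, ht] at h1
  simp only [Finset.sum_range_succ, Finset.sum_range_zero, zero_add, pow_zero, pow_one,
    character_one_eq] at h1
  push_cast at h1
  linear_combination h1

end rep

section main

variable (hG : ¬ IsMulCommutative G) (h : Nat.card G = 2520)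

include h in
theorem card_T (T : Sylow 2 G) : Nat.card ((T : Subgroup G)) = 8 := by
  haveI : Fact (Nat.Prime 2) := ⟨Nat.prime_two⟩
  have := Cfsg.Agent.Lib.Small.Sieve.card_sylow_eq (G := G) (p := 2) (k := 3) (m := 315)
    (by rw [h]; norm_num) (by norm_num) T
  simpa using this

theorem dvd315 {m : ℕ} (hm : m ∣ 315) : m = 1 ∨ m = 3 ∨ m = 5 ∨ m = 7 ∨ m = 9 ∨ m = 15 ∨ m = 21 ∨
    m = 35 ∨ m = 45 ∨ m = 63 ∨ m = 105 ∨ m = 315 := by
  have h1 : m ∈ Nat.divisors 315 := Nat.mem_divisors.mpr ⟨hm, by norm_num⟩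
  rw [show Nat.divisors 315 = {1, 3, 5, 7, 9, 15, 21, 35, 45, 63, 105, 315} by decide +kernel] at h1
  simpa using h1

/-- An element of a `2`-group of exponent dividing `8` has a power which is an involution. -/
theorem exists_invol_pow {y : G} (hy : y ≠ 1) (h8 : y ^ 8 = 1) :
    ∃ e : ℕ, orderOf (y ^ e) = 2 := by
  haveI : Fact (Nat.Prime 2) := ⟨Nat.prime_two⟩
  by_cases h4 : y ^ 4 = 1
  · by_cases h2 : y ^ 2 = 1
    · exact ⟨1, by rw [pow_one]; exact orderOf_eq_prime h2 hy⟩
    · exact ⟨2, orderOf_eq_prime (by rw [← pow_mul]; exact h4) h2⟩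
  · exact ⟨4, orderOf_eq_prime (by rw [← pow_mul]; exact h8) h4⟩

include hG h

/-- Sylow `2`-subgroups are not abelian. -/
theorem not_abelian {ρ : Representation ℂ G (Fin 6 → ℂ)} (hρ : Faith ρ) (T : Sylow 2 G) :
    ¬ ∀ x ∈ (T : Subgroup G), ∀ y ∈ (T : Subgroup G), x * y = y * x := by
  classical
  letI : Fintype G := Fintype.ofFinite G
  intro hab
  haveI two : Fact (Nat.Prime 2) := ⟨Nat.prime_two⟩
  have hT := card_T h T
  set N : Subgroup G := Subgroup.normalizer ((T : Subgroup G) : Set G) with hN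
  have hTN : (T : Subgroup G) ≤ N := Subgroup.le_normalizer
  have h8N : 8 ∣ Nat.card N := by
    rw [← hT]
    exact Subgroup.card_dvd_of_le hTN
  have hNG : Nat.card N ∣ 2520 := by
    rw [← h]
    exact Subgroup.card_subgroup_dvd_card _
  let X : Set G := {x | x ∈ (T : Subgroup G) ∧ x ≠ 1}
  have hXc : Nat.card X = 7 := by
    have := card_sharp (T : Subgroup G)
    rw [hT] at this
    have h2 : Nat.card X + 1 = 8 := this
    omega
  have hst : ∀ n ∈ N, ∀ x ∈ X, n * x * n⁻¹ ∈ X := by
    rintro n hn x ⟨hx, hx1⟩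
    refine ⟨(Subgroup.mem_normalizer_iff.mp hn x).mp hx, ?_⟩
    intro h1
    apply hx1
    have h2 : x = n⁻¹ * (n * x * n⁻¹) * n := by group
    rw [h2, h1]
    group
  have h8x : ∀ x ∈ (T : Subgroup G), x ^ 8 = 1 := by
    intro x hx
    have h1 := Subgroup.orderOf_dvd_natCard (T : Subgroup G) hx
    rw [hT] at h1
    exact orderOf_dvd_iff_pow_eq_one.mp h1
  by_cases h7 : 7 ∣ Nat.card N
  · -- an element of order `7` acts transitively
    haveI : Fact (Nat.Prime 7) := ⟨by norm_num⟩
    obtain ⟨y', hy'⟩ := exists_prime_orderOf_dvd_card' (G := N) 7 h7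
    have hy : orderOf (y' : G) = 7 := by rw [Subgroup.orderOf_coe, hy']
    set y : G := (y' : G) with hydef
    have hyN : y ∈ N := y'.2
    obtain ⟨a', ha'⟩ := exists_prime_orderOf_dvd_card' (G := (T : Subgroup G)) 2 (by rw [hT]; norm_num)
    have ha : orderOf (a' : G) = 2 := by rw [Subgroup.orderOf_coe, ha']
    set a : G := (a' : G) with hadef
    have haT : a ∈ (T : Subgroup G) := a'.2
    have ha1 : a ≠ 1 := by
      intro h1
      rw [h1, orderOf_one] at ha
      omega
    have haX : a ∈ X := ⟨haT, ha1⟩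
    have hpowN : ∀ i : ℕ, y ^ i ∈ N := fun i => N.pow_mem hyN i
    let φ : Fin 7 → X := fun i => ⟨y ^ (i : ℕ) * a * (y ^ (i : ℕ))⁻¹, hst _ (hpowN i) a haX⟩
    have hlt : ∀ i j : ℕ, i < j → j < 7 → y ^ i * a * (y ^ i)⁻¹ ≠ y ^ j * a * (y ^ j)⁻¹ := by
      intro i j hij hj he
      obtain ⟨k, rfl⟩ : ∃ k, j = i + k := ⟨j - i, by omega⟩
      have hk0 : 0 < k := by omega
      have hk7 : k < 7 := by omega
      have h1 : a = y ^ k * a * (y ^ k)⁻¹ := by
        have h2 : y ^ (i + k) = y ^ i * y ^ k := pow_add _ _ _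
        rw [h2] at he
        have h3 : y ^ i * a * (y ^ i)⁻¹ = y ^ i * (y ^ k * a * (y ^ k)⁻¹) * (y ^ i)⁻¹ := by
          rw [he]
          group
        exact mul_left_cancel (mul_right_cancel h3)
      have hcop : Nat.Coprime (orderOf y) k := by
        rw [hy]
        exact (Nat.Prime.coprime_iff_not_dvd (by norm_num)).mpr
          (fun hd => absurd (Nat.le_of_dvd hk0 hd) (by omega))
      have ho : orderOf (y ^ k) = 7 := by
        rw [hcop.orderOf_pow, hy]
      have hc : a * y ^ k = y ^ k * a := by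
        have h3 : a * y ^ k = (y ^ k * a * (y ^ k)⁻¹) * y ^ k := by rw [← h1]
        rw [h3]
        group
      have h4 := orderOf_dvd_of_mem_zpowers (comm7 hG h ho hc)
      rw [ha, ho] at h4
      omega
    have hinj : Function.Injective φ := by
      intro i j he
      have he' : y ^ (i : ℕ) * a * (y ^ (i : ℕ))⁻¹ = y ^ (j : ℕ) * a * (y ^ (j : ℕ))⁻¹ :=
        congrArg Subtype.val he
      rcases lt_trichotomy (i : ℕ) (j : ℕ) with h1 | h1 | h1
      · exact absurd he' (hlt _ _ h1 j.2)
      · exact Fin.ext h1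
      · exact absurd he'.symm (hlt _ _ h1 i.2)
    have hbij : Function.Bijective φ := by
      rw [Nat.bijective_iff_injective_and_card]
      exact ⟨hinj, by rw [hXc, Nat.card_fin]⟩
    have hconj : ∀ b ∈ X, ρ.character b = ρ.character a := by
      intro b hb
      obtain ⟨i, hi⟩ := hbij.2 ⟨b, hb⟩
      have h1 : y ^ (i : ℕ) * a * (y ^ (i : ℕ))⁻¹ = b := congrArg Subtype.val hi
      rw [← h1]
      exact isClassFunction_of_isCharacter (isCharacter_of_rep ρ) a (y ^ (i : ℕ))
    -- the sum over `T`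
    letI : Fintype (T : Subgroup G) := Fintype.ofFinite _
    have hsum := sum_char_eq ρ (T : Subgroup G)
    have hsplit : ∑ x : (T : Subgroup G), ρ.character (x : G) = 6 + 7 * ρ.character a := by
      rw [← Finset.add_sum_erase _ _ (Finset.mem_univ (1 : (T : Subgroup G)))]
      have h1 : ∀ x ∈ (Finset.univ : Finset (T : Subgroup G)).erase 1,
          ρ.character (x : G) = ρ.character a := by
        intro x hx
        exact hconj x ⟨x.2, fun h2 => (Finset.mem_erase.mp hx).1 (Subtype.ext h2)⟩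
      rw [Finset.sum_congr rfl h1, Finset.sum_const, Finset.card_erase_of_mem (Finset.mem_univ _),
        Finset.card_univ, ← Nat.card_eq_fintype_card, hT]
      simp only [OneMemClass.coe_one, character_one_eq, finrank_fintype_fun_eq_card, Fintype.card_fin]
      norm_num
    have hv := val_invol ρ ha
    simp only [finrank_fintype_fun_eq_card, Fintype.card_fin] at hv
    have hle := fixDim_le ρ (Subgroup.zpowers a)
    simp only [finrank_fintype_fun_eq_card, Fintype.card_fin] at hle
    have hne6 : fixDim ρ (Subgroup.zpowers a) ≠ 6 := by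
      intro h6
      have h1 := hρ.hfaith _ h6
      apply ha1
      have h2 : a ∈ Subgroup.zpowers a := Subgroup.mem_zpowers a
      rw [h1, Subgroup.mem_bot] at h2
      exact h2
    rw [hsplit, hT, hv] at hsum
    have hZ : (6 : ℤ) + 7 * (2 * (fixDim ρ (Subgroup.zpowers a) : ℤ) - 6) =
        8 * (fixDim ρ (T : Subgroup G) : ℤ) := by
      have : (((6 : ℤ) + 7 * (2 * (fixDim ρ (Subgroup.zpowers a) : ℤ) - 6) : ℤ) : ℂ) =
          ((8 * (fixDim ρ (T : Subgroup G) : ℤ) : ℤ) : ℂ) := by
        push_cast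
        linear_combination hsum
      exact_mod_cast this
    omega
  by_cases h5 : 5 ∣ Nat.card N
  · haveI : Fact (Nat.Prime 5) := ⟨by norm_num⟩
    obtain ⟨y', hy'⟩ := exists_prime_orderOf_dvd_card' (G := N) 5 h5
    have hy : orderOf (y' : G) = 5 := by rw [Subgroup.orderOf_coe, hy']
    have hR : IsPGroup 5 (Subgroup.zpowers (y' : G)) := by
      apply IsPGroup.of_card (n := 1)
      rw [Nat.card_zpowers, hy, pow_one]
    obtain ⟨x, hxX, hfix⟩ := exists_fixed_of_not_dvd hR X (fun r hr b hb =>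
      hst r ((Subgroup.zpowers_le.mpr y'.2) hr) b hb) (by rw [hXc]; norm_num)
    have h1 := hfix _ (Subgroup.mem_zpowers (y' : G))
    have hc : x * (y' : G) = (y' : G) * x := by
      rw [mul_inv_eq_iff_eq_mul] at h1
      exact h1.symm
    have h2 := comm5 hG h hy hc
    have h3 : x ^ 5 = 1 := by
      have := orderOf_dvd_of_mem_zpowers h2
      rw [hy] at this
      exact orderOf_dvd_iff_pow_eq_one.mp this
    have h4 := h8x x hxX.1
    apply hxX.2
    have h5' : x = (x ^ 5) ^ 5 * ((x ^ 8) ^ 3)⁻¹ := by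
      rw [← pow_mul, ← pow_mul]
      norm_num
      rw [show (25 : ℕ) = 24 + 1 by norm_num, pow_add, pow_one]
      group
    rw [h5', h3, h4]
    simp
  · -- `N` is `T` extended by a `3`-group
    haveI : Fact (Nat.Prime 3) := ⟨by norm_num⟩
    obtain ⟨m, hm⟩ := h8N
    have hm315 : m ∣ 315 := by
      have : 8 * m ∣ 8 * 315 := by rw [← hm]; simpa using hNG
      exact Nat.dvd_of_mul_dvd_mul_left (by norm_num) this
    have hm5 : ¬ 5 ∣ m := fun hd => h5 (by rw [hm]; exact Dvd.dvd.mul_left hd 8)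
    have hm7 : ¬ 7 ∣ m := fun hd => h7 (by rw [hm]; exact Dvd.dvd.mul_left hd 8)
    have hm3 : m = 1 ∨ m = 3 ∨ m = 9 := by
      rcases dvd315 hm315 with h1 | h1 | h1 | h1 | h1 | h1 | h1 | h1 | h1 | h1 | h1 | h1 <;> omega
    obtain ⟨R⟩ : Nonempty (Sylow 3 N) := inferInstance
    let R' : Subgroup G := (R : Subgroup N).map N.subtype
    have hRle : R' ≤ N := by
      rintro _ ⟨r, -, rfl⟩
      exact r.2
    have hRc : Nat.card R' = m := by
      have h1 : Nat.card R' = Nat.card (R : Subgroup N) :=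
        Nat.card_congr (Subgroup.equivMapOfInjective _ _ N.subtype_injective).toEquiv.symm
      rw [h1]
      rcases hm3 with rfl | rfl | rfl
      · have := Cfsg.Agent.Lib.Small.Sieve.card_sylow_eq (G := N) (p := 3) (k := 0) (m := 8)
          (by rw [hm]; norm_num) (by norm_num) R
        simpa using this
      · have := Cfsg.Agent.Lib.Small.Sieve.card_sylow_eq (G := N) (p := 3) (k := 1) (m := 8)
          (by rw [hm]; norm_num) (by norm_num) R
        simpa using this
      · have := Cfsg.Agent.Lib.Small.Sieve.card_sylow_eq (G := N) (p := 3) (k := 2) (m := 8)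
          (by rw [hm]; norm_num) (by norm_num) R
        simpa using this
    have hRp : IsPGroup 3 R' := by
      have h1 : IsPGroup 3 (R : Subgroup N) := R.isPGroup'
      exact h1.map _
    obtain ⟨x, hxX, hfix⟩ := exists_fixed_of_not_dvd hRp X (fun r hr b hb =>
      hst r (hRle hr) b hb) (by rw [hXc]; norm_num)
    have hbot : (T : Subgroup G) ⊓ R' = ⊥ := by
      rw [eq_bot_iff]
      rintro z ⟨h1, h2⟩
      have h3 : z ^ 8 = 1 := h8x z h1
      have h4 : z ^ 9 = 1 := by
        have h5 := Subgroup.orderOf_dvd_natCard R' h2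
        rw [hRc] at h5
        have h6 : m ∣ 9 := by rcases hm3 with rfl | rfl | rfl <;> norm_num
        exact orderOf_dvd_iff_pow_eq_one.mp (h5.trans h6)
      have h5 : z = 1 := by
        have h6 : z = z ^ 9 * (z ^ 8)⁻¹ := by
          rw [show (9 : ℕ) = 8 + 1 by norm_num, pow_add, pow_one]
          have hc : z ^ 8 * z * (z ^ 8)⁻¹ = z := by
            rw [h3]
            group
          exact hc.symm
        rw [h6, h3, h4]
        simp
      simp [h5]
    have hfixN : ∀ n ∈ N, n * x * n⁻¹ = x := by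
      intro n hn
      obtain ⟨t, ht, r, hr, rfl⟩ := mem_mul_of_card_le hTN hRle hbot
        (by rw [hT, hRc, hm]) hn
      have h1 := hfix r hr
      have h2 : t * x = x * t := hab t ht x hxX.1
      calc (t * r) * x * (t * r)⁻¹ = t * (r * x * r⁻¹) * t⁻¹ := by group
        _ = t * x * t⁻¹ := by rw [h1]
        _ = x := by rw [h2]; group
    obtain ⟨e, he⟩ := exists_invol_pow hxX.2 (h8x x hxX.1)
    have hab' : IsMulCommutative (T : Subgroup G) :=
      ⟨⟨fun a b => Subtype.ext (hab a a.2 b b.2)⟩⟩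
    have hcen := Cfsg.Agent.Lib.ZStar.AbelianSylow.central_of_fixed (core_bot hG h) T hab'
      ((T : Subgroup G).pow_mem hxX.1 e) he (fun n hn => by
        have h1 := hfixN n hn
        calc n * x ^ e * n⁻¹ = (n * x * n⁻¹) ^ e := by
              rw [← MulAut.conj_apply, map_pow, MulAut.conj_apply]
          _ = x ^ e := by rw [h1])
    rw [center_bot hG, Subgroup.mem_bot] at hcen
    rw [hcen, orderOf_one] at he
    omega

end main

end Cfsg.Agent.Lib.Small.A7Local
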