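/-
A simple group of order 2520: Sylow 2-subgroups are dihedral, all involutions are conjugate.
-/
import Cfsg.Agent.Lib.Small.A7Local
import Cfsg.Agent.Lib.InvolChar.TransferTwo

set_option autoImplicit false
set_option linter.unusedSectionVars false
set_option linter.unusedVariables false

namespace Cfsg.Agent.Lib.Small.A7Dih

open Cfsg Module
open Cfsg.Agent.Lib.Small.A7Tools Cfsg.Agent.Lib.Small.A7D8 Cfsg.Agent.Lib.Small.A7Chars
  Cfsg.Agent.Lib.Small.A7Local
open Cfsg.Agent.Lib.Char.Basic Cfsg.Agent.Lib.Char.Ortho Cfsg.Agent.Lib.Char.Complete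
open Cfsg.Agent.Lib.Char.Degree Cfsg.Agent.Lib.CharX.Fixed
open Cfsg.Agent.Lib.LocalStruct.ThompsonIdx (mul_mem_iff conj_mem_iff)
open Cfsg.Agent.Lib.Transfer.Frobenius (mem_smul_sylow_iff)
open scoped ComplexConjugate

universe u

variable {G : Type u} [Group G] [Finite G]

theorem pow4_cases {u x : G} (huo : orderOf u = 4) (hx : x ∈ Subgroup.zpowers u) :
    x = 1 ∨ x = u ∨ x = u ^ 2 ∨ x = u ^ 3 := by
  have hu4 : u ^ 4 = 1 := by
    rw [← huo]
    exact pow_orderOf_eq_one u
  obtain ⟨k, rfl⟩ := Subgroup.mem_zpowers_iff.mp hx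
  have h1 : u ^ k = u ^ (k % 4) := by
    conv_lhs => rw [← Int.mul_ediv_add_emod k 4, zpow_add, zpow_mul]
    have : u ^ (4 : ℤ) = 1 := by
      exact_mod_cast hu4
    rw [this, one_zpow, one_mul]
  have h2 : 0 ≤ k % 4 := Int.emod_nonneg _ (by norm_num)
  have h3 : k % 4 < 4 := Int.emod_lt_of_pos _ (by norm_num)
  rw [h1]
  generalize k % 4 = r at h2 h3
  interval_cases r
  · left; simp
  · right; left; simp
  · right; right; left; exact_mod_cast rfl
  · right; right; right; exact_mod_cast rfl

theorem order_sq_of {u : G} (huo : orderOf u = 4) : orderOf (u ^ 2) = 2 := by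
  have h1 := orderOf_pow' (x := u) (n := 2) (by norm_num)
  rw [huo] at h1
  simpa using h1

theorem order_cube_of {u : G} (huo : orderOf u = 4) : orderOf (u ^ 3) = 4 := by
  have hu4 : u ^ 4 = 1 := by
    rw [← huo]
    exact pow_orderOf_eq_one u
  have h1 : u ^ 3 = u⁻¹ := by
    apply eq_inv_of_mul_eq_one_left
    rw [← pow_succ]
    exact hu4
  rw [h1, orderOf_inv, huo]

theorem relIndex_two {T : Subgroup G} {u : G} (hT : Nat.card T = 8) (huo : orderOf u = 4)
    (hKT : Subgroup.zpowers u ≤ T) : (Subgroup.zpowers u).relIndex T = 2 := by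
  have h1 := Subgroup.card_mul_index ((Subgroup.zpowers u).subgroupOf T)
  have h2 : Nat.card ((Subgroup.zpowers u).subgroupOf T) = Nat.card (Subgroup.zpowers u) :=
    Nat.card_congr (Subgroup.subgroupOfEquivOfLe hKT).toEquiv
  rw [h2, Nat.card_zpowers, huo, hT] at h1
  show ((Subgroup.zpowers u).subgroupOf T).index = 2
  omega

variable [IsSimpleGroup G] (hG : ¬ IsMulCommutative G) (h : Nat.card G = 2520)

include hG h

/-- The structure of a Sylow `2`-subgroup around an element of order `4`. -/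
theorem D8_of {ρ : Representation ℂ G (Fin 6 → ℂ)} (hρ : Faith ρ) (T : Sylow 2 G) {u w : G}
    (hu : u ∈ (T : Subgroup G)) (huo : orderOf u = 4) (hw : w ∈ (T : Subgroup G))
    (hwK : w ∉ Subgroup.zpowers u) : D8 (T : Subgroup G) u w := by
  have hT := card_T h T
  have hKT : Subgroup.zpowers u ≤ (T : Subgroup G) := Subgroup.zpowers_le.mpr hu
  have hrel2 := relIndex_two hT huo hKT
  have hu4 : u ^ 4 = 1 := by
    rw [← huo]
    exact pow_orderOf_eq_one u
  have hu3 : u ^ 3 = u⁻¹ := by
    apply eq_inv_of_mul_eq_one_left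
    rw [← pow_succ]
    exact hu4
  have hsq1 : u ^ 2 ≠ 1 := by
    intro h1
    have h2 := order_sq_of huo
    rw [h1, orderOf_one] at h2
    omega
  have hcK : w * u * w⁻¹ ∈ Subgroup.zpowers u := by
    have h1 := (conj_mem_iff hrel2 hu ((T : Subgroup G).inv_mem hw)).mpr (Subgroup.mem_zpowers u)
    rwa [inv_inv] at h1
  have hco : orderOf (w * u * w⁻¹) = 4 := by rw [order_conj, huo]
  have hkK : ∀ k ∈ Subgroup.zpowers u, ∀ k' ∈ Subgroup.zpowers u, k * k' = k' * k := by
    intro k hk k' hk'
    obtain ⟨i, rfl⟩ := Subgroup.mem_zpowers_iff.mp hk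
    obtain ⟨j, rfl⟩ := Subgroup.mem_zpowers_iff.mp hk'
    exact ((Commute.refl u).zpow_zpow i j).eq
  have hsplit : ∀ x ∈ (T : Subgroup G), x ∈ Subgroup.zpowers u ∨
      ∃ k ∈ Subgroup.zpowers u, x = w * k := by
    intro x hx
    by_cases hxK : x ∈ Subgroup.zpowers u
    · exact Or.inl hxK
    · right
      refine ⟨w⁻¹ * x, ?_, by group⟩
      rw [mul_mem_iff hrel2 ((T : Subgroup G).inv_mem hw) hx]
      have h1 : w⁻¹ ∉ Subgroup.zpowers u := fun h1 => hwK (by simpa using Subgroup.inv_mem _ h1)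
      tauto
  have hnc : w * u ≠ u * w := by
    intro hwu
    have hwk : ∀ k ∈ Subgroup.zpowers u, w * k = k * w := by
      intro k hk
      obtain ⟨i, rfl⟩ := Subgroup.mem_zpowers_iff.mp hk
      exact ((Commute.zpow_right (show Commute w u from hwu) i)).eq
    apply not_abelian hG h hρ T
    intro x hx y hy
    rcases hsplit x hx with h1 | ⟨k, hk, rfl⟩ <;> rcases hsplit y hy with h2 | ⟨k', hk', rfl⟩
    · exact hkK _ h1 _ h2
    · calc x * (w * k') = (x * w) * k' := by group
        _ = (w * x) * k' := by rw [hwk x h1]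
        _ = w * (x * k') := by group
        _ = w * (k' * x) := by rw [hkK x h1 k' hk']
        _ = _ := by group
    · calc (w * k) * y = w * (k * y) := by group
        _ = w * (y * k) := by rw [hkK k hk y h2]
        _ = (w * y) * k := by group
        _ = (y * w) * k := by rw [hwk y h2]
        _ = _ := by group
    · calc (w * k) * (w * k') = w * (k * w) * k' := by group
        _ = w * (w * k) * k' := by rw [hwk k hk]
        _ = w * w * (k * k') := by group
        _ = w * w * (k' * k) := by rw [hkK k hk k' hk']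
        _ = w * (w * k') * k := by group
        _ = w * (k' * w) * k := by rw [hwk k' hk']
        _ = _ := by group
  have hrel : w * u * w⁻¹ = u⁻¹ := by
    rcases pow4_cases huo hcK with h1 | h1 | h1 | h1
    · rw [h1, orderOf_one] at hco
      omega
    · exfalso
      apply hnc
      rw [mul_inv_eq_iff_eq_mul] at h1
      exact h1
    · rw [h1, order_sq_of huo] at hco
      omega
    · rw [h1, hu3]
  have hconjk : ∀ k ∈ Subgroup.zpowers u, w * k * w⁻¹ = k⁻¹ := by
    intro k hk
    obtain ⟨i, rfl⟩ := Subgroup.mem_zpowers_iff.mp hk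
    rw [← MulAut.conj_apply, map_zpow, MulAut.conj_apply, hrel, inv_zpow]
  have hwwK : w * w ∈ Subgroup.zpowers u := by
    rw [mul_mem_iff hrel2 hw hw]
  have hcommw : ∀ k, k = w * w → w * k = k * w := by
    rintro k rfl
    group
  have hww : w * w = 1 := by
    rcases pow4_cases huo hwwK with h1 | h1 | h1 | h1
    · exact h1
    · exfalso
      exact hnc (hcommw _ h1.symm)
    · -- the quaternion case
      exfalso
      refine false_of_fixed hG h T (z := u ^ 2) (order_sq_of huo) (fun g hg => ?_)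
      have ho : orderOf (g * u ^ 2 * g⁻¹) = 2 := by rw [order_conj, order_sq_of huo]
      rcases hsplit _ hg with h2 | ⟨k, hk, h2⟩
      · rcases pow4_cases huo h2 with h3 | h3 | h3 | h3
        · rw [h3, orderOf_one] at ho
          omega
        · rw [h3, huo] at ho
          omega
        · exact h3
        · rw [h3, order_cube_of huo] at ho
          omega
      · exfalso
        have hx2 : (g * u ^ 2 * g⁻¹) * (g * u ^ 2 * g⁻¹) = 1 := by
          have h5 := pow_orderOf_eq_one (g * u ^ 2 * g⁻¹)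
          rw [ho, pow_two] at h5
          exact h5
        rw [h2] at hx2
        apply hsq1
        calc u ^ 2 = k⁻¹ * (w * w) * k := by
              rw [h1, mul_assoc, hkK _ (Subgroup.pow_mem _ (Subgroup.mem_zpowers u) 2) k hk]
              group
          _ = (w * k * w⁻¹) * (w * w) * k := by rw [hconjk k hk]
          _ = (w * k) * (w * k) := by group
          _ = 1 := hx2
    · exfalso
      have h2 := hcommw _ h1.symm
      rw [hu3] at h2
      apply hnc
      calc w * u = u * (u⁻¹ * w) * u := by group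
        _ = u * (w * u⁻¹) * u := by
            have : u⁻¹ * w = w * u⁻¹ := h2.symm
            rw [this]
        _ = u * w := by group
  exact ⟨hT, hu, hw, huo, hwK, hww, hrel⟩

/-- Sylow `2`-subgroups contain elements of order `4`. -/
theorem exists_order4 {ρ : Representation ℂ G (Fin 6 → ℂ)} (hρ : Faith ρ) (T : Sylow 2 G) :
    ∃ u ∈ (T : Subgroup G), orderOf u = 4 := by
  by_contra hno
  push Not at hno
  have hT := card_T h T
  apply not_abelian hG h hρ T
  by_cases hcyc : ∃ x ∈ (T : Subgroup G), orderOf x = 8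
  · obtain ⟨x, hx, hx8⟩ := hcyc
    have he : Subgroup.zpowers x = (T : Subgroup G) :=
      Subgroup.eq_of_le_of_card_ge (Subgroup.zpowers_le.mpr hx) (by rw [hT, Nat.card_zpowers, hx8])
    intro a ha b hb
    rw [← he] at ha hb
    obtain ⟨i, rfl⟩ := Subgroup.mem_zpowers_iff.mp ha
    obtain ⟨j, rfl⟩ := Subgroup.mem_zpowers_iff.mp hb
    exact ((Commute.refl x).zpow_zpow i j).eq
  · push Not at hcyc
    have hsq : ∀ x ∈ (T : Subgroup G), x * x = 1 := by
      intro x hx
      have h1 := Subgroup.orderOf_dvd_natCard (T : Subgroup G) hx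
      rw [hT] at h1
      have h2 : orderOf x ∈ Nat.divisors 8 := Nat.mem_divisors.mpr ⟨h1, by norm_num⟩
      rw [show Nat.divisors 8 = {1, 2, 4, 8} by decide] at h2
      simp only [Finset.mem_insert, Finset.mem_singleton] at h2
      rcases h2 with h3 | h3 | h3 | h3
      · rw [orderOf_eq_one_iff.mp h3]
        simp
      · rw [← pow_two, ← h3]
        exact pow_orderOf_eq_one x
      · exact absurd h3 (hno x hx)
      · exact absurd h3 (hcyc x hx)
    intro a ha b hb
    have h1 := hsq _ ((T : Subgroup G).mul_mem ha hb)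
    have h2 := hsq a ha
    have h3 := hsq b hb
    have h4 : a⁻¹ = a := inv_eq_of_mul_eq_one_left h2
    have h5 : b⁻¹ = b := inv_eq_of_mul_eq_one_left h3
    calc a * b = (b * a)⁻¹ := by
          rw [mul_inv_rev, h4, h5]
      _ = b * a := inv_eq_of_mul_eq_one_left (hsq _ ((T : Subgroup G).mul_mem hb ha))

/-- Every Sylow `2`-subgroup is dihedral. -/
theorem exists_D8 {ρ : Representation ℂ G (Fin 6 → ℂ)} (hρ : Faith ρ) (T : Sylow 2 G) :
    ∃ u w : G, D8 (T : Subgroup G) u w := by
  obtain ⟨u, hu, huo⟩ := exists_order4 hG h hρ T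
  have hT := card_T h T
  have hlt : Subgroup.zpowers u < (T : Subgroup G) := by
    refine lt_of_le_of_ne (Subgroup.zpowers_le.mpr hu) (fun he => ?_)
    rw [← he, Nat.card_zpowers, huo] at hT
    omega
  obtain ⟨w, hw, hwK⟩ := SetLike.exists_of_lt hlt
  exact ⟨u, w, D8_of hG h hρ T hu huo hw hwK⟩

/-- All involutions are conjugate to `u ^ 2`. -/
theorem conj_sq (T : Sylow 2 G) {u w : G} (hD : D8 (T : Subgroup G) u w) {a : G}
    (ha : orderOf a = 2) : ∃ c : G, c * a * c⁻¹ = u ^ 2 := by
  haveI two : Fact (Nat.Prime 2) := ⟨Nat.prime_two⟩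
  have hT := hD.card
  have hKT := hD.K_le
  have hrel2 := relIndex_two hT hD.huo hKT
  obtain ⟨K', hK'n, hK'i, hk⟩ := Cfsg.Agent.Lib.InvolChar.TransferTwo.exists_ker_transfer T
    (Subgroup.zpowers u) hKT hrel2 1 (by
      intro y hy hyK
      have h1 : y ≠ 1 := fun h1 => hyK (h1 ▸ Subgroup.one_mem _)
      have h2 := orderOf_pos y
      have h3 : orderOf y ≠ 1 := fun h3 => h1 (orderOf_eq_one_iff.mp h3)
      norm_num
      omega)
  have hKtop : K' = ⊤ := by
    rcases IsSimpleGroup.eq_bot_or_eq_top_of_normal K' hK'n with h1 | h1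
    · exfalso
      rw [h1, Subgroup.index_bot, h] at hK'i
      omega
    · exact h1
  have hp : IsPGroup 2 (Subgroup.zpowers a) := by
    apply IsPGroup.of_card (n := 1)
    rw [Nat.card_zpowers, ha, pow_one]
  obtain ⟨S, hS⟩ := hp.exists_le_sylow
  obtain ⟨g, rfl⟩ := MulAction.exists_smul_eq G T S
  have ha0 : g⁻¹ * a * g ∈ (T : Subgroup G) := by
    refine (mem_smul_sylow_iff g a T).mp ?_
    exact hS (Subgroup.mem_zpowers a)
  have hao : orderOf (g⁻¹ * a * g) = 2 := by rw [order_conj', ha]
  have h1 := hk _ ha0 (by rw [hao]; norm_num)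
  have h2 : ∃ g' : G, g' * (g⁻¹ * a * g) * g'⁻¹ ∈ Subgroup.zpowers u := by
    by_contra hcon
    push Not at hcon
    exact h1 hcon (by rw [hKtop]; trivial)
  obtain ⟨g', hg'⟩ := h2
  have ho : orderOf (g' * (g⁻¹ * a * g) * g'⁻¹) = 2 := by rw [order_conj, hao]
  refine ⟨g' * g⁻¹, ?_⟩
  have h3 : g' * g⁻¹ * a * (g' * g⁻¹)⁻¹ = g' * (g⁻¹ * a * g) * g'⁻¹ := by group
  rw [h3]
  rcases pow4_cases hD.huo hg' with h4 | h4 | h4 | h4
  · rw [h4, orderOf_one] at ho
    omega
  · rw [h4, hD.huo] at ho
    omega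
  · exact h4
  · rw [h4, order_cube_of hD.huo] at ho
    omega

end Cfsg.Agent.Lib.Small.A7Dih
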