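/-
A simple group of order 2520: the centralizer of an involution.
-/
import Cfsg.Agent.Lib.Small.A7Dih

set_option autoImplicit false
set_option linter.unusedSectionVars false
set_option linter.unusedVariables false

namespace Cfsg.Agent.Lib.Small.A7Cent

open Cfsg Module
open Cfsg.Agent.Lib.Small.A7Tools Cfsg.Agent.Lib.Small.A7D8 Cfsg.Agent.Lib.Small.A7Chars
  Cfsg.Agent.Lib.Small.A7Local Cfsg.Agent.Lib.Small.A7Dih
open Cfsg.Agent.Lib.Char.Basic Cfsg.Agent.Lib.Char.Ortho Cfsg.Agent.Lib.Char.Complete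
open Cfsg.Agent.Lib.Char.Degree Cfsg.Agent.Lib.CharX.Fixed
open Cfsg.Agent.Lib.ExcP.Gram Cfsg.Agent.Lib.ExcP.Dual Cfsg.Agent.Lib.ExcP.Core
open Cfsg.Agent.Lib.ExcP.Inst Cfsg.Agent.Lib.ExcP.BlockHA Cfsg.Agent.Lib.BrauerP.Data
open scoped ComplexConjugate

universe u

/-- A group of order `8 r`, `r = 3` or `9`, with a central involution and a dihedral Sylow
`2`-subgroup has a normal Sylow `3`-subgroup. -/
theorem normal_sylow3 {X : Type*} [Group X] [Finite X] {r : ℕ} (hr : r = 3 ∨ r = 9)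
    (hX : Nat.card X = 8 * r) {z : X} (hz : ∀ g, g * z = z * g) (hzo : orderOf z = 2)
    {T : Subgroup X} {u w : X} (hD : D8 T u w) (R : Sylow 3 X) : (R : Subgroup X).Normal := by
  classical
  haveI f3 : Fact (Nat.Prime 3) := ⟨by norm_num⟩
  obtain ⟨k, hk, hrk⟩ : ∃ k, k ≤ 2 ∧ r = 3 ^ k := by
    rcases hr with rfl | rfl
    · exact ⟨1, by norm_num, by norm_num⟩
    · exact ⟨2, by norm_num, by norm_num⟩
  have hf : Nat.card X = 3 ^ k * 8 := by rw [hX, hrk]; ring
  have hRc : Nat.card (R : Subgroup X) = r := by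
    rw [hrk]
    exact Cfsg.Agent.Lib.Small.Sieve.card_sylow_eq hf (by norm_num) R
  have hRi : (R : Subgroup X).index = 8 :=
    Cfsg.Agent.Lib.Small.Sieve.index_sylow_eq hf (by norm_num) R
  have hRab : IsMulCommutative (R : Subgroup X) :=
    Cfsg.Agent.Lib.Small.Sieve.isMulCommutative_of_card_le_two hk (by rw [hRc, hrk])
  have hab : ∀ a ∈ (R : Subgroup X), ∀ b ∈ (R : Subgroup X), a * b = b * a := by
    intro a ha b hb
    exact congrArg Subtype.val (hRab.is_comm.comm (⟨a, ha⟩ : (R : Subgroup X)) ⟨b, hb⟩)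
  have hn1 := card_sylow_modEq_one 3 X
  have hn2 : Nat.card (Sylow 3 X) ∣ 8 := by
    rw [← hRi]
    exact Sylow.card_dvd_index R
  have hnd : Nat.card (Sylow 3 X) ∈ Nat.divisors 8 := Nat.mem_divisors.mpr ⟨hn2, by norm_num⟩
  rw [show Nat.divisors 8 = {1, 2, 4, 8} by decide] at hnd
  simp only [Finset.mem_insert, Finset.mem_singleton] at hnd
  have hn14 : Nat.card (Sylow 3 X) = 1 ∨ Nat.card (Sylow 3 X) = 4 := by
    unfold Nat.ModEq at hn1
    omega
  have hr3 : ∀ x ∈ (R : Subgroup X), x ^ r = 1 := by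
    intro x hx
    have h1 := Subgroup.orderOf_dvd_natCard (R : Subgroup X) hx
    rw [hRc] at h1
    exact orderOf_dvd_iff_pow_eq_one.mp h1
  have hT8 : ∀ x ∈ T, x ^ 8 = 1 := by
    intro x hx
    have h1 := Subgroup.orderOf_dvd_natCard T hx
    rw [hD.card] at h1
    exact orderOf_dvd_iff_pow_eq_one.mp h1
  have hcop : ∀ x : X, x ^ 8 = 1 → x ^ r = 1 → x = 1 := by
    intro x h8 h9
    have h1 : orderOf x ∣ Nat.gcd 8 r := Nat.dvd_gcd (orderOf_dvd_of_pow_eq_one h8)
      (orderOf_dvd_of_pow_eq_one h9)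
    have h2 : Nat.gcd 8 r = 1 := by rcases hr with rfl | rfl <;> norm_num
    rw [h2, Nat.dvd_one] at h1
    exact orderOf_eq_one_iff.mp h1
  rcases hn14 with hn | hn
  · haveI : Subsingleton (Sylow 3 X) := (Nat.card_eq_one_iff_unique.mp hn).1
    exact Sylow.normal_of_subsingleton R
  -- `N(R) ≤ C(R)`
  have hNc : Nat.card (Subgroup.normalizer ((R : Subgroup X) : Set X)) = 2 * r := by
    have h1 := Cfsg.Agent.Lib.Small.Sieve.card_normalizer_mul R
    rw [hn, hX] at h1
    omega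
  have hbotz : (R : Subgroup X) ⊓ Subgroup.zpowers z = ⊥ := by
    rw [eq_bot_iff]
    rintro x ⟨h1, h2⟩
    have h3 : x ^ 8 = 1 := by
      have h4 := orderOf_dvd_of_mem_zpowers h2
      rw [hzo] at h4
      exact orderOf_dvd_iff_pow_eq_one.mp (h4.trans (by norm_num))
    simp [hcop x h3 (hr3 x h1)]
  have hzN : Subgroup.zpowers z ≤ Subgroup.normalizer ((R : Subgroup X) : Set X) := by
    rw [Subgroup.zpowers_le, Subgroup.mem_normalizer_iff]
    intro b
    have h1 : z * b * z⁻¹ = b := by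
      rw [← hz b]
      group
    rw [h1]
  have hle : Subgroup.normalizer ((R : Subgroup X) : Set X) ≤
      Subgroup.centralizer ((R : Subgroup X) : Set X) := by
    intro x hx
    obtain ⟨p, hp, q, hq, rfl⟩ := Cfsg.Agent.Lib.Small.A7Tools.mem_mul_of_card_le
      Subgroup.le_normalizer hzN hbotz
      (by rw [hNc, hRc, Nat.card_zpowers, hzo, mul_comm]) hx
    rw [Subgroup.mem_centralizer_iff]
    intro b hb
    obtain ⟨i, rfl⟩ := Subgroup.mem_zpowers_iff.mp hq
    have h1 : b * z ^ i = z ^ i * b := by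
      exact (Commute.zpow_right (show Commute b z from hz b) i).eq
    calc b * (p * z ^ i) = (b * p) * z ^ i := by group
      _ = (p * b) * z ^ i := by rw [hab b hb p hp]
      _ = p * (b * z ^ i) := by group
      _ = p * (z ^ i * b) := by rw [h1]
      _ = _ := by group
  -- Burnside
  have hcomp := MonoidHom.ker_transferSylow_isComplement' R hle
  have hcard := hcomp.card_mul_card
  rw [hRc, hX] at hcard
  have hMc : Nat.card (MonoidHom.transferSylow R hle).ker = 8 := by
    have h0 : 0 < r := by rcases hr with rfl | rfl <;> norm_num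
    exact Nat.eq_of_mul_eq_mul_right h0 hcard
  have hTM : T ≤ (MonoidHom.transferSylow R hle).ker := by
    intro t ht
    rw [MonoidHom.mem_ker]
    apply Subtype.ext
    apply hcop
    · have h1 := congrArg (MonoidHom.transferSylow R hle) (hT8 t ht)
      rw [map_pow, map_one] at h1
      exact congrArg Subtype.val h1
    · exact hr3 _ (MonoidHom.transferSylow R hle t).2
  have hTe : T = (MonoidHom.transferSylow R hle).ker :=
    Subgroup.eq_of_le_of_card_ge hTM (by rw [hMc, hD.card])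
  have hTn : T.Normal := by
    rw [hTe]
    exact MonoidHom.normal_ker _
  have hRp : IsPGroup 3 (R : Subgroup X) := R.isPGroup'
  -- the action on the elements of order `4`
  have hune : u ≠ u ^ 3 := by
    intro h1
    apply hD.sq_ne_one
    have h2 : u ^ 3 = u * u ^ 2 := by rw [pow_succ']
    rw [h2] at h1
    exact (mul_eq_left.mp h1.symm)
  let X₁ : Set X := {u, u ^ 3}
  have hX₁c : Nat.card X₁ = 2 := by
    rw [Nat.card_coe_set_eq, Set.ncard_pair hune]
  obtain ⟨x₁, hx₁, hfix₁⟩ := exists_fixed_of_not_dvd hRp X₁ (by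
    rintro y hy x (rfl | rfl)
    · exact hD.order4_cases (hTn.conj_mem _ hD.hu y) (by rw [order_conj, hD.huo])
    · exact hD.order4_cases (hTn.conj_mem _ (hD.mem_pow 3) y) (by rw [order_conj, hD.order_u3])
    ) (by rw [hX₁c]; norm_num)
  have hfu : ∀ y ∈ (R : Subgroup X), y * u * y⁻¹ = u := by
    intro y hy
    rcases hx₁ with rfl | rfl
    · exact hfix₁ y hy
    · have h1 := hfix₁ y hy
      have h2 : u = (u ^ 3) ^ 3 := by
        rw [← pow_mul, show 3 * 3 = 4 + 4 + 1 by norm_num, pow_add, pow_add, hD.u4]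
        simp
      calc y * u * y⁻¹ = y * (u ^ 3) ^ 3 * y⁻¹ := by rw [← h2]
        _ = (y * u ^ 3 * y⁻¹) ^ 3 := by
            rw [← MulAut.conj_apply, map_pow, MulAut.conj_apply]
        _ = u := by rw [h1, ← h2]
  have hfk : ∀ y ∈ (R : Subgroup X), ∀ k ∈ Subgroup.zpowers u, y * k * y⁻¹ = k := by
    intro y hy k hk
    obtain ⟨i, rfl⟩ := Subgroup.mem_zpowers_iff.mp hk
    rw [← MulAut.conj_apply, map_zpow, MulAut.conj_apply, hfu y hy]
  -- the action on the elements outside `⟨u⟩`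
  let X₂ : Set X := (T : Set X) \ (Subgroup.zpowers u : Set X)
  have hX₂c : Nat.card X₂ = 4 := by
    rw [Nat.card_coe_set_eq, Set.ncard_sdiff hD.K_le]
    have h1 : (T : Set X).ncard = 8 := by
      rw [← Nat.card_coe_set_eq]
      exact hD.card
    have h2 : ((Subgroup.zpowers u : Subgroup X) : Set X).ncard = 4 := by
      rw [← Nat.card_coe_set_eq]
      exact hD.card_K
    rw [h1, h2]
  obtain ⟨w₁, hw₁, hfix₂⟩ := exists_fixed_of_not_dvd hRp X₂ (by
    rintro y hy x ⟨hxT, hxK⟩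
    refine ⟨hTn.conj_mem _ hxT y, fun hK => hxK ?_⟩
    have h1 := hfk y hy _ hK
    have h2 : y * (y * x * y⁻¹) * y⁻¹ = y * x * y⁻¹ := h1
    have h3 : y * x * y⁻¹ = x := by
      have h4 : y * (y * x * y⁻¹) * y⁻¹ = y * (y * x * y⁻¹) * y⁻¹ := rfl
      calc y * x * y⁻¹ = y⁻¹ * (y * (y * x * y⁻¹) * y⁻¹) * y := by group
        _ = y⁻¹ * (y * x * y⁻¹) * y := by rw [h2]
        _ = x := by group
    rw [h3] at hK
    exact hK) (by rw [hX₂c]; norm_num)
  have hfw : ∀ y ∈ (R : Subgroup X), y * w * y⁻¹ = w := by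
    intro y hy
    rcases hD.mem_cases hw₁.1 with h1 | ⟨k, hk, h1⟩
    · exact absurd h1 hw₁.2
    · have h2 := hfix₂ y hy
      have h3 := hfk y hy k hk
      have h4 : y * w₁ * y⁻¹ = (y * k * y⁻¹) * (y * w * y⁻¹) := by
        rw [h1]
        group
      rw [h2, h3, h1] at h4
      exact (mul_left_cancel h4).symm
  have hfT : ∀ y ∈ (R : Subgroup X), ∀ x ∈ T, y * x * y⁻¹ = x := by
    intro y hy x hx
    rcases hD.mem_cases hx with h1 | ⟨k, hk, rfl⟩
    · exact hfk y hy x h1
    · calc y * (k * w) * y⁻¹ = (y * k * y⁻¹) * (y * w * y⁻¹) := by group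
        _ = k * w := by rw [hfk y hy k hk, hfw y hy]
  -- conclusion
  have hbotT : T ⊓ (R : Subgroup X) = ⊥ := by
    rw [eq_bot_iff]
    rintro x ⟨h1, h2⟩
    simp [hcop x (hT8 x h1) (hr3 x h2)]
  constructor
  intro n hn g
  obtain ⟨t, ht, p, hp, rfl⟩ := Cfsg.Agent.Lib.Small.A7Tools.mem_mul_of_card_le
    (le_top : T ≤ ⊤) (le_top : (R : Subgroup X) ≤ ⊤) hbotT
    (by rw [Subgroup.card_top, hX, hD.card, hRc]) (Subgroup.mem_top g)
  have h1 : p * n * p⁻¹ = n := by
    rw [hab p hp n hn]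
    group
  have h2 : t * n * t⁻¹ = n := by
    have h3 := hfT n hn t ht
    have h4 : n * t = t * n := by
      rw [mul_inv_eq_iff_eq_mul] at h3
      exact h3
    rw [← h4]
    group
  have h3 : (t * p) * n * (t * p)⁻¹ = n := by
    calc (t * p) * n * (t * p)⁻¹ = t * (p * n * p⁻¹) * t⁻¹ := by group
      _ = n := by rw [h1, h2]
  rw [h3]
  exact hn

variable {G : Type u} [Group G] [Finite G]

/-- A subgroup acting on `{y, y⁻¹}` has a large stabilizer. -/
theorem card_le_two_mul {T : Subgroup G} {y : G}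
    (hT : ∀ x ∈ T, x * y * x⁻¹ = y ∨ x * y * x⁻¹ = y⁻¹) :
    Nat.card T ≤ 2 * Nat.card (T ⊓ Subgroup.centralizer ({y} : Set G) : Subgroup G) := by
  classical
  have hmem : ∀ x : G, x * y * x⁻¹ = y → x ∈ Subgroup.centralizer ({y} : Set G) := by
    intro x hx
    rw [Subgroup.mem_centralizer_singleton_iff]
    rw [mul_inv_eq_iff_eq_mul] at hx
    exact hx
  by_cases hall : ∀ x ∈ T, x * y * x⁻¹ = y
  · have h1 : T ⊓ Subgroup.centralizer ({y} : Set G) = T :=
      inf_eq_left.mpr fun x hx => hmem x (hall x hx)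
    rw [h1]
    omega
  · push Not at hall
    obtain ⟨x₀, hx₀, hne⟩ := hall
    have hinv := (hT x₀ hx₀).resolve_left hne
    let S : Subgroup G := T ⊓ Subgroup.centralizer ({y} : Set G)
    have hcase : ∀ x : T, (x : G) ∉ Subgroup.centralizer ({y} : Set G) →
        x₀⁻¹ * (x : G) ∈ S := by
      intro x hx
      have h1 := hT x x.2
      have h2 : (x : G) * y * (x : G)⁻¹ = y⁻¹ := by
        rcases h1 with h1 | h1
        · exact absurd (hmem _ h1) hx
        · exact h1
      refine ⟨T.mul_mem (T.inv_mem hx₀) x.2, hmem _ ?_⟩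
      calc x₀⁻¹ * (x : G) * y * (x₀⁻¹ * (x : G))⁻¹ = x₀⁻¹ * ((x : G) * y * (x : G)⁻¹) * x₀ := by group
        _ = x₀⁻¹ * (x₀ * y * x₀⁻¹) * x₀ := by rw [h2, hinv]
        _ = y := by group
    let φ : T → S × Bool := fun x =>
      if hx : (x : G) ∈ Subgroup.centralizer ({y} : Set G) then (⟨x, x.2, hx⟩, true)
      else (⟨x₀⁻¹ * (x : G), hcase x hx⟩, false)
    have hinj : Function.Injective φ := by
      intro a b hab
      have h1 := congrArg Prod.snd hab
      have h2 := congrArg (fun p : S × Bool => ((p.1 : S) : G)) hab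
      by_cases ha : (a : G) ∈ Subgroup.centralizer ({y} : Set G) <;>
      by_cases hb : (b : G) ∈ Subgroup.centralizer ({y} : Set G) <;>
      simp only [φ, ha, hb, dite_true, dite_false, Bool.true_eq_false, Bool.false_eq_true] at h1 h2
      · exact Subtype.ext h2
      · exact Subtype.ext (mul_left_cancel h2)
    have h1 := Nat.card_le_card_of_injective φ hinj
    rw [Nat.card_prod, Nat.card_eq_fintype_card (α := Bool), Fintype.card_bool, mul_comm] at h1
    exact h1

variable [IsSimpleGroup G] (hG : ¬ IsMulCommutative G) (h : Nat.card G = 2520)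

include hG h

omit hG h in
theorem card_V4_eq {T : Subgroup G} {u w : G} (hD : D8 T u w) : Nat.card (D8.V4 T w) = 4 := by
  have h1 : Nat.card (Subgroup.zpowers (u ^ 2)) * Nat.card (Subgroup.zpowers w) ≤
      Nat.card (D8.V4 T w) := by
    let φ : Subgroup.zpowers (u ^ 2) × Subgroup.zpowers w → D8.V4 T w :=
      fun a => ⟨a.1 * a.2, Subgroup.mul_mem _ ((Subgroup.zpowers_le.mpr hD.sq_mem_V4) a.1.2)
        ((Subgroup.zpowers_le.mpr hD.w_mem_V4) a.2.2)⟩
    rw [← Nat.card_prod]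
    apply Nat.card_le_card_of_injective φ
    rintro ⟨a, b⟩ ⟨a', b'⟩ he
    have h1 : (a : G) * b = a' * b' := congrArg Subtype.val he
    have h3 : (a' : G)⁻¹ * a ∈ Subgroup.zpowers (u ^ 2) ⊓ Subgroup.zpowers w := by
      refine ⟨Subgroup.mul_mem _ (Subgroup.inv_mem _ a'.2) a.2, ?_⟩
      have h2 : (a' : G)⁻¹ * a = b' * (b : G)⁻¹ := by
        calc (a' : G)⁻¹ * a = (a' : G)⁻¹ * (a * b) * (b : G)⁻¹ := by group
          _ = b' * (b : G)⁻¹ := by rw [h1]; group
      rw [h2]
      exact Subgroup.mul_mem _ b'.2 (Subgroup.inv_mem _ b.2)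
    rw [hD.inf_zw, Subgroup.mem_bot] at h3
    have h4 : (a : G) = a' := (inv_mul_eq_one.mp h3).symm
    have h5 : (b : G) = b' := by
      rw [h4] at h1
      exact mul_left_cancel h1
    exact Prod.ext (Subtype.ext h4) (Subtype.ext h5)
  rw [Nat.card_zpowers, Nat.card_zpowers, hD.order_sq, hD.order_w] at h1
  exact le_antisymm hD.card_V4 h1

/-- The relation coming from the four-group. -/
theorem rel_V4 {V : Type*} [AddCommGroup V] [Module ℂ V] [FiniteDimensional ℂ V]
    (ρ : Representation ℂ G V) (T : Sylow 2 G) {u w : G} (hD : D8 (T : Subgroup G) u w) :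
    (finrank ℂ V : ℤ) + 3 * (2 * (fixDim ρ (Subgroup.zpowers (u ^ 2)) : ℤ) - finrank ℂ V) =
      4 * (fixDim ρ (D8.V4 (T : Subgroup G) w) : ℤ) := by
  classical
  letI : Fintype (D8.V4 (T : Subgroup G) w) := Fintype.ofFinite _
  letI : Fintype (Subgroup.zpowers (u ^ 2)) := Fintype.ofFinite _
  letI : Fintype (Subgroup.zpowers w) := Fintype.ofFinite _
  have hcl := isClassFunction_of_isCharacter (isCharacter_of_rep ρ)
  have hval : ∀ t : G, orderOf t = 2 → ρ.character t = ρ.character (u ^ 2) := by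
    intro t ht
    obtain ⟨c, hc⟩ := conj_sq hG h T hD ht
    rw [← hc, hcl]
  have hv := val_invol ρ hD.order_sq
  have hsum := sum_char_eq ρ (D8.V4 (T : Subgroup G) w)
  rw [hD.sum_V4 ρ.character, hval w hD.order_w, hval _ (hD.order_pow_mul 2),
    character_one_eq, card_V4_eq hD, hv] at hsum
  have : (((finrank ℂ V : ℤ) + 3 * (2 * (fixDim ρ (Subgroup.zpowers (u ^ 2)) : ℤ) - finrank ℂ V) : ℤ) : ℂ) =
      ((4 * (fixDim ρ (D8.V4 (T : Subgroup G) w) : ℤ) : ℤ) : ℂ) := by
    push_cast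
    push_cast at hsum
    linear_combination hsum
  exact_mod_cast this

/-- The value of the character of degree `6` at the involutions. -/
theorem exists_f {ρ : Representation ℂ G (Fin 6 → ℂ)} (hρ : Faith ρ) (T : Sylow 2 G) {u w : G}
    (hD : D8 (T : Subgroup G) u w) :
    ∃ f : ℤ, (f = 2 ∨ f = -2) ∧ ∀ t : G, orderOf t = 2 → ρ.character t = f := by
  classical
  have hcl := isClassFunction_of_isCharacter (isCharacter_of_rep ρ)
  have hval : ∀ t : G, orderOf t = 2 → ρ.character t = ρ.character (u ^ 2) := by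
    intro t ht
    obtain ⟨c, hc⟩ := conj_sq hG h T hD ht
    rw [← hc, hcl]
  have hv := val_invol ρ hD.order_sq
  simp only [finrank_fintype_fun_eq_card, Fintype.card_fin] at hv
  have hle := fixDim_le ρ (Subgroup.zpowers (u ^ 2))
  simp only [finrank_fintype_fun_eq_card, Fintype.card_fin] at hle
  have hne6 : fixDim ρ (Subgroup.zpowers (u ^ 2)) ≠ 6 := by
    intro h6
    have h1 := hρ.hfaith _ h6
    apply hD.sq_ne_one
    have h2 : u ^ 2 ∈ Subgroup.zpowers (u ^ 2) := Subgroup.mem_zpowers _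
    rw [h1, Subgroup.mem_bot] at h2
    exact h2
  have hZ := rel_V4 hG h ρ T hD
  simp only [finrank_fintype_fun_eq_card, Fintype.card_fin] at hZ
  push_cast at hZ
  refine ⟨2 * (fixDim ρ (Subgroup.zpowers (u ^ 2)) : ℤ) - 6, by omega, fun t ht => ?_⟩
  rw [hval t ht, hv]
  push_cast
  ring

/-- The value of a character of degree `10` at the involutions. -/
theorem exists_delta (χ : IrrCharacter G) (hχ : charDegree (χ : G → ℂ) = 10) (T : Sylow 2 G) {u w : G}
    (hD : D8 (T : Subgroup G) u w) : ∃ x : ℤ, (χ : G → ℂ) (u ^ 2) = x ∧ x % 4 = 2 := by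
  classical
  obtain ⟨n, ρ, hirr, hch⟩ := χ.2
  have hn : n = 10 := by
    have h1 := charDegree_natCast (isCharacter_of_isIrrCharacter χ.2)
    rw [hχ, ← hch, character_one_eq] at h1
    simp only [finrank_fintype_fun_eq_card, Fintype.card_fin] at h1
    exact_mod_cast h1.symm
  subst hn
  have hv := val_invol ρ hD.order_sq
  simp only [finrank_fintype_fun_eq_card, Fintype.card_fin] at hv
  have hZ := rel_V4 hG h ρ T hD
  simp only [finrank_fintype_fun_eq_card, Fintype.card_fin] at hZ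
  push_cast at hZ
  refine ⟨2 * (fixDim ρ (Subgroup.zpowers (u ^ 2)) : ℤ) - 10, ?_, by omega⟩
  rw [← hch, hv]
  push_cast
  ring

/-- The lower bound for the centralizer of an involution. -/
theorem le_card_centralizer [Fintype G] [Fintype (IrrCharacter G)] (F ν₁ ν₂ : IrrCharacter G)
    (hF : charDegree (F : G → ℂ) = 6) (hν₁ : charDegree (ν₁ : G → ℂ) = 10)
    (hν₂ : charDegree (ν₂ : G → ℂ) = 10) (hν : ν₁ ≠ ν₂) (T : Sylow 2 G) {u w : G}
    (hD : D8 (T : Subgroup G) u w) :
    13 ≤ Nat.card (Subgroup.centralizer ({u ^ 2} : Set G)) := by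
  classical
  obtain ⟨ρ, hch, hρ⟩ := exists_faith F hF
  obtain ⟨f, hf, hfv⟩ := exists_f hG h hρ T hD
  obtain ⟨x₁, hx₁, hx₁4⟩ := exists_delta hG h ν₁ hν₁ T hD
  obtain ⟨x₂, hx₂, hx₂4⟩ := exists_delta hG h ν₂ hν₂ T hD
  have hFv : (F : G → ℂ) (u ^ 2) = f := by
    rw [← hch]
    exact hfv _ hD.order_sq
  have h1 := sum_irr_mul_conj (G := G) (u ^ 2) (u ^ 2)
  rw [if_pos (IsConj.refl _)] at h1
  have h2 : ∀ χ : IrrCharacter G, (χ : G → ℂ) (u ^ 2) * conj ((χ : G → ℂ) (u ^ 2)) =
      ((Complex.normSq ((χ : G → ℂ) (u ^ 2)) : ℝ) : ℂ) := fun χ => Complex.mul_conj _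
  simp only [h2] at h1
  have h3 : ∑ χ : IrrCharacter G, Complex.normSq ((χ : G → ℂ) (u ^ 2)) =
      (Nat.card (Subgroup.centralizer ({u ^ 2} : Set G)) : ℝ) := by
    exact_mod_cast h1
  have h1F : oneIrr G ≠ F := fun he => by
    have := charDegree_oneIrr (G := G)
    rw [he, hF] at this
    norm_num at this
  have h1ν₁ : oneIrr G ≠ ν₁ := fun he => by
    have := charDegree_oneIrr (G := G)
    rw [he, hν₁] at this
    norm_num at this
  have h1ν₂ : oneIrr G ≠ ν₂ := fun he => by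
    have := charDegree_oneIrr (G := G)
    rw [he, hν₂] at this
    norm_num at this
  have hFν₁ : F ≠ ν₁ := fun he => by
    rw [he, hν₁] at hF
    norm_num at hF
  have hFν₂ : F ≠ ν₂ := fun he => by
    rw [he, hν₂] at hF
    norm_num at hF
  have h4 : ∑ χ ∈ ({oneIrr G, F, ν₁, ν₂} : Finset (IrrCharacter G)),
      Complex.normSq ((χ : G → ℂ) (u ^ 2)) ≤
      ∑ χ : IrrCharacter G, Complex.normSq ((χ : G → ℂ) (u ^ 2)) :=
    Finset.sum_le_sum_of_subset_of_nonneg (Finset.subset_univ _)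
      (fun _ _ _ => Complex.normSq_nonneg _)
  rw [Finset.sum_insert (by simp [h1F, h1ν₁, h1ν₂]), Finset.sum_insert (by simp [hFν₁, hFν₂]),
    Finset.sum_pair hν, hFv, hx₁, hx₂, h3] at h4
  have hone : ((oneIrr G : IrrCharacter G) : G → ℂ) (u ^ 2) = 1 := by simp [oneIrr]
  rw [hone] at h4
  simp only [map_one, Complex.normSq_intCast] at h4
  have hfsq : (4 : ℝ) ≤ (f : ℝ) * f := by
    rcases hf with rfl | rfl <;> norm_num
  have hxsq : ∀ x : ℤ, x % 4 = 2 → (4 : ℝ) ≤ (x : ℝ) * x := by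
    intro x hx
    have h5 : x ≠ 0 := by
      rintro rfl
      norm_num at hx
    have h6 : 2 ≤ |x| := by
      by_contra hlt
      push Not at hlt
      have h7 : |x| ≤ 1 := by omega
      have h8 := abs_le.mp h7
      obtain ⟨h9, h10⟩ := h8
      omega
    have h7 : (2 : ℤ) * 2 ≤ |x| * |x| := mul_le_mul h6 h6 (by norm_num) (abs_nonneg x)
    rw [abs_mul_abs_self] at h7
    exact_mod_cast h7
  have h5 := hxsq x₁ hx₁4
  have h6 := hxsq x₂ hx₂4
  have h7 : (13 : ℝ) ≤ (Nat.card (Subgroup.centralizer ({u ^ 2} : Set G)) : ℝ) := by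
    linarith
  exact_mod_cast h7

omit [IsSimpleGroup G] hG h in
theorem mem3_cases {x y : G} (hy : orderOf y = 3) (hx : x ∈ Subgroup.zpowers y) :
    x = 1 ∨ x = y ∨ x = y⁻¹ := by
  have hy3 : y ^ 3 = 1 := by
    rw [← hy]
    exact pow_orderOf_eq_one y
  obtain ⟨k, rfl⟩ := Subgroup.mem_zpowers_iff.mp hx
  have h1 : y ^ k = y ^ (k % 3) := by
    conv_lhs => rw [← Int.mul_ediv_add_emod k 3, zpow_add, zpow_mul]
    have : y ^ (3 : ℤ) = 1 := by
      exact_mod_cast hy3
    rw [this, one_zpow, one_mul]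
  have h2 : 0 ≤ k % 3 := Int.emod_nonneg _ (by norm_num)
  have h3 : k % 3 < 3 := Int.emod_lt_of_pos _ (by norm_num)
  rw [h1]
  generalize k % 3 = r at h2 h3
  interval_cases r
  · left; simp
  · right; left; simp
  · right; right
    apply eq_inv_of_mul_eq_one_left
    rw [zpow_ofNat, ← pow_succ, hy3]

/-- The structure of the centralizer of an involution. -/
theorem cent_struct [Fintype G] [Fintype (IrrCharacter G)] (F ν₁ ν₂ : IrrCharacter G)
    (hF : charDegree (F : G → ℂ) = 6) (hν₁ : charDegree (ν₁ : G → ℂ) = 10)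
    (hν₂ : charDegree (ν₂ : G → ℂ) = 10) (hν : ν₁ ≠ ν₂)
    (hA : ∀ P : Subgroup G, Nat.card P = 9 →
      Nat.card (Subgroup.normalizer (P : Set G)) = 36) (T : Sylow 2 G) {u w : G}
    (hD : D8 (T : Subgroup G) u w) :
    Nat.card (Subgroup.centralizer ({u ^ 2} : Set G)) = 24 ∧
    ∀ y : G, orderOf y = 3 → y * u ^ 2 = u ^ 2 * y →
      4 ∣ Nat.card (Subgroup.centralizer ({y} : Set G)) := by
  classical
  haveI f3 : Fact (Nat.Prime 3) := ⟨by norm_num⟩
  set z : G := u ^ 2 with hzdef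
  set C : Subgroup G := Subgroup.centralizer ({z} : Set G) with hC
  have hzo : orderOf z = 2 := hD.order_sq
  have hz1 : z ≠ 1 := hD.sq_ne_one
  have huC : u ∈ C := Subgroup.mem_centralizer_singleton_iff.mpr (by
    rw [hzdef]
    exact ((Commute.refl u).pow_right 2).eq)
  have hwC : w ∈ C := Subgroup.mem_centralizer_singleton_iff.mpr hD.comm_sq
  have hTC : (T : Subgroup G) ≤ C := by
    intro x hx
    rcases hD.mem_cases hx with h1 | ⟨k, hk, rfl⟩
    · obtain ⟨i, rfl⟩ := Subgroup.mem_zpowers_iff.mp h1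
      exact C.zpow_mem huC i
    · apply C.mul_mem _ hwC
      obtain ⟨i, rfl⟩ := Subgroup.mem_zpowers_iff.mp hk
      exact C.zpow_mem huC i
  have hCG : Nat.card C ∣ 2520 := by
    rw [← h]
    exact Subgroup.card_subgroup_dvd_card _
  have h8C : 8 ∣ Nat.card C := by
    rw [← hD.card]
    exact Subgroup.card_dvd_of_le hTC
  obtain ⟨m, hm⟩ := h8C
  have hm315 : m ∣ 315 := by
    have : 8 * m ∣ 8 * 315 := by rw [← hm]; simpa using hCG
    exact Nat.dvd_of_mul_dvd_mul_left (by norm_num) this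
  have hm5 : ¬ 5 ∣ m := fun hd => not5 hG h hz1 (by rw [hzo]; norm_num)
    (by rw [← hC, hm]; exact Dvd.dvd.mul_left hd 8)
  have hm7 : ¬ 7 ∣ m := fun hd => not7 hG h hz1 (by rw [hzo]; norm_num)
    (by rw [← hC, hm]; exact Dvd.dvd.mul_left hd 8)
  have hge : 13 ≤ Nat.card C := le_card_centralizer hG h F ν₁ ν₂ hF hν₁ hν₂ hν T hD
  have hm3 : m = 3 ∨ m = 9 := by
    rcases dvd315 hm315 with h1 | h1 | h1 | h1 | h1 | h1 | h1 | h1 | h1 | h1 | h1 | h1 <;> omega
  -- the group `C`
  let zz : C := ⟨z, Subgroup.mem_centralizer_singleton_iff.mpr rfl⟩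
  let uu : C := ⟨u, huC⟩
  let ww : C := ⟨w, hwC⟩
  have hD' : D8 ((T : Subgroup G).subgroupOf C) uu ww := by
    refine ⟨?_, Subgroup.mem_subgroupOf.mpr hD.hu, Subgroup.mem_subgroupOf.mpr hD.hw, ?_, ?_,
      Subtype.ext hD.hww, Subtype.ext hD.hrel⟩
    · rw [Nat.card_congr (Subgroup.subgroupOfEquivOfLe hTC).toEquiv]
      exact hD.card
    · rw [Subgroup.orderOf_mk]
      exact hD.huo
    · intro h1
      obtain ⟨k, hk⟩ := Subgroup.mem_zpowers_iff.mp h1
      apply hD.hwK
      refine Subgroup.mem_zpowers_iff.mpr ⟨k, ?_⟩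
      have := congrArg Subtype.val hk
      simpa using this
  obtain ⟨R⟩ : Nonempty (Sylow 3 C) := inferInstance
  have hRn : (R : Subgroup C).Normal := normal_sylow3 hm3 hm
    (z := zz) (fun g => Subtype.ext (Subgroup.mem_centralizer_singleton_iff.mp g.2))
    (by rw [Subgroup.orderOf_mk]; exact hzo) hD' R
  have hRc : Nat.card (R : Subgroup C) = m := by
    rcases hm3 with rfl | rfl
    · have := Cfsg.Agent.Lib.Small.Sieve.card_sylow_eq (G := C) (p := 3) (k := 1) (m := 8)
        (by rw [hm]; norm_num) (by norm_num) R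
      simpa using this
    · have := Cfsg.Agent.Lib.Small.Sieve.card_sylow_eq (G := C) (p := 3) (k := 2) (m := 8)
        (by rw [hm]; norm_num) (by norm_num) R
      simpa using this
  have hm3' : m = 3 := by
    rcases hm3 with rfl | rfl
    · rfl
    · exfalso
      let R' : Subgroup G := (R : Subgroup C).map C.subtype
      have hR'c : Nat.card R' = 9 := by
        rw [← hRc]
        exact Nat.card_congr (Subgroup.equivMapOfInjective _ _ C.subtype_injective).toEquiv.symm
      have hconj : ∀ c ∈ C, ∀ b ∈ R', c * b * c⁻¹ ∈ R' := by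
        rintro c hc _ ⟨b, hb, rfl⟩
        exact ⟨(⟨c, hc⟩ : C) * b * (⟨c, hc⟩ : C)⁻¹, hRn.conj_mem b hb ⟨c, hc⟩, rfl⟩
      have hle : C ≤ Subgroup.normalizer (R' : Set G) := by
        intro c hc
        rw [Subgroup.mem_normalizer_iff]
        intro b
        constructor
        · exact hconj c hc b
        · intro h1
          have h2 := hconj c⁻¹ (C.inv_mem hc) _ h1
          have h3 : c⁻¹ * (c * b * c⁻¹) * c⁻¹⁻¹ = b := by group
          rwa [h3] at h2
      have h1 := Subgroup.card_le_of_le hle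
      rw [hA R' hR'c, hm] at h1
      omega
  subst hm3'
  refine ⟨by rw [hm], fun y hy hyz => ?_⟩
  have hyC : y ∈ C := Subgroup.mem_centralizer_singleton_iff.mpr hyz
  let yy : C := ⟨y, hyC⟩
  have hyyo : orderOf yy = 3 := by
    rw [Subgroup.orderOf_mk]
    exact hy
  have hyR : yy ∈ (R : Subgroup C) := by
    have hp : IsPGroup 3 (Subgroup.zpowers yy) := by
      apply IsPGroup.of_card (n := 1)
      rw [Nat.card_zpowers, hyyo, pow_one]
    obtain ⟨S, hS⟩ := hp.exists_le_sylow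
    haveI : Unique (Sylow 3 C) := Sylow.unique_of_normal R hRn
    have h1 : S = R := Subsingleton.elim _ _
    rw [h1] at hS
    exact hS (Subgroup.mem_zpowers yy)
  have hRe : (R : Subgroup C) = Subgroup.zpowers yy := by
    symm
    apply Subgroup.eq_of_le_of_card_ge (Subgroup.zpowers_le.mpr hyR)
    rw [hRc, Nat.card_zpowers, hyyo]
  have hact : ∀ x ∈ (T : Subgroup G), x * y * x⁻¹ = y ∨ x * y * x⁻¹ = y⁻¹ := by
    intro x hx
    have h1 : (⟨x, hTC hx⟩ : C) * yy * (⟨x, hTC hx⟩ : C)⁻¹ ∈ Subgroup.zpowers yy := by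
      rw [← hRe]
      exact hRn.conj_mem _ hyR _
    have hne : (⟨x, hTC hx⟩ : C) * yy * (⟨x, hTC hx⟩ : C)⁻¹ ≠ 1 := by
      intro h2
      have h3 : yy = 1 := by
        have h4 : yy = (⟨x, hTC hx⟩ : C)⁻¹ * ((⟨x, hTC hx⟩ : C) * yy * (⟨x, hTC hx⟩ : C)⁻¹) *
            (⟨x, hTC hx⟩ : C) := by group
        rw [h4, h2]
        group
      rw [h3, orderOf_one] at hyyo
      omega
    rcases mem3_cases hyyo h1 with h2 | h2 | h2
    · exact absurd h2 hne
    · left
      exact congrArg Subtype.val h2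
    · right
      exact congrArg Subtype.val h2
  have h2 := card_le_two_mul hact
  rw [hD.card] at h2
  have h3 : Nat.card ((T : Subgroup G) ⊓ Subgroup.centralizer ({y} : Set G) : Subgroup G) ∣ 8 := by
    rw [← hD.card]
    exact Subgroup.card_dvd_of_le inf_le_left
  have h4 : Nat.card ((T : Subgroup G) ⊓ Subgroup.centralizer ({y} : Set G) : Subgroup G) ∈
      Nat.divisors 8 := Nat.mem_divisors.mpr ⟨h3, by norm_num⟩
  rw [show Nat.divisors 8 = {1, 2, 4, 8} by decide] at h4
  simp only [Finset.mem_insert, Finset.mem_singleton] at h4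
  have h5 : 4 ∣ Nat.card ((T : Subgroup G) ⊓ Subgroup.centralizer ({y} : Set G) : Subgroup G) := by
    rcases h4 with h6 | h6 | h6 | h6 <;> rw [h6] at h2 ⊢ <;> omega
  exact h5.trans (Subgroup.card_dvd_of_le inf_le_right)

end Cfsg.Agent.Lib.Small.A7Cent
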