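/-
A simple group of order 2520: the normalizer of a Sylow 3-subgroup.
-/
import Cfsg.Agent.Lib.Small.A7Cent
import Cfsg.Agent.Lib.Dihedral2.Basic

set_option autoImplicit false
set_option linter.unusedSectionVars false
set_option linter.unusedVariables false

namespace Cfsg.Agent.Lib.Small.A7Three

open Cfsg Module
open Cfsg.Agent.Lib.Small.A7Tools Cfsg.Agent.Lib.Small.A7D8 Cfsg.Agent.Lib.Small.A7Chars
  Cfsg.Agent.Lib.Small.A7Local Cfsg.Agent.Lib.Small.A7Dih Cfsg.Agent.Lib.Small.A7Cent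
open scoped IsMulCommutative

universe u

variable {G : Type u} [Group G] [Finite G]

/-- The subgroup of the elements acting on `{y, y⁻¹}` has twice the order of the centralizer. -/
theorem two_mul_card_dvd {y q : G} (hq : q * y * q⁻¹ = y⁻¹) (hne : y ≠ y⁻¹) :
    2 * Nat.card (Subgroup.centralizer ({y} : Set G)) ∣ Nat.card G := by
  classical
  let E : Subgroup G := Cfsg.Agent.Lib.Dihedral2.Basic.eigSub y
  have hCE : Subgroup.centralizer ({y} : Set G) ≤ E := by
    intro c hc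
    left
    have h1 := Subgroup.mem_centralizer_singleton_iff.mp hc
    rw [h1]
    group
  have hqE : q ∈ E := Or.inr hq
  have hmemC : ∀ c : G, c * y * c⁻¹ = y → c ∈ Subgroup.centralizer ({y} : Set G) := by
    intro c hc
    rw [Subgroup.mem_centralizer_singleton_iff]
    rw [mul_inv_eq_iff_eq_mul] at hc
    exact hc
  have hidx : ((Subgroup.centralizer ({y} : Set G)).subgroupOf E).index = 2 := by
    rw [Subgroup.index_eq_two_iff]
    refine ⟨⟨q, hqE⟩, fun b => ?_⟩
    have hb := b.2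
    simp only [Subgroup.mem_subgroupOf, Subgroup.coe_mul]
    rcases hb with hb | hb
    · -- `b` centralizes
      have h1 : (b : G) ∈ Subgroup.centralizer ({y} : Set G) := hmemC _ hb
      right
      refine ⟨h1, fun h2 => ?_⟩
      have h3 := Subgroup.mem_centralizer_singleton_iff.mp h2
      have h4 : (b : G) * q * y * ((b : G) * q)⁻¹ = y := by
        rw [mul_inv_eq_iff_eq_mul]
        exact h3
      have h5 : (b : G) * q * y * ((b : G) * q)⁻¹ = (b : G) * (q * y * q⁻¹) * (b : G)⁻¹ := by group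
      rw [h5, hq] at h4
      have h6 : (b : G) * y⁻¹ * (b : G)⁻¹ = ((b : G) * y * (b : G)⁻¹)⁻¹ := by group
      rw [h6, hb] at h4
      exact hne h4.symm
    · left
      refine ⟨hmemC _ ?_, fun h1 => ?_⟩
      · calc (b : G) * q * y * ((b : G) * q)⁻¹ = (b : G) * (q * y * q⁻¹) * (b : G)⁻¹ := by group
          _ = ((b : G) * y * (b : G)⁻¹)⁻¹ := by rw [hq]; group
          _ = y := by rw [hb, inv_inv]
      · have h3 := Subgroup.mem_centralizer_singleton_iff.mp h1
        have h4 : (b : G) * y * (b : G)⁻¹ = y := by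
          rw [mul_inv_eq_iff_eq_mul]
          exact h3
        rw [hb] at h4
        exact hne h4.symm
  have h1 := Subgroup.card_mul_index ((Subgroup.centralizer ({y} : Set G)).subgroupOf E)
  have h2 : Nat.card ((Subgroup.centralizer ({y} : Set G)).subgroupOf E) =
      Nat.card (Subgroup.centralizer ({y} : Set G)) :=
    Nat.card_congr (Subgroup.subgroupOfEquivOfLe hCE).toEquiv
  rw [h2, hidx] at h1
  rw [mul_comm, h1]
  exact Subgroup.card_subgroup_dvd_card _

/-- A `2`-subgroup of a group of order `36` lies in a subgroup of order `4`. -/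
theorem exists_sub4 {A K : Subgroup G} (hA : Nat.card A = 36) (hKA : K ≤ A) (hK : IsPGroup 2 K) :
    ∃ Q : Subgroup G, Q ≤ A ∧ Nat.card Q = 4 ∧ K ≤ Q := by
  haveI : Fact (Nat.Prime 2) := ⟨Nat.prime_two⟩
  have hK' : IsPGroup 2 (K.subgroupOf A) :=
    hK.of_equiv (Subgroup.subgroupOfEquivOfLe hKA).symm
  obtain ⟨S, hS⟩ := hK'.exists_le_sylow
  refine ⟨(S : Subgroup A).map A.subtype, ?_, ?_, ?_⟩
  · rintro _ ⟨s, -, rfl⟩
    exact s.2
  · have h1 := Cfsg.Agent.Lib.Small.Sieve.card_sylow_eq (G := A) (p := 2) (k := 2) (m := 9)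
      (by rw [hA]; norm_num) (by norm_num) S
    rw [← Nat.card_congr (Subgroup.equivMapOfInjective _ _ A.subtype_injective).toEquiv, h1]
    norm_num
  · intro x hx
    exact ⟨⟨x, hKA hx⟩, hS (Subgroup.mem_subgroupOf.mpr hx), rfl⟩

theorem eq_one_of_pow49 {x : G} (h4 : x ^ 4 = 1) (h9 : x ^ 9 = 1) : x = 1 := by
  have h1 : orderOf x ∣ Nat.gcd 4 9 := Nat.dvd_gcd (orderOf_dvd_of_pow_eq_one h4)
    (orderOf_dvd_of_pow_eq_one h9)
  rw [show Nat.gcd 4 9 = 1 by norm_num, Nat.dvd_one] at h1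
  exact orderOf_eq_one_iff.mp h1

theorem pow9 {P : Subgroup G} (hP : Nat.card P = 9) {x : G} (hx : x ∈ P) : x ^ 9 = 1 := by
  have h1 := Subgroup.orderOf_dvd_natCard P hx
  rw [hP] at h1
  exact orderOf_dvd_iff_pow_eq_one.mp h1

theorem pow4 {P : Subgroup G} (hP : Nat.card P = 4) {x : G} (hx : x ∈ P) : x ^ 4 = 1 := by
  have h1 := Subgroup.orderOf_dvd_natCard P hx
  rw [hP] at h1
  exact orderOf_dvd_iff_pow_eq_one.mp h1

/-- An element of a group of order `9` has a power of order `3`. -/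
theorem exists_order3 {P : Subgroup G} (hP : Nat.card P = 9) {y : G} (hy : y ∈ P) (hy1 : y ≠ 1) :
    ∃ e : ℕ, orderOf (y ^ e) = 3 := by
  haveI : Fact (Nat.Prime 3) := ⟨by norm_num⟩
  by_cases h3 : y ^ 3 = 1
  · exact ⟨1, by rw [pow_one]; exact orderOf_eq_prime h3 hy1⟩
  · exact ⟨3, orderOf_eq_prime (by rw [← pow_mul]; exact pow9 hP hy) h3⟩

theorem comm_of_card9 {P : Subgroup G} (hP : Nat.card P = 9) :
    ∀ a ∈ P, ∀ b ∈ P, a * b = b * a := by
  haveI : Fact (Nat.Prime 3) := ⟨by norm_num⟩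
  have hab : IsMulCommutative P :=
    Cfsg.Agent.Lib.Small.Sieve.isMulCommutative_of_card_le_two (p := 3) (k := 2) (by norm_num)
      (by rw [hP]; norm_num)
  intro a ha b hb
  exact congrArg Subtype.val (hab.is_comm.comm (⟨a, ha⟩ : P) ⟨b, hb⟩)

theorem comm_of_card4 {P : Subgroup G} (hP : Nat.card P = 4) :
    ∀ a ∈ P, ∀ b ∈ P, a * b = b * a := by
  haveI : Fact (Nat.Prime 2) := ⟨Nat.prime_two⟩
  have hab : IsMulCommutative P :=
    Cfsg.Agent.Lib.Small.Sieve.isMulCommutative_of_card_le_two (p := 2) (k := 2) (by norm_num)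
      (by rw [hP]; norm_num)
  intro a ha b hb
  exact congrArg Subtype.val (hab.is_comm.comm (⟨a, ha⟩ : P) ⟨b, hb⟩)

variable [IsSimpleGroup G] (hG : ¬ IsMulCommutative G) (h : Nat.card G = 2520)

include hG h

/-- The normalizer of a Sylow `3`-subgroup has order `36`. -/
theorem card_normalizer_three : ∀ P : Subgroup G, Nat.card P = 9 →
    Nat.card (Subgroup.normalizer (P : Set G)) = 36 := by
  classical
  intro P₀ hP₀
  haveI f3 : Fact (Nat.Prime 3) := ⟨by norm_num⟩
  haveI f5 : Fact (Nat.Prime 5) := ⟨by norm_num⟩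
  haveI f7 : Fact (Nat.Prime 7) := ⟨by norm_num⟩
  have hp : IsPGroup 3 P₀ := IsPGroup.of_card (n := 2) (by rw [hP₀]; norm_num)
  obtain ⟨S, hS⟩ := hp.exists_le_sylow
  have hSc : Nat.card (S : Subgroup G) = 9 := by
    have := Cfsg.Agent.Lib.Small.Sieve.card_sylow_eq (G := G) (p := 3) (k := 2) (m := 280)
      (by rw [h]; norm_num) (by norm_num) S
    simpa using this
  have hSe : P₀ = (S : Subgroup G) := Subgroup.eq_of_le_of_card_ge hS (by rw [hSc, hP₀])
  rw [hSe]
  have hn := Cfsg.Agent.Lib.Small.Sieve.card_sylow_mem_candidates (G := G) (p := 3) (k := 2)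
    (m := 280) hG h (by norm_num) (by norm_num) (by norm_num)
  rw [show Cfsg.Agent.Lib.Small.Sieve.candidates 2520 3 2 280 = [7, 10, 28, 40, 70] by
    decide +kernel] at hn
  have hN := Cfsg.Agent.Lib.Small.Sieve.card_normalizer_mul S
  rw [h] at hN
  let X : Set G := {x | x ∈ (S : Subgroup G) ∧ x ≠ 1}
  have hXc : Nat.card X = 8 := by
    have := card_sharp (S : Subgroup G)
    rw [hSc] at this
    have h2 : Nat.card X + 1 = 9 := this
    omega
  have hst : ∀ n ∈ Subgroup.normalizer ((S : Subgroup G) : Set G), ∀ x ∈ X, n * x * n⁻¹ ∈ X := by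
    rintro n hn x ⟨hx, hx1⟩
    refine ⟨(Subgroup.mem_normalizer_iff.mp hn x).mp hx, ?_⟩
    intro h1
    apply hx1
    have h2 : x = n⁻¹ * (n * x * n⁻¹) * n := by group
    rw [h2, h1]
    group
  have hno5 : ¬ 5 ∣ Nat.card (Subgroup.normalizer ((S : Subgroup G) : Set G)) := by
    intro hd
    obtain ⟨y', hy'⟩ := exists_prime_orderOf_dvd_card'
      (G := Subgroup.normalizer ((S : Subgroup G) : Set G)) 5 hd
    have hy : orderOf (y' : G) = 5 := by rw [Subgroup.orderOf_coe, hy']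
    have hR : IsPGroup 5 (Subgroup.zpowers (y' : G)) := by
      apply IsPGroup.of_card (n := 1)
      rw [Nat.card_zpowers, hy, pow_one]
    obtain ⟨x, hxX, hfix⟩ := exists_fixed_of_not_dvd hR X (fun r hr b hb =>
      hst r ((Subgroup.zpowers_le.mpr y'.2) hr) b hb) (by rw [hXc]; norm_num)
    have h1 := hfix _ (Subgroup.mem_zpowers (y' : G))
    have hc : x * (y' : G) = (y' : G) * x := by
      rw [mul_inv_eq_iff_eq_mul] at h1
      exact h1.symm
    have h2 := orderOf_dvd_of_mem_zpowers (comm5 hG h hy hc)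
    rw [hy] at h2
    have h3 : orderOf x ∣ 9 := orderOf_dvd_of_pow_eq_one (pow9 hSc hxX.1)
    have h4 : orderOf x ∣ Nat.gcd 5 9 := Nat.dvd_gcd h2 h3
    rw [show Nat.gcd 5 9 = 1 by norm_num, Nat.dvd_one] at h4
    exact hxX.2 (orderOf_eq_one_iff.mp h4)
  have hno7 : ¬ 7 ∣ Nat.card (Subgroup.normalizer ((S : Subgroup G) : Set G)) := by
    intro hd
    obtain ⟨y', hy'⟩ := exists_prime_orderOf_dvd_card'
      (G := Subgroup.normalizer ((S : Subgroup G) : Set G)) 7 hd
    have hy : orderOf (y' : G) = 7 := by rw [Subgroup.orderOf_coe, hy']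
    have hR : IsPGroup 7 (Subgroup.zpowers (y' : G)) := by
      apply IsPGroup.of_card (n := 1)
      rw [Nat.card_zpowers, hy, pow_one]
    obtain ⟨x, hxX, hfix⟩ := exists_fixed_of_not_dvd hR X (fun r hr b hb =>
      hst r ((Subgroup.zpowers_le.mpr y'.2) hr) b hb) (by rw [hXc]; norm_num)
    have h1 := hfix _ (Subgroup.mem_zpowers (y' : G))
    have hc : x * (y' : G) = (y' : G) * x := by
      rw [mul_inv_eq_iff_eq_mul] at h1
      exact h1.symm
    have h2 := orderOf_dvd_of_mem_zpowers (comm7 hG h hy hc)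
    rw [hy] at h2
    have h3 : orderOf x ∣ 9 := orderOf_dvd_of_pow_eq_one (pow9 hSc hxX.1)
    have h4 : orderOf x ∣ Nat.gcd 7 9 := Nat.dvd_gcd h2 h3
    rw [show Nat.gcd 7 9 = 1 by norm_num, Nat.dvd_one] at h4
    exact hxX.2 (orderOf_eq_one_iff.mp h4)
  simp only [List.mem_cons, List.not_mem_nil, or_false] at hn
  rcases hn with h1 | h1 | h1 | h1 | h1 <;> rw [h1] at hN
  · exact absurd (by omega) hno5
  · exact absurd (by omega) hno7
  · exact absurd (by omega) hno5
  · exact absurd (by omega) hno7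
  · omega

/-- A Sylow `3`-subgroup has no non-identity element fixed by its normalizer. -/
theorem eq_one_of_fixed (P : Sylow 3 G) {y : G} (hyP : y ∈ (P : Subgroup G))
    (hfix : ∀ n ∈ Subgroup.normalizer ((P : Subgroup G) : Set G), n * y * n⁻¹ = y) : y = 1 := by
  classical
  haveI f3 : Fact (Nat.Prime 3) := ⟨by norm_num⟩
  have hPc : Nat.card (P : Subgroup G) = 9 := by
    have := Cfsg.Agent.Lib.Small.Sieve.card_sylow_eq (G := G) (p := 3) (k := 2) (m := 280)
      (by rw [h]; norm_num) (by norm_num) P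
    simpa using this
  have hcomm := comm_of_card9 hPc
  haveI hab : IsMulCommutative (P : Subgroup G) :=
    ⟨⟨fun a b => Subtype.ext (hcomm a a.2 b b.2)⟩⟩
  have hPC : ∀ x ∈ (P : Subgroup G), x ∈ Subgroup.centralizer ((P : Subgroup G) : Set G) := by
    intro x hx
    rw [Subgroup.mem_centralizer_iff]
    intro b hb
    exact hcomm b hb x hx
  haveI : (P : Subgroup G).FiniteIndex := inferInstance
  let V : G →* (P : Subgroup G) := (MonoidHom.id (P : Subgroup G)).transfer
  have key : ∀ (k : ℕ) (g₀ : G), g₀⁻¹ * y ^ k * g₀ ∈ (P : Subgroup G) →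
      g₀⁻¹ * y ^ k * g₀ = y ^ k := by
    intro k g₀ hg
    obtain ⟨n, hn, e⟩ := Sylow.conj_eq_normalizer_conj_of_mem_centralizer P (y ^ k) g₀
      (hPC _ ((P : Subgroup G).pow_mem hyP k)) (hPC _ hg)
    rw [e]
    have h1 := hfix n⁻¹ (Subgroup.inv_mem _ hn)
    have h2 : n⁻¹ * y ^ k * n = (n⁻¹ * y * n⁻¹⁻¹) ^ k := by
      have h3 := map_pow (MulAut.conj n⁻¹) y k
      simpa [MulAut.conj_apply] using h3
    rw [h2, h1]
  have hV : V y = ⟨y ^ (P : Subgroup G).index, MonoidHom.transfer_eq_pow_aux y key⟩ :=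
    MonoidHom.transfer_eq_pow _ y key
  have hker : commutator G ≤ V.ker := by
    rw [commutator_def, Subgroup.commutator_le]
    intro a _ b _
    rw [MonoidHom.mem_ker, commutatorElement_def]
    simp only [map_mul, map_inv]
    rw [mul_comm' (V a) (V b)]
    simp
  rw [perfect hG] at hker
  have h1 : V y = 1 := hker (Subgroup.mem_top y)
  rw [hV] at h1
  have h2 : y ^ (P : Subgroup G).index = 1 := congrArg Subtype.val h1
  have h3 : (P : Subgroup G).index = 280 :=
    Cfsg.Agent.Lib.Small.Sieve.index_sylow_eq (p := 3) (k := 2) (by rw [h]; norm_num) (by norm_num) P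
  rw [h3] at h2
  have h4 : orderOf y ∣ Nat.gcd 280 9 := Nat.dvd_gcd (orderOf_dvd_of_pow_eq_one h2)
    (orderOf_dvd_of_pow_eq_one (pow9 hPc hyP))
  rw [show Nat.gcd 280 9 = 1 by norm_num, Nat.dvd_one] at h4
  exact orderOf_eq_one_iff.mp h4

/-- The facts about the involutions. -/
structure InvFacts (G : Type u) [Group G] [Finite G] : Prop where
  h9 : ∀ t : G, orderOf t = 2 → ¬ 9 ∣ Nat.card (Subgroup.centralizer ({t} : Set G))
  h4 : ∀ t : G, orderOf t = 2 → ∀ y : G, orderOf y = 3 → y * t = t * y →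
    4 ∣ Nat.card (Subgroup.centralizer ({y} : Set G))

/-- No involution of the normalizer centralizes a non-identity element of a Sylow `3`-subgroup. -/
theorem no_fix (hI : InvFacts G) (P : Sylow 3 G)
    {t y : G} (ht : t ∈ Subgroup.normalizer ((P : Subgroup G) : Set G)) (hto : orderOf t = 2)
    (hy : y ∈ (P : Subgroup G)) (hy1 : y ≠ 1) (hc : t * y = y * t) : False := by
  classical
  haveI f3 : Fact (Nat.Prime 3) := ⟨by norm_num⟩
  haveI f2 : Fact (Nat.Prime 2) := ⟨Nat.prime_two⟩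
  have hPc : Nat.card (P : Subgroup G) = 9 := by
    have := Cfsg.Agent.Lib.Small.Sieve.card_sylow_eq (G := G) (p := 3) (k := 2) (m := 280)
      (by rw [h]; norm_num) (by norm_num) P
    simpa using this
  have hcomm := comm_of_card9 hPc
  set A : Subgroup G := Subgroup.normalizer ((P : Subgroup G) : Set G) with hAdef
  have hAc : Nat.card A = 36 := card_normalizer_three hG h _ hPc
  have hPA : (P : Subgroup G) ≤ A := Subgroup.le_normalizer
  -- an element of order `3`
  obtain ⟨e, he⟩ := exists_order3 hPc hy hy1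
  set y₁ : G := y ^ e with hy₁
  have hy₁P : y₁ ∈ (P : Subgroup G) := (P : Subgroup G).pow_mem hy e
  have hy₁t : t * y₁ = y₁ * t := (Commute.pow_right (show Commute t y from hc) e).eq
  have hy₁1 : y₁ ≠ 1 := by
    intro h1
    rw [h1, orderOf_one] at he
    omega
  -- `t` does not centralize `P`
  have hnC : ¬ (P : Subgroup G) ≤ Subgroup.centralizer ({t} : Set G) := by
    intro hle
    apply hI.h9 t hto
    rw [← hPc]
    exact Subgroup.card_dvd_of_le hle
  let D : Subgroup G := (P : Subgroup G) ⊓ Subgroup.centralizer ({t} : Set G)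
  have hy₁D : y₁ ∈ D := ⟨hy₁P, Subgroup.mem_centralizer_singleton_iff.mpr hy₁t.symm⟩
  have hDe : D = Subgroup.zpowers y₁ := by
    symm
    apply Subgroup.eq_of_le_of_card_ge (Subgroup.zpowers_le.mpr hy₁D)
    rw [Nat.card_zpowers, he]
    have h1 : Nat.card D ∣ 9 := by
      rw [← hPc]
      exact Subgroup.card_dvd_of_le inf_le_left
    have h2 : Nat.card D ≠ 9 := by
      intro h3
      apply hnC
      have h4 : D = (P : Subgroup G) :=
        Subgroup.eq_of_le_of_card_ge inf_le_left (by rw [hPc, h3])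
      rw [← h4]
      exact inf_le_right
    have h3 : Nat.card D ∈ Nat.divisors 9 := Nat.mem_divisors.mpr ⟨h1, by norm_num⟩
    rw [show Nat.divisors 9 = {1, 3, 9} by decide] at h3
    simp only [Finset.mem_insert, Finset.mem_singleton] at h3
    omega
  -- the subgroup `Q`
  have hpt : IsPGroup 2 (Subgroup.zpowers t) := by
    apply IsPGroup.of_card (n := 1)
    rw [Nat.card_zpowers, hto, pow_one]
  obtain ⟨Q, hQA, hQc, hQt⟩ := exists_sub4 hAc (Subgroup.zpowers_le.mpr ht) hpt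
  have htQ : t ∈ Q := hQt (Subgroup.mem_zpowers t)
  have hQcomm := comm_of_card4 hQc
  have hPQ : (P : Subgroup G) ⊓ Q = ⊥ := by
    rw [eq_bot_iff]
    rintro x ⟨h1, h2⟩
    simp [eq_one_of_pow49 (pow4 hQc h2) (pow9 hPc h1)]
  -- the action of `Q`
  have hact : ∀ q ∈ Q, q * y₁ * q⁻¹ = y₁ ∨ q * y₁ * q⁻¹ = y₁⁻¹ := by
    intro q hq
    have h1 : q * y₁ * q⁻¹ ∈ D := by
      refine ⟨(Subgroup.mem_normalizer_iff.mp (hQA hq) y₁).mp hy₁P, ?_⟩
      show q * y₁ * q⁻¹ ∈ Subgroup.centralizer ({t} : Set G)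
      rw [Subgroup.mem_centralizer_singleton_iff]
      have h2 := hQcomm q hq t htQ
      calc q * y₁ * q⁻¹ * t = q * y₁ * (q⁻¹ * t) := by group
        _ = q * y₁ * (t * q⁻¹) := by
            congr 1
            have h3 : q⁻¹ * t = q⁻¹ * (t * q) * q⁻¹ := by group
            rw [h3, ← h2]
            group
        _ = q * (y₁ * t) * q⁻¹ := by group
        _ = q * (t * y₁) * q⁻¹ := by rw [hy₁t]
        _ = (q * t) * y₁ * q⁻¹ := by group
        _ = (t * q) * y₁ * q⁻¹ := by rw [h2]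
        _ = t * (q * y₁ * q⁻¹) := by group
    rw [hDe] at h1
    rcases mem3_cases he h1 with h2 | h2 | h2
    · exfalso
      apply hy₁1
      have h3 : y₁ = q⁻¹ * (q * y₁ * q⁻¹) * q := by group
      rw [h3, h2]
      group
    · exact Or.inl h2
    · exact Or.inr h2
  obtain ⟨q, hqQ, hq⟩ : ∃ q ∈ Q, q * y₁ * q⁻¹ = y₁⁻¹ := by
    by_contra hno
    push Not at hno
    apply hy₁1
    refine eq_one_of_fixed hG h P hy₁P (fun n hn => ?_)
    obtain ⟨p, hp, r, hr, rfl⟩ := mem_mul_of_card_le hPA hQA hPQ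
      (by rw [hAc, hPc, hQc]) hn
    have h1 : r * y₁ * r⁻¹ = y₁ := (hact r hr).resolve_right (hno r hr)
    calc (p * r) * y₁ * (p * r)⁻¹ = p * (r * y₁ * r⁻¹) * p⁻¹ := by group
      _ = p * y₁ * p⁻¹ := by rw [h1]
      _ = y₁ := by rw [hcomm p hp y₁ hy₁P]; group
  have hne : y₁ ≠ y₁⁻¹ := by
    intro h1
    have h2 : y₁ ^ 2 = 1 := by
      rw [pow_two]
      nth_rewrite 2 [h1]
      simp
    have h3 : orderOf y₁ ∣ 2 := orderOf_dvd_of_pow_eq_one h2
    rw [he] at h3
    omega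
  -- the centralizer of `y₁`
  set L : Subgroup G := Subgroup.centralizer ({y₁} : Set G) with hL
  have hPL : (P : Subgroup G) ≤ L := by
    intro p hp
    rw [hL, Subgroup.mem_centralizer_singleton_iff]
    exact hcomm p hp y₁ hy₁P
  have htL : t ∈ L := by
    rw [hL, Subgroup.mem_centralizer_singleton_iff]
    exact hy₁t
  have h4L : 4 ∣ Nat.card L := hI.h4 t hto y₁ he hy₁t.symm
  have h9L : 9 ∣ Nat.card L := by
    rw [← hPc]
    exact Subgroup.card_dvd_of_le hPL
  have h36 : 36 ∣ Nat.card L := by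
    have h1 := Nat.lcm_dvd h4L h9L
    have h2 : Nat.lcm 4 9 = 36 := by norm_num
    rwa [h2] at h1
  have hdvd : 2 * Nat.card L ∣ 2520 := by
    rw [← h]
    exact two_mul_card_dvd hq hne
  obtain ⟨m, hm⟩ := h36
  have hm35 : m ∣ 35 := by
    have : 72 * m ∣ 72 * 35 := by
      have h1 : 2 * (36 * m) ∣ 2520 := by rw [← hm]; exact hdvd
      have h2 : 2 * (36 * m) = 72 * m := by ring
      rw [h2] at h1
      simpa using h1
    exact Nat.dvd_of_mul_dvd_mul_left (by norm_num) this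
  have hm5 : ¬ 5 ∣ m := fun hd => not5 hG h hy₁1 (by rw [he]; norm_num)
    (by rw [← hL, hm]; exact Dvd.dvd.mul_left hd 36)
  have hm7 : ¬ 7 ∣ m := fun hd => not7 hG h hy₁1 (by rw [he]; norm_num)
    (by rw [← hL, hm]; exact Dvd.dvd.mul_left hd 36)
  have hm1 : m = 1 := by
    have h1 : m ∈ Nat.divisors 35 := Nat.mem_divisors.mpr ⟨hm35, by norm_num⟩
    rw [show Nat.divisors 35 = {1, 5, 7, 35} by decide] at h1
    simp only [Finset.mem_insert, Finset.mem_singleton] at h1
    omega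
  subst hm1
  have hLc : Nat.card L = 36 := by rw [hm]
  -- Sylow `3`-subgroups of `L`
  let P' : Sylow 3 L := P.subtype hPL
  have hP'c : Nat.card (P' : Subgroup L) = 9 := by
    have := Cfsg.Agent.Lib.Small.Sieve.card_sylow_eq (G := L) (p := 3) (k := 2) (m := 4)
      (by rw [hLc]; norm_num) (by norm_num) P'
    simpa using this
  have hP'i : (P' : Subgroup L).index = 4 :=
    Cfsg.Agent.Lib.Small.Sieve.index_sylow_eq (p := 3) (k := 2) (by rw [hLc]; norm_num) (by norm_num) P'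
  have hn1 := card_sylow_modEq_one 3 L
  have hn2 : Nat.card (Sylow 3 L) ∣ 4 := by
    rw [← hP'i]
    exact Sylow.card_dvd_index P'
  have hnd : Nat.card (Sylow 3 L) ∈ Nat.divisors 4 := Nat.mem_divisors.mpr ⟨hn2, by norm_num⟩
  rw [show Nat.divisors 4 = {1, 2, 4} by decide] at hnd
  simp only [Finset.mem_insert, Finset.mem_singleton] at hnd
  have hN := Cfsg.Agent.Lib.Small.Sieve.card_normalizer_mul P'
  rw [hLc] at hN
  have hmemP' : ∀ x : L, x ∈ (P' : Subgroup L) ↔ (x : G) ∈ (P : Subgroup G) := by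
    intro x
    exact Iff.rfl
  have htN : (⟨t, htL⟩ : L) ∈ Subgroup.normalizer ((P' : Subgroup L) : Set L) := by
    rw [Subgroup.mem_normalizer_iff]
    intro b
    rw [hmemP', hmemP']
    exact Subgroup.mem_normalizer_iff.mp ht b
  have hn14 : Nat.card (Sylow 3 L) = 1 := by
    by_contra hne1
    have h4 : Nat.card (Sylow 3 L) = 4 := by
      unfold Nat.ModEq at hn1
      omega
    rw [h4] at hN
    have h5 : Nat.card (Subgroup.normalizer ((P' : Subgroup L) : Set L)) = 9 := by omega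
    have h6 : (P' : Subgroup L) = Subgroup.normalizer ((P' : Subgroup L) : Set L) :=
      Subgroup.eq_of_le_of_card_ge Subgroup.le_normalizer (by rw [h5, hP'c])
    have h7 : (⟨t, htL⟩ : L) ∈ (P' : Subgroup L) := by
      rw [h6]
      exact htN
    have h8 : t ∈ (P : Subgroup G) := (hmemP' _).mp h7
    have h9 := orderOf_dvd_of_pow_eq_one (pow9 hPc h8)
    rw [hto] at h9
    omega
  -- `P` is normal in `L`
  haveI : Subsingleton (Sylow 3 L) := (Nat.card_eq_one_iff_unique.mp hn14).1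
  have hnorm : (P' : Subgroup L).Normal := Sylow.normal_of_subsingleton P'
  have hLA : L ≤ A := by
    intro l hl
    rw [hAdef, Subgroup.mem_normalizer_iff]
    intro b
    constructor
    · intro hb
      have h1 : (⟨b, hPL hb⟩ : L) ∈ (P' : Subgroup L) := (hmemP' _).mpr hb
      have h2 := hnorm.conj_mem _ h1 ⟨l, hl⟩
      exact (hmemP' _).mp h2
    · intro hb
      have h1 : (⟨l * b * l⁻¹, hPL hb⟩ : L) ∈ (P' : Subgroup L) := (hmemP' _).mpr hb
      have h2 := hnorm.conj_mem _ h1 (⟨l, hl⟩ : L)⁻¹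
      have h3 := (hmemP' _).mp h2
      have h4 : (((⟨l, hl⟩ : L)⁻¹ * ⟨l * b * l⁻¹, hPL hb⟩ * ((⟨l, hl⟩ : L)⁻¹)⁻¹ : L) : G) = b := by
        simp only [Subgroup.coe_mul, InvMemClass.coe_inv, inv_inv]
        group
      rwa [h4] at h3
  have hLeA : L = A := Subgroup.eq_of_le_of_card_ge hLA (by rw [hAc, hLc])
  have hqL : q ∈ L := by
    rw [hLeA]
    exact hQA hqQ
  have h1 := Subgroup.mem_centralizer_singleton_iff.mp hqL
  have h2 : q * y₁ * q⁻¹ = y₁ := by
    rw [mul_inv_eq_iff_eq_mul]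
    exact h1
  rw [hq] at h2
  exact hne h2.symm

/-- The normalizer contains an element of order `4` whose square inverts the Sylow subgroup. -/
theorem exists_u (hI : InvFacts G) (P : Sylow 3 G) :
    ∃ u ∈ Subgroup.normalizer ((P : Subgroup G) : Set G), orderOf u = 4 ∧
      ∀ p ∈ (P : Subgroup G), u ^ 2 * p * (u ^ 2)⁻¹ = p⁻¹ := by
  classical
  haveI f3 : Fact (Nat.Prime 3) := ⟨by norm_num⟩
  haveI f2 : Fact (Nat.Prime 2) := ⟨Nat.prime_two⟩
  have hPc : Nat.card (P : Subgroup G) = 9 := by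
    have := Cfsg.Agent.Lib.Small.Sieve.card_sylow_eq (G := G) (p := 3) (k := 2) (m := 280)
      (by rw [h]; norm_num) (by norm_num) P
    simpa using this
  have hcomm := comm_of_card9 hPc
  set A : Subgroup G := Subgroup.normalizer ((P : Subgroup G) : Set G) with hAdef
  have hAc : Nat.card A = 36 := card_normalizer_three hG h _ hPc
  have hinv : ∀ t ∈ A, orderOf t = 2 → ∀ p ∈ (P : Subgroup G), t * p * t⁻¹ = p⁻¹ := by
    intro t ht hto p hp
    by_contra hne
    have htp : t * p * t⁻¹ ∈ (P : Subgroup G) := (Subgroup.mem_normalizer_iff.mp ht p).mp hp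
    have ht2 : t * t = 1 := by
      rw [← pow_two, ← hto]
      exact pow_orderOf_eq_one t
    have hti : t⁻¹ = t := inv_eq_of_mul_eq_one_left ht2
    refine no_fix hG h hI P ht hto (y := p * (t * p * t⁻¹)) ((P : Subgroup G).mul_mem hp htp) ?_ ?_
    · intro h1
      apply hne
      exact eq_inv_of_mul_eq_one_right h1
    · calc t * (p * (t * p * t⁻¹)) = (t * p * t⁻¹) * (t * t) * p * t⁻¹ := by group
        _ = (t * p * t⁻¹) * p * t⁻¹ := by rw [ht2]; group
        _ = p * (t * p * t⁻¹) * t⁻¹ := by rw [hcomm _ htp p hp]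
        _ = p * (t * p * t⁻¹) * t := by rw [hti]
  have hp1 : ∃ p ∈ (P : Subgroup G), p ≠ 1 := by
    apply (Subgroup.bot_or_exists_ne_one _).resolve_left
    intro h1
    rw [h1] at hPc
    simp at hPc
  obtain ⟨p₀, hp₀, hp₀1⟩ := hp1
  obtain ⟨Q, hQA, hQc, -⟩ := exists_sub4 hAc (bot_le : (⊥ : Subgroup G) ≤ A)
    (IsPGroup.of_bot)
  have hQcomm := comm_of_card4 hQc
  -- uniqueness of the involution
  have huniq : ∀ t₁ ∈ Q, ∀ t₂ ∈ Q, orderOf t₁ = 2 → orderOf t₂ = 2 → t₁ = t₂ := by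
    intro t₁ ht₁ t₂ ht₂ ho₁ ho₂
    by_contra hne
    have h11 : t₁ * t₁ = 1 := by
      rw [← pow_two, ← ho₁]
      exact pow_orderOf_eq_one t₁
    have h22 : t₂ * t₂ = 1 := by
      rw [← pow_two, ← ho₂]
      exact pow_orderOf_eq_one t₂
    have hi2 : t₂⁻¹ = t₂ := inv_eq_of_mul_eq_one_left h22
    have hne1 : t₁ * t₂ ≠ 1 := by
      intro h1
      apply hne
      have := eq_inv_of_mul_eq_one_left h1
      rwa [hi2] at this
    have hsq : (t₁ * t₂) ^ 2 = 1 := by
      rw [pow_two]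
      calc (t₁ * t₂) * (t₁ * t₂) = t₁ * (t₂ * t₁) * t₂ := by group
        _ = t₁ * (t₁ * t₂) * t₂ := by rw [hQcomm t₂ ht₂ t₁ ht₁]
        _ = (t₁ * t₁) * (t₂ * t₂) := by group
        _ = 1 := by rw [h11, h22, one_mul]
    have ho : orderOf (t₁ * t₂) = 2 := orderOf_eq_prime hsq hne1
    refine no_fix hG h hI P (hQA (Q.mul_mem ht₁ ht₂)) ho hp₀ hp₀1 ?_
    have h1 := hinv t₂ (hQA ht₂) ho₂ p₀ hp₀
    have h2 := hinv t₁ (hQA ht₁) ho₁ p₀⁻¹ (Subgroup.inv_mem _ hp₀)
    rw [inv_inv] at h2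
    have h3 : (t₁ * t₂) * p₀ * (t₁ * t₂)⁻¹ = p₀ := by
      calc (t₁ * t₂) * p₀ * (t₁ * t₂)⁻¹ = t₁ * (t₂ * p₀ * t₂⁻¹) * t₁⁻¹ := by group
        _ = p₀ := by rw [h1, h2]
    rw [mul_inv_eq_iff_eq_mul] at h3
    exact h3
  obtain ⟨t', ht'⟩ := exists_prime_orderOf_dvd_card' (G := Q) 2 (by rw [hQc]; norm_num)
  have hto : orderOf (t' : G) = 2 := by rw [Subgroup.orderOf_coe, ht']
  set t : G := (t' : G) with htdef
  have htQ : t ∈ Q := t'.2
  -- an element different from `1` and `t`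
  obtain ⟨x, hxQ, hx1, hxt⟩ : ∃ x ∈ Q, x ≠ 1 ∧ x ≠ t := by
    by_contra hno
    push Not at hno
    have h1 : (Q : Set G) ⊆ ({1, t} : Set G) := by
      intro x hx
      by_cases hx1 : x = 1
      · exact Or.inl hx1
      · exact Or.inr (hno x hx hx1)
    have h2 := Set.ncard_le_ncard h1 (Set.toFinite _)
    have h3 : ((Q : Subgroup G) : Set G).ncard = 4 := by
      rw [← Nat.card_coe_set_eq]
      exact hQc
    rw [h3] at h2
    have h4 := Set.ncard_insert_le (1 : G) ({t} : Set G)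
    rw [Set.ncard_singleton] at h4
    omega
  have hx2 : x ^ 2 ≠ 1 := by
    intro h1
    exact hxt (huniq x hxQ t htQ (orderOf_eq_prime h1 hx1) hto)
  have hx4 : orderOf x = 4 := by
    have h1 := pow4 hQc hxQ
    have h2 : orderOf x ∣ 4 := orderOf_dvd_of_pow_eq_one h1
    have h3 : orderOf x ∈ Nat.divisors 4 := Nat.mem_divisors.mpr ⟨h2, by norm_num⟩
    rw [show Nat.divisors 4 = {1, 2, 4} by decide] at h3
    simp only [Finset.mem_insert, Finset.mem_singleton] at h3
    rcases h3 with h4 | h4 | h4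
    · exact absurd (orderOf_eq_one_iff.mp h4) hx1
    · exfalso
      apply hx2
      rw [← h4]
      exact pow_orderOf_eq_one x
    · exact h4
  refine ⟨x, hQA hxQ, hx4, fun p hp => ?_⟩
  exact hinv (x ^ 2) (hQA (Q.pow_mem hxQ 2)) (order_sq_of hx4) p hp

end Cfsg.Agent.Lib.Small.A7Three
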