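/-
A simple group of order 2520 has a subgroup of index `7`.
-/
import Cfsg.Agent.Lib.Small.A7Three
import Cfsg.Agent.Lib.Small.AltRec

set_option autoImplicit false
set_option linter.unusedSectionVars false
set_option linter.unusedVariables false

namespace Cfsg.Agent.Lib.Small.A7Main

open Cfsg Module
open Cfsg.Agent.Lib.Small.A7Tools Cfsg.Agent.Lib.Small.A7D8 Cfsg.Agent.Lib.Small.A7Chars
  Cfsg.Agent.Lib.Small.A7Local Cfsg.Agent.Lib.Small.A7Dih Cfsg.Agent.Lib.Small.A7Cent
  Cfsg.Agent.Lib.Small.A7Three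
open Cfsg.Agent.Lib.Char.Basic Cfsg.Agent.Lib.Char.Ortho Cfsg.Agent.Lib.Char.Complete
open Cfsg.Agent.Lib.Char.Degree Cfsg.Agent.Lib.CharX.Fixed
open Cfsg.Agent.Lib.Transfer.Frobenius (mem_smul_sylow_iff)

universe u

variable {G : Type u} [Group G] [Finite G]

/-- Conjugate elements have centralizers of the same order. -/
theorem card_centralizer_conj (c x : G) :
    Nat.card (Subgroup.centralizer ({c * x * c⁻¹} : Set G)) =
      Nat.card (Subgroup.centralizer ({x} : Set G)) := by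
  refine Nat.card_congr
    { toFun := fun y => ⟨c⁻¹ * y * c, ?_⟩
      invFun := fun y => ⟨c * y * c⁻¹, ?_⟩
      left_inv := ?_
      right_inv := ?_ }
  · have h1 := Subgroup.mem_centralizer_singleton_iff.mp y.2
    rw [Subgroup.mem_centralizer_singleton_iff]
    calc c⁻¹ * (y : G) * c * x = c⁻¹ * ((y : G) * (c * x * c⁻¹)) * c := by group
      _ = c⁻¹ * ((c * x * c⁻¹) * (y : G)) * c := by rw [h1]
      _ = x * (c⁻¹ * y * c) := by group
  · have h1 := Subgroup.mem_centralizer_singleton_iff.mp y.2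
    rw [Subgroup.mem_centralizer_singleton_iff]
    calc c * (y : G) * c⁻¹ * (c * x * c⁻¹) = c * ((y : G) * x) * c⁻¹ := by group
      _ = c * (x * (y : G)) * c⁻¹ := by rw [h1]
      _ = c * x * c⁻¹ * (c * y * c⁻¹) := by group
  · intro y
    apply Subtype.ext
    show c * (c⁻¹ * (y : G) * c) * c⁻¹ = y
    group
  · intro y
    apply Subtype.ext
    show c⁻¹ * (c * (y : G) * c⁻¹) * c = y
    group

variable [IsSimpleGroup G] (hG : ¬ IsMulCommutative G) (h : Nat.card G = 2520)

include hG h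

/-- The facts needed about the involutions. -/
theorem inv_facts [Fintype G] [Fintype (IrrCharacter G)] (F ν₁ ν₂ : IrrCharacter G)
    (hF : charDegree (F : G → ℂ) = 6) (hν₁ : charDegree (ν₁ : G → ℂ) = 10)
    (hν₂ : charDegree (ν₂ : G → ℂ) = 10) (hν : ν₁ ≠ ν₂)
    (hA : ∀ P : Subgroup G, Nat.card P = 9 →
      Nat.card (Subgroup.normalizer (P : Set G)) = 36)
    {ρ : Representation ℂ G (Fin 6 → ℂ)} (hρ : Faith ρ) : InvFacts G := by
  haveI f2 : Fact (Nat.Prime 2) := ⟨Nat.prime_two⟩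
  obtain ⟨T⟩ : Nonempty (Sylow 2 G) := inferInstance
  obtain ⟨u₀, w₀, hD⟩ := exists_D8 hG h hρ T
  obtain ⟨h24, h4⟩ := cent_struct hG h F ν₁ ν₂ hF hν₁ hν₂ hν hA T hD
  refine ⟨fun t ht => ?_, fun t ht y hy hc => ?_⟩
  · obtain ⟨c, hc⟩ := conj_sq hG h T hD ht
    rw [← card_centralizer_conj c t, hc, h24]
    norm_num
  · obtain ⟨c, hc'⟩ := conj_sq hG h T hD ht
    have h1 : (c * y * c⁻¹) * u₀ ^ 2 = u₀ ^ 2 * (c * y * c⁻¹) := by
      rw [← hc']
      calc c * y * c⁻¹ * (c * t * c⁻¹) = c * (y * t) * c⁻¹ := by group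
        _ = c * (t * y) * c⁻¹ := by rw [hc]
        _ = c * t * c⁻¹ * (c * y * c⁻¹) := by group
    have h2 := h4 _ (by rw [order_conj, hy]) h1
    rwa [card_centralizer_conj] at h2

/-- The value of a character at an element of order `4`. -/
theorem char_order4 (ρ : Representation ℂ G (Fin 6 → ℂ)) (T : Sylow 2 G) {u w : G}
    (hD : D8 (T : Subgroup G) u w) {x : G} (hx : orderOf x = 4) :
    ρ.character x = ρ.character u := by
  haveI two : Fact (Nat.Prime 2) := ⟨Nat.prime_two⟩
  have hcl := isClassFunction_of_isCharacter (isCharacter_of_rep ρ)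
  have hpx : IsPGroup 2 (Subgroup.zpowers x) :=
    IsPGroup.of_card (n := 2) (by rw [Nat.card_zpowers, hx]; norm_num)
  obtain ⟨S, hS⟩ := hpx.exists_le_sylow
  obtain ⟨c, hc⟩ := MulAction.exists_smul_eq G S T
  have hmem : c * x * c⁻¹ ∈ (T : Subgroup G) := by
    have h1 : x ∈ S := hS (Subgroup.mem_zpowers x)
    have h2 : c * x * c⁻¹ ∈ c • S := by
      rw [mem_smul_sylow_iff]
      simpa [mul_assoc] using h1
    rw [hc] at h2
    exact h2
  rcases hD.order4_cases hmem (by rw [order_conj, hx]) with h1 | h1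
  · rw [← hcl x c, h1]
  · rw [← hcl x c, h1, hD.u3, ← hD.hrel, hcl]

omit hG h in
/-- `x ∈ A` with `x ^ 9 = 1` lies in the normal subgroup `P`. -/
theorem mem_of_pow9 {P A : Subgroup G} {u : G} (hPA : P ≤ A) (hn : ∀ a ∈ A, ∀ p ∈ P, a * p * a⁻¹ ∈ P)
    (hu4 : u ^ 4 = 1) (hc : Nat.card A ≤ Nat.card P * Nat.card (Subgroup.zpowers u))
    (huA : u ∈ A) (hb : P ⊓ Subgroup.zpowers u = ⊥) {x : G} (hx : x ∈ A) (hx9 : x ^ 9 = 1) : x ∈ P := by
  obtain ⟨p, hp, q, hq, rfl⟩ := mem_mul_of_card_le hPA (Subgroup.zpowers_le.mpr huA) hb hc hx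
  have hqA : q ∈ A := (Subgroup.zpowers_le.mpr huA) hq
  have key : ∀ n : ℕ, ∃ r ∈ P, (p * q) ^ n = r * q ^ n := by
    intro n
    induction n with
    | zero => exact ⟨1, P.one_mem, by simp⟩
    | succ n ih =>
      obtain ⟨r, hr, hr'⟩ := ih
      refine ⟨r * (q ^ n * p * (q ^ n)⁻¹), P.mul_mem hr (hn _ (A.pow_mem hqA n) _ hp), ?_⟩
      rw [pow_succ, hr', pow_succ]
      group
  obtain ⟨r, hr, hr'⟩ := key 9
  rw [hx9] at hr'
  have hq4 : q ^ 4 = 1 := by
    obtain ⟨k, rfl⟩ := Subgroup.mem_zpowers_iff.mp hq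
    rw [← zpow_natCast, ← zpow_mul, mul_comm, zpow_mul, zpow_natCast, hu4, one_zpow]
  have hq9 : q ^ 9 = q := by
    calc q ^ 9 = (q ^ 4) ^ 2 * q := by group
      _ = q := by rw [hq4]; simp
  rw [hq9] at hr'
  have hqP : q ∈ P := by
    have : q = r⁻¹ := by
      have := eq_inv_of_mul_eq_one_right hr'.symm
      exact this
    rw [this]
    exact P.inv_mem hr
  exact P.mul_mem hp hqP

omit hG h in
/-- The elements of the coset of an involution inverting `P`. -/
theorem order_two_coset {P : Subgroup G} {z p : G} (hz : orderOf z = 2)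
    (hzP : z ∉ P) (hinv : ∀ p ∈ P, z * p * z⁻¹ = p⁻¹) (hp : p ∈ P) : orderOf (p * z) = 2 := by
  haveI f2 : Fact (Nat.Prime 2) := ⟨Nat.prime_two⟩
  have hz2 : z * z = 1 := by
    rw [← pow_two, ← hz]
    exact pow_orderOf_eq_one z
  refine orderOf_eq_prime ?_ ?_
  · have h1 := hinv p hp
    calc (p * z) ^ 2 = p * (z * p * z⁻¹) * (z * z) := by rw [pow_two]; group
      _ = 1 := by rw [h1, hz2]; group
  · intro h1
    apply hzP
    have h2 : z = p⁻¹ := eq_inv_of_mul_eq_one_right h1
    rw [h2]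
    exact P.inv_mem hp

omit hG h in
/-- The elements of the coset of an element of order `4` whose square inverts `P`. -/
theorem order_four_coset {P : Subgroup G} {z v p : G} (hz : orderOf z = 2)
    (hzP : z ∉ P) (hinv : ∀ p ∈ P, z * p * z⁻¹ = p⁻¹) (hv : v * v = z)
    (hvn : ∀ p ∈ P, v * p * v⁻¹ ∈ P) (hp : p ∈ P) : orderOf (p * v) = 4 := by
  haveI f2 : Fact (Nat.Prime 2) := ⟨Nat.prime_two⟩
  have h1 : (p * v) ^ 2 = (p * (v * p * v⁻¹)) * z := by
    rw [← hv, pow_two]
    group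
  have h2 : orderOf ((p * v) ^ 2) = 2 := by
    rw [h1]
    exact order_two_coset hz hzP hinv (P.mul_mem hp (hvn p hp))
  have h3 : orderOf (p * v) = 2 ^ (1 + 1) := by
    refine orderOf_eq_prime_pow ?_ ?_
    · rw [pow_one]
      intro h4
      rw [h4, orderOf_one] at h2
      omega
    · rw [show (2 : ℕ) ^ (1 + 1) = 2 * 2 by norm_num, pow_mul]
      have h4 := pow_orderOf_eq_one ((p * v) ^ 2)
      rwa [h2] at h4
  rw [h3]
  norm_num

/-- The numerical outcome of the values of the character of degree `6`. -/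
theorem numerics {ρ : Representation ℂ G (Fin 6 → ℂ)} (hρ : Faith ρ) (T : Sylow 2 G) {u w : G}
    (hD : D8 (T : Subgroup G) u w) (P : Sylow 3 G) (hPc : Nat.card (P : Subgroup G) = 9)
    (huA : u ∈ Subgroup.normalizer ((P : Subgroup G) : Set G))
    (hinv : ∀ p ∈ (P : Subgroup G), u ^ 2 * p * (u ^ 2)⁻¹ = p⁻¹)
    (hAc : Nat.card (Subgroup.normalizer ((P : Subgroup G) : Set G)) = 36) :
    1 ≤ fixDim ρ (Subgroup.normalizer ((P : Subgroup G) : Set G)) ∧
    fixDim ρ (Subgroup.zpowers u) = 2 ∧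
      (fixDim ρ (T : Subgroup G) = 2 ∨ fixDim ρ (T : Subgroup G) = 0) := by
  classical
  set A : Subgroup G := Subgroup.normalizer ((P : Subgroup G) : Set G) with hAdef
  have hPA : (P : Subgroup G) ≤ A := Subgroup.le_normalizer
  have huo := hD.huo
  have hKA : Subgroup.zpowers u ≤ A := Subgroup.zpowers_le.mpr huA
  letI fK : Fintype (Subgroup.zpowers u) := Fintype.ofFinite _
  letI fW : Fintype (Subgroup.zpowers w) := Fintype.ofFinite _
  letI fz : Fintype (Subgroup.zpowers (u ^ 2)) := Fintype.ofFinite _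
  letI fT : Fintype (T : Subgroup G) := Fintype.ofFinite _
  letI fL : Fintype (D8.V4 (T : Subgroup G) w) := Fintype.ofFinite _
  letI fA : Fintype A := Fintype.ofFinite _
  letI fP : Fintype (P : Subgroup G) := Fintype.ofFinite _
  obtain ⟨f, hf, hfv⟩ := exists_f hG h hρ T hD
  set g : ℂ := ρ.character u with hg
  have hgv : ∀ x : G, orderOf x = 4 → ρ.character x = g := fun x hx => char_order4 hG h ρ T hD hx
  have h1v : ρ.character 1 = 6 := by
    rw [character_one_eq]
    simp
  have hb : (P : Subgroup G) ⊓ Subgroup.zpowers u = ⊥ := by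
    rw [eq_bot_iff]
    rintro x ⟨h1, h2⟩
    have h4 : x ^ 4 = 1 := pow4 (by rw [Nat.card_zpowers, huo]) h2
    simp [eq_one_of_pow49 h4 (pow9 hPc h1)]
  have hz : orderOf (u ^ 2) = 2 := hD.order_sq
  have hzP : u ^ 2 ∉ (P : Subgroup G) := by
    intro h1
    have h2 : (u ^ 2) ∈ Subgroup.zpowers u := Subgroup.pow_mem _ (Subgroup.mem_zpowers u) 2
    have h3 : u ^ 2 ∈ (P : Subgroup G) ⊓ Subgroup.zpowers u := ⟨h1, h2⟩
    rw [hb, Subgroup.mem_bot] at h3
    exact hD.sq_ne_one h3
  -- the sums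
  have eK := sum_char_eq ρ (Subgroup.zpowers u)
  rw [hD.sum_K (f := ρ.character), hD.card_K, hfv _ hD.order_sq, hgv _ hD.order_u3, h1v] at eK
  have eT := sum_char_eq ρ (T : Subgroup G)
  rw [hD.sum_T (f := ρ.character), hD.card, hfv _ hD.order_w, hfv _ hD.order_sq,
    hgv _ hD.order_u3, h1v] at eT
  have e1 : ρ.character (u * w) = f := by
    have h1 := hD.order_pow_mul 1
    rw [pow_one] at h1
    exact hfv _ h1
  rw [e1, hfv _ (hD.order_pow_mul 2), hfv _ (hD.order_pow_mul 3)] at eT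
  have eL := sum_char_eq ρ (D8.V4 (T : Subgroup G) w)
  rw [hD.sum_V4 (f := ρ.character), card_V4_eq hD, hfv _ hD.order_w, hfv _ hD.order_sq,
    hfv _ (hD.order_pow_mul 2), h1v] at eL
  have eA := sum_char_eq ρ A
  have hc : Nat.card A ≤ Nat.card (P : Subgroup G) * Nat.card (Subgroup.zpowers u) := by
    rw [hAc, hPc, Nat.card_zpowers, huo]
  rw [sum_mul_of_card_le hPA hKA hb hc (f := ρ.character), hAc] at eA
  have hinner : ∀ p : (P : Subgroup G), ∑ q : Subgroup.zpowers u, ρ.character ((p : G) * q) =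
      ρ.character (p : G) + (2 * g + f) := by
    intro p
    have hu1 : ∀ x ∈ (P : Subgroup G), u * x * u⁻¹ ∈ (P : Subgroup G) := fun x hx =>
      (Subgroup.mem_normalizer_iff.mp huA x).mp hx
    have hu3 : ∀ x ∈ (P : Subgroup G), u ^ 3 * x * (u ^ 3)⁻¹ ∈ (P : Subgroup G) := fun x hx =>
      (Subgroup.mem_normalizer_iff.mp (A.pow_mem huA 3) x).mp hx
    have hvu : u * u = u ^ 2 := (pow_two u).symm
    have hvu3 : u ^ 3 * u ^ 3 = u ^ 2 := by
      calc u ^ 3 * u ^ 3 = u ^ 4 * u ^ 2 := by group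
        _ = u ^ 2 := by rw [hD.u4, one_mul]
    rw [sum_zpowers (x := u) huo (fun q => ρ.character ((p : G) * q))]
    simp only [Finset.sum_range_succ, Finset.sum_range_zero, zero_add, pow_zero, pow_one, mul_one]
    rw [hgv _ (order_four_coset hz hzP hinv hvu hu1 p.2),
      hgv _ (order_four_coset hz hzP hinv hvu3 hu3 p.2),
      hfv _ (order_two_coset hz hzP hinv p.2)]
    ring
  simp only [hinner, Finset.sum_add_distrib, Finset.sum_const, Finset.card_univ, nsmul_eq_mul,
    Nat.card_eq_fintype_card] at eA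
  have eP := sum_char_eq ρ (P : Subgroup G)
  have hFc : Fintype.card (P : Subgroup G) = 9 := by rw [← Nat.card_eq_fintype_card, hPc]
  rw [hFc, eP, hPc] at eA
  rw [← hg] at eK eT
  have hTK : fixDim ρ (T : Subgroup G) ≤ fixDim ρ (Subgroup.zpowers u) := fixDim_anti ρ hD.K_le
  have hTL : fixDim ρ (T : Subgroup G) ≤ fixDim ρ (D8.V4 (T : Subgroup G) w) :=
    fixDim_anti ρ inf_le_left
  have hAP : fixDim ρ A ≤ fixDim ρ (P : Subgroup G) := fixDim_anti ρ hPA
  have hAK : fixDim ρ A ≤ fixDim ρ (Subgroup.zpowers u) := fixDim_anti ρ hKA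
  have hP6 : fixDim ρ (P : Subgroup G) ≠ 6 := by
    intro h6
    have h1 := hρ.hfaith _ h6
    rw [h1, Subgroup.card_bot] at hPc
    omega
  have hP6' : fixDim ρ (P : Subgroup G) ≤ 6 := by
    have h1 := fixDim_le ρ (P : Subgroup G)
    simpa using h1
  generalize fixDim ρ (Subgroup.zpowers u) = aK at *
  generalize fixDim ρ (T : Subgroup G) = aT at *
  generalize fixDim ρ (D8.V4 (T : Subgroup G) w) = aL at *
  generalize fixDim ρ A = aA at *
  generalize fixDim ρ (P : Subgroup G) = aP at *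
  push_cast at eK eT eL eA
  have i1 : (f : ℂ) = 2 * (aT : ℂ) - (aK : ℂ) := by
    linear_combination (1 / 4 : ℂ) * eT - (1 / 4 : ℂ) * eK
  have i1' : f = 2 * (aT : ℤ) - (aK : ℤ) := by exact_mod_cast i1
  have i2 : (aP : ℂ) = 6 + 4 * (aA : ℂ) - 4 * (aK : ℂ) := by
    linear_combination (1 / 9 : ℂ) * eA - eK
  have i2' : (aP : ℤ) = 6 + 4 * (aA : ℤ) - 4 * (aK : ℤ) := by exact_mod_cast i2
  have i3 : (6 : ℂ) + 3 * (f : ℂ) = 4 * (aL : ℂ) := by
    linear_combination eL
  have i3' : 6 + 3 * f = 4 * (aL : ℤ) := by exact_mod_cast i3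
  omega

/-- A simple group of order `2520` has a subgroup of index `7`. -/
theorem exists_index_seven : ∃ H : Subgroup G, H ≠ ⊤ ∧ H.index = 7 := by
  classical
  letI : Fintype G := Fintype.ofFinite G
  haveI : Finite (IrrCharacter G) := finite_irrCharacter
  letI : Fintype (IrrCharacter G) := Fintype.ofFinite _
  haveI f3 : Fact (Nat.Prime 3) := ⟨by norm_num⟩
  haveI f2 : Fact (Nat.Prime 2) := ⟨Nat.prime_two⟩
  obtain ⟨F, ν₁, ν₂, hF, hν₁, hν₂, hν⟩ := exists_chars hG h
  obtain ⟨ρ, hch, hρ⟩ := exists_faith F hF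
  have hA := card_normalizer_three hG h
  have hI : InvFacts G := inv_facts hG h F ν₁ ν₂ hF hν₁ hν₂ hν hA hρ
  obtain ⟨P⟩ : Nonempty (Sylow 3 G) := inferInstance
  have hPc : Nat.card (P : Subgroup G) = 9 := by
    have := Cfsg.Agent.Lib.Small.Sieve.card_sylow_eq (G := G) (p := 3) (k := 2) (m := 280)
      (by rw [h]; norm_num) (by norm_num) P
    simpa using this
  obtain ⟨u, huA, huo, hinv⟩ := exists_u hG h hI P
  have hAc : Nat.card (Subgroup.normalizer ((P : Subgroup G) : Set G)) = 36 := hA _ hPc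
  have hpu : IsPGroup 2 (Subgroup.zpowers u) :=
    IsPGroup.of_card (n := 2) (by rw [Nat.card_zpowers, huo]; norm_num)
  obtain ⟨T, hT⟩ := hpu.exists_le_sylow
  have huT : u ∈ (T : Subgroup G) := hT (Subgroup.mem_zpowers u)
  have hTc := card_T h T
  have hlt : Subgroup.zpowers u < (T : Subgroup G) := by
    refine lt_of_le_of_ne hT (fun he => ?_)
    rw [← he, Nat.card_zpowers, huo] at hTc
    omega
  obtain ⟨w, hw, hwK⟩ := SetLike.exists_of_lt hlt
  have hD := D8_of hG h hρ T huT huo hw hwK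
  obtain ⟨hAfix, hK2, hT20⟩ := numerics hG h hρ T hD P hPc huA hinv hAc
  set A : Subgroup G := Subgroup.normalizer ((P : Subgroup G) : Set G) with hAdef
  have hPA : (P : Subgroup G) ≤ A := Subgroup.le_normalizer
  have hvex : ∃ v, v ≠ 0 ∧ v ∈ Representation.invariants (ρ.comp A.subtype) := by
    have hne : Representation.invariants (ρ.comp A.subtype) ≠ ⊥ := by
      intro h0
      rw [fixDim, h0, finrank_bot] at hAfix
      omega
    obtain ⟨v, hv, hv0⟩ := Submodule.exists_mem_ne_zero_of_ne_bot hne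
    exact ⟨v, hv0, hv⟩
  obtain ⟨v, hv0, hv⟩ := hvex
  have hvA : ∀ a ∈ A, ρ a v = v := mem_fix.mp hv
  have hvK : ∀ k ∈ Subgroup.zpowers u, ρ k v = v :=
    fun k hk => hvA k (Subgroup.zpowers_le.mpr huA hk)
  have hwv : ∃ c : ℂ, ρ w v = c • v := by
    rcases hT20 with h2 | h0
    · refine ⟨1, ?_⟩
      have heq : Representation.invariants (ρ.comp (T : Subgroup G).subtype) =
          Representation.invariants (ρ.comp (Subgroup.zpowers u).subtype) :=
        Submodule.eq_of_le_of_finrank_eq (fix_anti hD.K_le) (by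
          show fixDim ρ (T : Subgroup G) = fixDim ρ (Subgroup.zpowers u)
          rw [h2, hK2])
      have h1 : v ∈ Representation.invariants (ρ.comp (T : Subgroup G).subtype) := by
        rw [heq]
        exact mem_fix.mpr hvK
      rw [one_smul]
      exact mem_fix.mp h1 w hw
    · refine ⟨-1, ?_⟩
      have hbot : Representation.invariants (ρ.comp (T : Subgroup G).subtype) = ⊥ :=
        Submodule.finrank_eq_zero.mp h0
      have hs : v + ρ w v ∈ Representation.invariants (ρ.comp (T : Subgroup G).subtype) := by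
        rw [mem_fix]
        intro x hx
        have hww : ρ w (ρ w v) = v := by
          rw [← Module.End.mul_apply, ← map_mul, hD.hww]
          simp
        have hkw : ∀ k ∈ Subgroup.zpowers u, ρ k (ρ w v) = ρ w v := by
          intro k hk
          have h1 : w⁻¹ * k * w ∈ Subgroup.zpowers u := by
            have h2 : ∃ i : ℕ, k = u ^ i := by
              rcases hD.mem_K_cases hk with rfl | rfl | rfl | rfl
              · exact ⟨0, by simp⟩
              · exact ⟨1, by simp⟩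
              · exact ⟨2, rfl⟩
              · exact ⟨3, rfl⟩
            obtain ⟨i, rfl⟩ := h2
            have h3 := hD.conj_pow i
            rw [hD.w_inv] at h3
            rw [hD.w_inv, h3]
            exact Subgroup.inv_mem _ (Subgroup.pow_mem _ (Subgroup.mem_zpowers u) i)
          calc ρ k (ρ w v) = ρ (k * w) v := by rw [map_mul]; rfl
            _ = ρ (w * (w⁻¹ * k * w)) v := by congr 2; group
            _ = ρ w (ρ (w⁻¹ * k * w) v) := by rw [map_mul]; rfl
            _ = ρ w v := by rw [hvK _ h1]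
        rcases hD.mem_cases hx with h1 | ⟨k, hk, rfl⟩
        · rw [map_add, hvK x h1, hkw x h1]
        · rw [map_mul, Module.End.mul_apply, map_add, hww, add_comm, map_add, hvK k hk, hkw k hk]
      rw [hbot, Submodule.mem_bot] at hs
      rw [neg_one_smul]
      exact eq_neg_of_add_eq_zero_right hs
  set S : Subgroup G := lineStab ρ v hv0 with hSdef
  have hAS : A ≤ S := fun a ha => ⟨1, by rw [one_smul]; exact hvA a ha⟩
  have hTS : (T : Subgroup G) ≤ S := by
    intro x hx
    obtain ⟨c, hc⟩ := hwv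
    rcases hD.mem_cases hx with h1 | ⟨k, hk, rfl⟩
    · exact ⟨1, by rw [one_smul]; exact hvK x h1⟩
    · exact ⟨c, by rw [map_mul, Module.End.mul_apply, hc, map_smul, hvK k hk]⟩
  have hSne : S ≠ ⊤ := lineStab_ne_top hv0 (perfect hG) hρ.hinv
  have h36 : 36 ∣ Nat.card S := by
    rw [← hAc]
    exact Subgroup.card_dvd_of_le hAS
  have h8 : 8 ∣ Nat.card S := by
    rw [← hTc]
    exact Subgroup.card_dvd_of_le hTS
  have h72 : 72 ∣ Nat.card S := by
    have h1 := Nat.lcm_dvd h36 h8
    have h2 : Nat.lcm 36 8 = 72 := by norm_num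
    rwa [h2] at h1
  have hd : Nat.card S ∣ 2520 := by
    rw [← h]
    exact Subgroup.card_subgroup_dvd_card S
  obtain ⟨k, hk⟩ := h72
  have hk35 : k ∣ 35 := by
    have h1 : 72 * k ∣ 72 * 35 := by
      rw [← hk]
      exact hd
    exact Nat.dvd_of_mul_dvd_mul_left (by norm_num) h1
  have hcases : k = 1 ∨ k = 5 ∨ k = 7 ∨ k = 35 := by
    have h1 : k ≤ 35 := Nat.le_of_dvd (by norm_num) hk35
    interval_cases k <;> revert hk35 <;> decide
  have hmul := S.card_mul_index
  rw [h, hk] at hmul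
  rcases hcases with rfl | rfl | rfl | rfl
  · exfalso
    have hSAi : (A.subgroupOf S).index = 2 := by
      have h1 := Subgroup.card_mul_index (A.subgroupOf S)
      have h2 : Nat.card (A.subgroupOf S) = Nat.card A :=
        Nat.card_congr (Subgroup.subgroupOfEquivOfLe hAS).toEquiv
      rw [h2, hAc, hk] at h1
      omega
    haveI hnorm : (A.subgroupOf S).Normal := Subgroup.normal_of_index_eq_two hSAi
    have hconjA : ∀ s ∈ S, ∀ a ∈ A, s * a * s⁻¹ ∈ A := by
      intro s hs a ha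
      have h1 := hnorm.conj_mem ⟨a, hAS ha⟩ (Subgroup.mem_subgroupOf.mpr ha) ⟨s, hs⟩
      exact Subgroup.mem_subgroupOf.mp h1
    have hPn : ∀ a ∈ A, ∀ p ∈ (P : Subgroup G), a * p * a⁻¹ ∈ (P : Subgroup G) :=
      fun a ha p hp => (Subgroup.mem_normalizer_iff.mp ha p).mp hp
    have hb : (P : Subgroup G) ⊓ Subgroup.zpowers u = ⊥ := by
      rw [eq_bot_iff]
      rintro x ⟨h1, h2⟩
      have h4 : x ^ 4 = 1 := pow4 (by rw [Nat.card_zpowers, huo]) h2
      simp [eq_one_of_pow49 h4 (pow9 hPc h1)]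
    have hc : Nat.card A ≤ Nat.card (P : Subgroup G) * Nat.card (Subgroup.zpowers u) := by
      rw [hAc, hPc, Nat.card_zpowers, huo]
    have key : ∀ s ∈ S, ∀ p ∈ (P : Subgroup G), s * p * s⁻¹ ∈ (P : Subgroup G) := by
      intro s hs p hp
      refine mem_of_pow9 hPA hPn hD.u4 hc huA hb (hconjA s hs p (hPA hp)) ?_
      rw [conj_pow, pow9 hPc hp]
      simp
    have hSA : S ≤ A := by
      intro s hs
      rw [hAdef, Subgroup.mem_normalizer_iff]
      intro p
      constructor
      · exact key s hs p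
      · intro h1
        have h2 := key s⁻¹ (S.inv_mem hs) _ h1
        simpa [mul_assoc] using h2
    have h3 : Nat.card S ≤ Nat.card A := Subgroup.card_le_of_le hSA
    rw [hk, hAc] at h3
    omega
  · exact ⟨S, hSne, by omega⟩
  · exfalso
    exact Cfsg.Agent.Lib.Small.Ord5040.false_of_small_index hG S hSne (d := 5) (by omega)
      (by norm_num) (by rw [h]; decide) (by rw [h]; decide)
  · exfalso
    exact hSne (Subgroup.eq_top_of_card_eq _ (by rw [hk, h]))

end Cfsg.Agent.Lib.Small.A7Main
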