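/-
Recognition of PSL(2,K) for a torus acting regularly on the non-zero elements of `K`: a finite
check on candidates with one orbit.
-/
import Cfsg.Agent.Lib.Small.PSL2Label

set_option autoImplicit false
set_option linter.unusedSectionVars false

namespace Cfsg.Agent.Lib.Small.PSL2Check1

open OnePoint Cfsg.Agent.Lib.Small.PSL2Act Cfsg.Agent.Lib.Small.PSL2Check

universe u v w

section check

/-- Test of a candidate, one orbit. -/
def testCand1 (addN mulN : ℕ → ℕ → ℕ) (negN : ℕ → ℕ) (a₀ r₁ e L : ℕ) (nz sq : List ℕ)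
    (a₁ c₁ : ℕ) : Bool :=
  withNat (pack mulN a₀ a₁ L r₁ c₁ 0) fun T =>
  verify mulN T a₀ a₁ L r₁ c₁ &&
  (!(nz.all (passAt addN mulN negN (digit T) nz sq e)) || !(injTest (digit T) nz) ||
    concl mulN negN (digit T) nz sq c₁)

/-- The full finite check, one orbit. -/
def checkOne (addN mulN : ℕ → ℕ → ℕ) (negN : ℕ → ℕ) (a₀ r₁ e L : ℕ) (nz sq A1s : List ℕ) : Bool :=
  A1s.all (fun a₁ => nz.all (fun c₁ => testCand1 addN mulN negN a₀ r₁ e L nz sq a₁ c₁))

variable {K : Type v} [Field K] {code : K → ℕ} {addN mulN : ℕ → ℕ → ℕ} {negN : ℕ → ℕ}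

/-- Soundness of the check. -/
theorem check_sound1 (hC : IsCode code addN mulN negN) {a₀ r₁ e : K} {L : ℕ} {nz sq A1s : List ℕ}
    (hcheck : checkOne addN mulN negN (code a₀) (code r₁) (code e) L nz sq A1s = true)
    (hnz : ∀ i : K, i ≠ 0 → code i ∈ nz) (hnz0 : ∀ n ∈ nz, ∃ i : K, i ≠ 0 ∧ code i = n)
    (hsq : ∀ s : K, s ≠ 0 → code (s ^ 2) ∈ sq)
    (hkeys : ∀ n ∈ nz, n ∈ keysN mulN (code a₀) L (code r₁))
    (ha₀ : a₀ ≠ 0) (hr₁ : r₁ ≠ 0) (he0 : e ≠ 0) (he1 : e ≠ 1)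
    (F : K → K) (hF0 : ∀ i, i ≠ 0 → F i ≠ 0)
    (hFinj : ∀ i j, i ≠ 0 → j ≠ 0 → F i = F j → i = j)
    (a₁ : K) (ha₁ : code a₁ ∈ A1s) (hF1 : ∀ i, i ≠ 0 → F (a₀ * i) = a₁ * F i)
    (hF2 : ∀ i, i ≠ 0 → ∃ s, s ≠ 0 ∧ ∀ j, j ≠ 0 → i + j ≠ 0 →
      F (F (i + j) - F i) = s ^ 2 * F j + F (-(F i))) :
    ∃ c, code (-c) ∈ sq ∧ ∀ i, i ≠ 0 → F i * i = c := by
  have hc1 : code (F r₁) ∈ nz := hnz _ (hF0 _ hr₁)
  simp only [checkOne, List.all_eq_true] at hcheck
  have h := hcheck _ ha₁ _ hc1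
  simp only [testCand1, withNat_eq, Bool.and_eq_true] at h
  obtain ⟨hv1, h⟩ := h
  set T := pack mulN (code a₀) (code a₁) L (code r₁) (code (F r₁)) 0 with hT
  have hG : ∀ i : K, i ≠ 0 → digit T (code i) = code (F i) := by
    intro i hi
    exact verify_sound hC F a₀ a₁ hF1 ha₀ T L r₁ _ hr₁ rfl hv1 i (hkeys _ (hnz i hi))
  simp only [Bool.or_eq_true, Bool.not_eq_eq_eq_not, Bool.not_true] at h
  have hpass : nz.all (passAt addN mulN negN (digit T) nz sq (code e)) = true := by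
    rw [List.all_eq_true]
    intro n hn
    obtain ⟨i, hi, rfl⟩ := hnz0 n hn
    obtain ⟨s, hs, hS⟩ := hF2 i hi
    exact passAt_true hC F T hnz0 hsq he0 he1 hG hF0 hFinj i hi s hs hS
  have hinjt : injTest (digit T) nz = true := by
    simp only [injTest, Bool.and_eq_true, List.all_eq_true, Bool.or_eq_true]
    refine ⟨fun n hn => ?_, fun n hn m hm => ?_⟩
    · obtain ⟨i, hi, rfl⟩ := hnz0 n hn
      rw [hG i hi, ← hC.zero, nat_beq_code_false hC (hF0 i hi)]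
      rfl
    · obtain ⟨i, hi, rfl⟩ := hnz0 n hn
      obtain ⟨j, hj, rfl⟩ := hnz0 m hm
      rw [hG i hi, hG j hj]
      by_cases hij : F i = F j
      · right
        exact (nat_beq_code_true hC).mpr (hFinj i j hi hj hij)
      · left
        rw [nat_beq_code_false hC hij]
        rfl
  rcases h with (h | h) | h
  · rw [hpass] at h
    exact absurd h (by simp)
  · rw [hinjt] at h
    exact absurd h (by simp)
  · simp only [concl, Bool.and_eq_true, List.all_eq_true, List.contains_iff_mem] at h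
    refine ⟨F r₁, ?_, fun i hi => ?_⟩
    · rw [hC.neg]
      exact h.2
    · have := h.1 _ (hnz i hi)
      rw [hG i hi, ← hC.mul, nat_beq_code_true hC] at this
      exact this

end check

section action

variable {K : Type v} [Field K] {G : Type u} [Group G]

/-- Existence of the Weyl element from a soundness statement on the possible actions of a swap. -/
theorem exists_weyl_abstract {a₀ : K} (ha₀ : a₀ ≠ 0)
    (hsound : ∀ F : K → K, (∀ i, i ≠ 0 → F i ≠ 0) →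
      (∀ i j, i ≠ 0 → j ≠ 0 → F i = F j → i = j) →
      ∀ s₁ : K, s₁ ≠ 0 → (∀ i, i ≠ 0 → F (a₀ * i) = s₁ ^ 2 * F i) →
      (∀ i, i ≠ 0 → ∃ s, s ≠ 0 ∧ ∀ j, j ≠ 0 → i + j ≠ 0 →
        F (F (i + j) - F i) = s ^ 2 * F j + F (-(F i))) →
      ∃ (c : K) (k : ℕ), -c = a₀ ^ k ∧ ∀ i, i ≠ 0 → F i * i = c)
    (ρ : G →* Equiv.Perm (OnePoint K))
    (hτ : ∀ b : K, ∃ g, ρ g ∞ = ∞ ∧ ∀ i : K, ρ g i = ((i + b : K) : OnePoint K))
    (hμ : ∃ h, ρ h ∞ = ∞ ∧ ∀ i : K, ρ h i = ((a₀ * i : K) : OnePoint K))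
    (hStab : ∀ g, ρ g ∞ = ∞ →
      ∃ s b : K, s ≠ 0 ∧ ∀ i : K, ρ g i = ((s ^ 2 * i + b : K) : OnePoint K))
    (htrans : ∃ g, ρ g ∞ = ((0 : K) : OnePoint K)) :
    ∃ g, ρ g ∞ = ((0 : K) : OnePoint K) ∧ ρ g ((0 : K) : OnePoint K) = ∞ ∧
      ∀ i : K, i ≠ 0 → ρ g i = ((-1 / i : K) : OnePoint K) := by
  obtain ⟨t, htI, ht0⟩ := exists_swap ρ hτ htrans
  obtain ⟨h, hhI, hhi⟩ := hμ
  set F : K → K := toFun' (ρ t) with hFdef
  have hneI : ∀ i : K, i ≠ 0 → ρ t (i : OnePoint K) ≠ ∞ := by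
    intro i hi hc
    apply hi
    have : ρ t (i : OnePoint K) = ρ t ((0 : K) : OnePoint K) := by rw [hc, ht0]
    exact OnePoint.coe_eq_coe.mp ((ρ t).injective this)
  have hFcoe : ∀ i : K, i ≠ 0 → ρ t (i : OnePoint K) = ((F i : K) : OnePoint K) := by
    intro i hi
    have h1 := hneI i hi
    rcases hv : ρ t (i : OnePoint K) with _ | v
    · exact absurd hv h1
    · simp only [hFdef, toFun', hv]
      rfl
  have hF0 : ∀ i, i ≠ 0 → F i ≠ 0 := by
    intro i hi hc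
    have h1 := hFcoe i hi
    rw [hc, ← htI] at h1
    exact OnePoint.coe_ne_infty _ ((ρ t).injective h1)
  have hFinj : ∀ i j, i ≠ 0 → j ≠ 0 → F i = F j → i = j := by
    intro i j hi hj hij
    have h1 : ρ t (i : OnePoint K) = ρ t (j : OnePoint K) := by
      rw [hFcoe i hi, hFcoe j hj, hij]
    exact OnePoint.coe_eq_coe.mp ((ρ t).injective h1)
  have hinvI : ρ t⁻¹ ∞ = ((0 : K) : OnePoint K) := by
    rw [map_inv, Equiv.Perm.inv_eq_iff_eq, ht0]
  have hinv0 : ρ t⁻¹ ((0 : K) : OnePoint K) = ∞ := by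
    rw [map_inv, Equiv.Perm.inv_eq_iff_eq, htI]
  have hinvF : ∀ i : K, i ≠ 0 → ρ t⁻¹ ((F i : K) : OnePoint K) = (i : OnePoint K) := by
    intro i hi
    rw [map_inv, Equiv.Perm.inv_eq_iff_eq, hFcoe i hi]
  -- normaliser of the torus
  have hg1 : ρ (t * h * t⁻¹) ∞ = ∞ := by
    rw [map_mul, map_mul, Equiv.Perm.mul_apply, Equiv.Perm.mul_apply, hinvI, hhi, mul_zero, ht0]
  obtain ⟨s₁, b₁, hs₁, hg1'⟩ := hStab _ hg1
  have hg10 : ρ (t * h * t⁻¹) ((0 : K) : OnePoint K) = ((0 : K) : OnePoint K) := by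
    rw [map_mul, map_mul, Equiv.Perm.mul_apply, Equiv.Perm.mul_apply, hinv0, hhI, htI]
  have hb₁ : b₁ = 0 := by
    have h1 := hg1' 0
    rw [hg10] at h1
    have h2 := OnePoint.coe_eq_coe.mp h1
    simpa using h2.symm
  subst hb₁
  have hF1 : ∀ i, i ≠ 0 → F (a₀ * i) = s₁ ^ 2 * F i := by
    intro i hi
    have h1 := hg1' (F i)
    rw [map_mul, map_mul, Equiv.Perm.mul_apply, Equiv.Perm.mul_apply, hinvF i hi, hhi,
      hFcoe _ (mul_ne_zero ha₀ hi)] at h1
    simpa using OnePoint.coe_eq_coe.mp h1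
  -- double cosets
  have hF2 : ∀ i, i ≠ 0 → ∃ s, s ≠ 0 ∧ ∀ j, j ≠ 0 → i + j ≠ 0 →
      F (F (i + j) - F i) = s ^ 2 * F j + F (-(F i)) := by
    intro i hi
    obtain ⟨u₁, hu₁I, hu₁⟩ := hτ (-(F i))
    obtain ⟨u₂, hu₂I, hu₂⟩ := hτ i
    have hgI : ρ (t * u₁ * t * u₂ * t⁻¹) ∞ = ∞ := by
      simp only [map_mul, Equiv.Perm.mul_apply]
      rw [hinvI, hu₂, zero_add, hFcoe i hi, hu₁, add_neg_cancel, ht0]
    obtain ⟨s, b, hs, hS⟩ := hStab _ hgI
    have hg0 : ρ (t * u₁ * t * u₂ * t⁻¹) ((0 : K) : OnePoint K) =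
        ((F (-(F i)) : K) : OnePoint K) := by
      simp only [map_mul, Equiv.Perm.mul_apply]
      rw [hinv0, hu₂I, htI, hu₁, zero_add, hFcoe _ (neg_ne_zero.mpr (hF0 i hi))]
    have hb : b = F (-(F i)) := by
      have h1 := hS 0
      rw [hg0] at h1
      have h2 := OnePoint.coe_eq_coe.mp h1
      simpa using h2.symm
    refine ⟨s, hs, fun j hj hij => ?_⟩
    have h1 := hS (F j)
    have hne : F (i + j) - F i ≠ 0 := by
      intro h0
      have := hFinj _ _ hij hi (sub_eq_zero.mp h0)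
      exact hj (by simpa using this)
    have hadd : j + i = i + j := add_comm j i
    simp only [map_mul, Equiv.Perm.mul_apply] at h1
    rw [hinvF j hj, hu₂, hadd, hFcoe _ hij, hu₁, ← sub_eq_add_neg, hFcoe _ hne, hb] at h1
    exact OnePoint.coe_eq_coe.mp h1
  obtain ⟨c, k, hk, hFc⟩ := hsound F hF0 hFinj s₁ hs₁ hF1 hF2
  -- powers of the torus element
  have hpowI : ∀ n : ℕ, ρ (h ^ n) ∞ = ∞ := by
    intro n
    induction n with
    | zero => simp
    | succ n ih => rw [pow_succ, map_mul, Equiv.Perm.mul_apply, hhI, ih]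
  have hpowi : ∀ (n : ℕ) (i : K), ρ (h ^ n) (i : OnePoint K) = ((a₀ ^ n * i : K) : OnePoint K) := by
    intro n
    induction n with
    | zero => simp
    | succ n ih =>
      intro i
      rw [pow_succ, map_mul, Equiv.Perm.mul_apply, hhi, ih, pow_succ, mul_assoc]
  refine ⟨(h ^ k)⁻¹ * t, ?_, ?_, ?_⟩
  · rw [map_mul, Equiv.Perm.mul_apply, htI, map_inv, Equiv.Perm.inv_eq_iff_eq, hpowi, mul_zero]
  · rw [map_mul, Equiv.Perm.mul_apply, ht0, map_inv, Equiv.Perm.inv_eq_iff_eq, hpowI]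
  · intro i hi
    rw [map_mul, Equiv.Perm.mul_apply, hFcoe i hi, map_inv, Equiv.Perm.inv_eq_iff_eq, hpowi, ← hk]
    congr 1
    have h1 := hFc i hi
    field_simp
    linear_combination h1

/-- **Recognition of `PSL(2,K)`** from an action on a set `Ω`, labelled by `K ∪ {∞}` using a group
of translations `τ` and a torus generated by `h`, given a soundness statement. -/
theorem recognition_labeled_abstract {Ω : Type w} [MulAction G Ω] {a₀ : K} (ha₀ : a₀ ≠ 0)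
    (hsound : ∀ F : K → K, (∀ i, i ≠ 0 → F i ≠ 0) →
      (∀ i j, i ≠ 0 → j ≠ 0 → F i = F j → i = j) →
      ∀ s₁ : K, s₁ ≠ 0 → (∀ i, i ≠ 0 → F (a₀ * i) = s₁ ^ 2 * F i) →
      (∀ i, i ≠ 0 → ∃ s, s ≠ 0 ∧ ∀ j, j ≠ 0 → i + j ≠ 0 →
        F (F (i + j) - F i) = s ^ 2 * F j + F (-(F i))) →
      ∃ (c : K) (k : ℕ), -c = a₀ ^ k ∧ ∀ i, i ≠ 0 → F i * i = c)
    (hfaith : ∀ g : G, (∀ w : Ω, g • w = w) → g = 1)
    (I O : Ω) (hOI : O ≠ I) (τ : K → G)
    (hadd : ∀ x y, τ (x + y) = τ x * τ y)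
    (hτI : ∀ x, τ x • I = I)
    (hτO : ∀ x, τ x • O = O → x = 0)
    (hτs : ∀ w, w ≠ I → ∃ x, τ x • O = w)
    (h : G) (hI : h • I = I) (hO : h • O = O) (hτh : ∀ x, h * τ x * h⁻¹ = τ (a₀ * x))
    (htor : ∀ g : G, g • I = I → g • O = O → ∃ k : ℕ, g = h ^ k)
    (hsqs : ∀ k : ℕ, ∃ s : K, s ≠ 0 ∧ a₀ ^ k = s ^ 2)
    (htr : ∃ g : G, g • I = O) :
    Nonempty (G ≃* Matrix.ProjectiveSpecialLinearGroup (Fin 2) K) := by
  classical
  have hτ0 : τ 0 = 1 := by
    have := hadd 0 0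
    rw [add_zero] at this
    exact (mul_eq_left.mp this.symm)
  have hτneg : ∀ x, τ (-x) = (τ x)⁻¹ := by
    intro x
    have := hadd (-x) x
    rw [neg_add_cancel, hτ0] at this
    exact eq_inv_of_mul_eq_one_left this.symm
  let ι : OnePoint K → Ω := fun z => z.elim I (fun i => τ i • O)
  have hιI : ι ∞ = I := rfl
  have hιc : ∀ i : K, ι (i : OnePoint K) = τ i • O := fun i => rfl
  have hιP : ∀ i : K, ι (i : OnePoint K) ≠ I := by
    intro i hi
    rw [hιc] at hi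
    apply hOI
    have h1 := congrArg (fun V => (τ i)⁻¹ • V) hi
    simp only [inv_smul_smul] at h1
    rw [h1, ← hτneg, hτI]
  have hιinj : Function.Injective ι := by
    intro a b hab
    induction a using OnePoint.rec with
    | infty =>
      induction b using OnePoint.rec with
      | infty => rfl
      | coe j => exact absurd hab.symm (hιP j)
    | coe i =>
      induction b using OnePoint.rec with
      | infty => exact absurd hab (hιP i)
      | coe j =>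
        rw [hιc, hιc] at hab
        have h2 : τ (i - j) • O = O := by
          rw [sub_eq_neg_add, hadd, hτneg, mul_smul, hab, inv_smul_smul]
        have h3 := hτO _ h2
        rw [sub_eq_zero.mp h3]
  have hιsurj : Function.Surjective ι := by
    intro w
    by_cases hw : w = I
    · exact ⟨∞, hw.symm⟩
    · obtain ⟨x, hx⟩ := hτs w hw
      exact ⟨(x : OnePoint K), hx⟩
  let E : OnePoint K ≃ Ω := Equiv.ofBijective ι ⟨hιinj, hιsurj⟩
  let ρ : G →* Equiv.Perm (OnePoint K) :=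
    (Equiv.permCongrHom E.symm).toMonoidHom.comp (MulAction.toPermHom G Ω)
  have hρ : ∀ (g : G) (z : OnePoint K), ι (ρ g z) = g • ι z := by
    intro g z
    change E (E.symm (g • E z)) = g • ι z
    rw [Equiv.apply_symm_apply]
    rfl
  have hinj : Function.Injective ρ := by
    rw [injective_iff_map_eq_one]
    intro g hg
    apply hfaith
    intro w
    obtain ⟨z, rfl⟩ := hιsurj w
    rw [← hρ, hg]
    rfl
  have hτ' : ∀ b : K, ∃ g, ρ g ∞ = ∞ ∧ ∀ i : K, ρ g i = ((i + b : K) : OnePoint K) := by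
    intro b
    refine ⟨τ b, hιinj ?_, fun i => hιinj ?_⟩
    · rw [hρ, hιI, hτI]
    · rw [hρ, hιc, hιc, ← mul_smul, ← hadd, add_comm]
  have hconj : ∀ (k : ℕ) (x : K), h ^ k * τ x * (h ^ k)⁻¹ = τ (a₀ ^ k * x) := by
    intro k
    induction k with
    | zero => simp
    | succ n ih =>
      intro x
      have h1 : h ^ (n + 1) * τ x * (h ^ (n + 1))⁻¹ = h * (h ^ n * τ x * (h ^ n)⁻¹) * h⁻¹ := by
        rw [pow_succ']
        group
      rw [h1, ih, hτh]
      congr 1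
      ring
  have hpowO : ∀ k : ℕ, h ^ k • O = O := by
    intro k
    induction k with
    | zero => simp
    | succ n ih => rw [pow_succ', mul_smul, ih, hO]
  have hμ : ∃ g, ρ g ∞ = ∞ ∧ ∀ i : K, ρ g i = ((a₀ * i : K) : OnePoint K) := by
    refine ⟨h, hιinj ?_, fun i => hιinj ?_⟩
    · rw [hρ, hιI, hI]
    · rw [hρ, hιc, hιc, ← hτh, mul_smul, mul_smul, inv_smul_eq_iff.mpr hO.symm]
  have hStab : ∀ g, ρ g ∞ = ∞ →
      ∃ s b : K, s ≠ 0 ∧ ∀ i : K, ρ g i = ((s ^ 2 * i + b : K) : OnePoint K) := by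
    intro g hg
    have hgI : g • I = I := by
      have h1 := hρ g ∞
      rw [hg] at h1
      exact h1.symm
    have hgO : g • O ≠ I := by
      intro h1
      apply hOI
      have h2 := congrArg (fun V => g⁻¹ • V) h1
      simp only [inv_smul_smul] at h2
      rw [h2, inv_smul_eq_iff, hgI]
    obtain ⟨b, hb⟩ := hτs _ hgO
    obtain ⟨k, hk⟩ := htor ((τ b)⁻¹ * g) (by
      rw [mul_smul, hgI, inv_smul_eq_iff, hτI]) (by
      rw [mul_smul, ← hb, inv_smul_smul])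
    have hgk : g = τ b * h ^ k := by
      rw [← hk]
      group
    obtain ⟨s, hs, hsk⟩ := hsqs k
    refine ⟨s, b, hs, fun i => hιinj ?_⟩
    have h2 : τ (a₀ ^ k * i) * h ^ k = h ^ k * τ i := by
      rw [← hconj]
      group
    rw [hρ, hιc, hιc, hgk, ← hsk, add_comm, hadd, mul_smul, mul_smul, ← mul_smul (h ^ k), ← h2,
      mul_smul, hpowO]
  have htrans : ∃ g, ρ g ∞ = ((0 : K) : OnePoint K) := by
    obtain ⟨g, hg⟩ := htr
    refine ⟨g, hιinj ?_⟩
    rw [hρ, hιI, hg, hιc, hτ0, one_smul]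
  exact nonempty_mulEquiv_PSL ρ hinj hτ'
    (exists_weyl_abstract ha₀ hsound ρ hτ' hμ hStab htrans) hStab

end action

end Cfsg.Agent.Lib.Small.PSL2Check1
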