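/-
The field with eight elements, concretely, with a coding in natural numbers.
-/
import Cfsg.Agent.Lib.Small.PSL2Check1

set_option autoImplicit false

namespace Cfsg.Agent.Lib.Small.F8

/-- The field with eight elements `ZMod 2 [y]`, `y³ = y + 1`. -/
@[ext] structure Feight where
  a : ZMod 2
  b : ZMod 2
  c : ZMod 2
  deriving DecidableEq

namespace Feight

/-- Equivalence with triples. -/
def equivProd : Feight ≃ ZMod 2 × ZMod 2 × ZMod 2 where
  toFun x := (x.a, x.b, x.c)
  invFun x := ⟨x.1, x.2.1, x.2.2⟩
  left_inv _ := rfl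
  right_inv _ := rfl

instance : Fintype Feight := Fintype.ofEquiv _ equivProd.symm

instance : Zero Feight := ⟨⟨0, 0, 0⟩⟩
instance : One Feight := ⟨⟨1, 0, 0⟩⟩
instance : Add Feight := ⟨fun x y => ⟨x.a + y.a, x.b + y.b, x.c + y.c⟩⟩
instance : Neg Feight := ⟨fun x => x⟩
instance : Mul Feight := ⟨fun x y =>
  ⟨x.a * y.a + x.b * y.c + x.c * y.b,
   x.a * y.b + x.b * y.a + x.b * y.c + x.c * y.b + x.c * y.c,
   x.a * y.c + x.b * y.b + x.c * y.a + x.c * y.c⟩⟩

instance instCommRing : CommRing Feight where
  add_assoc := by decide +kernel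
  zero_add := by decide +kernel
  add_zero := by decide +kernel
  add_comm := by decide +kernel
  neg_add_cancel := by decide +kernel
  mul_assoc := by decide +kernel
  one_mul := by decide +kernel
  mul_one := by decide +kernel
  mul_comm := by decide +kernel
  left_distrib := by decide +kernel
  right_distrib := by decide +kernel
  zero_mul := by decide +kernel
  mul_zero := by decide +kernel
  nsmul := nsmulRec
  zsmul := zsmulRec

/-- Inverse: `x⁻¹ = x ^ 6`. -/
instance : Inv Feight := ⟨fun x => x ^ 6⟩

instance instField : Field Feight where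
  exists_pair_ne := ⟨0, 1, by decide +kernel⟩
  mul_inv_cancel := by decide +kernel
  inv_zero := by decide +kernel
  nnqsmul := _
  qsmul := _

theorem card_eq : Fintype.card Feight = 8 := by decide +kernel

/-- The coding. -/
def code (x : Feight) : ℕ := x.a.val + 2 * x.b.val + 4 * x.c.val

/-- Addition on codes. -/
def addN (x y : ℕ) : ℕ := x ^^^ y
/-- Multiplication on codes. -/
def mulN (x y : ℕ) : ℕ :=
  let a := x % 2
  let b := x / 2 % 2
  let c := x / 4 % 2
  let d := y % 2
  let e := y / 2 % 2
  let f := y / 4 % 2
  (a * d + b * f + c * e) % 2 + 2 * ((a * e + b * d + b * f + c * e + c * f) % 2) +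
    4 * ((a * f + b * e + c * d + c * f) % 2)
/-- Negation on codes. -/
def negN (x : ℕ) : ℕ := x

theorem isCode : PSL2Check.IsCode code addN mulN negN where
  inj := by decide +kernel
  add := by decide +kernel
  mul := by decide +kernel
  neg := by decide +kernel
  zero := by decide +kernel
  one := by decide +kernel

/-- The generator `y`. -/
def y : Feight := ⟨0, 1, 0⟩

end Feight

end Cfsg.Agent.Lib.Small.F8
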