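/-
Small simple groups: the order `4032`.
-/
import Cfsg.Agent.Lib.Small.PermTools
import Cfsg.Agent.Lib.Small.ExcTwo

set_option autoImplicit false
set_option linter.unusedSectionVars false
set_option linter.unusedVariables false

namespace Cfsg.Agent.Lib.Small.Ord4032

open Cfsg.Agent.Lib.Small.Basic Cfsg.Agent.Lib.Small.Sieve Cfsg.Agent.Lib.Small.TI
  Cfsg.Agent.Lib.Small.TI2 Cfsg.Agent.Lib.Small.TI3 Cfsg.Agent.Lib.Small.Low1
  Cfsg.Agent.Lib.Small.Low5 Cfsg.Agent.Lib.Small.PermTools Cfsg.Agent.Lib.Small.ExcTwo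

universe u

variable {G : Type u} [Group G] [Finite G] [IsSimpleGroup G]

instance fact_prime_seven : Fact (Nat.Prime 7) := ⟨by norm_num⟩
instance fact_prime_three : Fact (Nat.Prime 3) := ⟨by norm_num⟩

theorem exists_K (hG : ¬ IsMulCommutative G) (h : Nat.card G = 4032) :
    ∃ K : Subgroup G, K ≠ ⊤ ∧ (K.index = 9 ∨ K.index = 21) := by
  have h2 := card_sylow_mem_candidates (G := G) (p := 2) (k := 6) (m := 63) hG h
    (by norm_num) (by norm_num) (by norm_num)
  have hc2 : candidates 4032 2 6 63 = [9, 21, 63] := by decide +kernel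
  rw [hc2] at h2
  obtain ⟨S⟩ : Nonempty (Sylow 2 G) := inferInstance
  have hS : ∀ i, Nat.card (Sylow 2 G) = i → i ≠ 1 →
      Subgroup.normalizer ((S : Subgroup G) : Set G) ≠ ⊤ := by
    intro i hi hi1 htop
    have h3 := index_normalizer S
    rw [htop, Subgroup.index_top, hi] at h3
    exact hi1 h3.symm
  simp only [List.mem_cons, List.not_mem_nil, or_false] at h2
  rcases h2 with h9 | h21 | h63
  · exact ⟨_, hS 9 h9 (by norm_num), Or.inl ((index_normalizer S).trans h9)⟩
  · exact ⟨_, hS 21 h21 (by norm_num), Or.inr ((index_normalizer S).trans h21)⟩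
  · obtain ⟨P, R, K, -, hK, -, -, hi⟩ := exists_idxCand (G := G) (p := 2) (k := 6) (m := 63) hG
      (by rw [h]; norm_num) (by norm_num) (by norm_num) (by rw [h63]; decide)
    have hc3 : idxCand (2 ^ 6 * 63) 2 63 = [9, 21] := by decide +kernel
    rw [hc3] at hi
    simp only [List.mem_cons, List.not_mem_nil, or_false] at hi
    exact ⟨K, hK, hi⟩

theorem false_9 (hG : ¬ IsMulCommutative G) (h : Nat.card G = 4032) (K : Subgroup G) (hK : K ≠ ⊤)
    (hi : K.index = 9) : False := by
  have hprim := isPreprimitive_of_index hG K hK (by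
    rw [hi, h]
    intro d hd h1 h2 hdvd
    interval_cases d <;> revert hd hdvd <;> decide)
  exact false_of_bochert K hK hprim (by rw [hi, h]; decide) (by rw [hi, h]; decide)

theorem card_K (h : Nat.card G = 4032) (K : Subgroup G) (hi : K.index = 21) : Nat.card K = 192 := by
  have h1 := K.card_mul_index
  rw [hi, h] at h1
  omega

theorem false_21_36 (hG : ¬ IsMulCommutative G) (h : Nat.card G = 4032) (K : Subgroup G)
    (hi : K.index = 21) (h7 : Nat.card (Sylow 7 G) = 36) : False := by
  obtain ⟨y, z, hy, hz, hc'⟩ := exists_commuting hG (N := 4032) (p := 7) (m := 576) (n := 36) h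
    (by norm_num) (by norm_num) h7 (by
      intro r hr hr1 hr2
      have hr3 : r ∣ 16 := by simpa using hr2
      have hr4 : r ∣ 6 := by simpa using hr
      have hr5 : r ∣ Nat.gcd 16 6 := Nat.dvd_gcd hr3 hr4
      have hr6 : r = 2 := by
        have : r ∣ 2 := by simpa using hr5
        rcases (Nat.dvd_prime (by norm_num)).mp this with h1 | h1
        · exact absurd h1 hr1
        · exact h1
      subst hr6
      norm_num)
  have hK21 : fixOK 21 7 (decide (7 ∣ 4032 / 21)) = false := by decide +kernel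
  exact false_of_index hG h K hi (by norm_num) hy hz hc' hK21

theorem false_21_64 (hG : ¬ IsMulCommutative G) (h : Nat.card G = 4032) (K : Subgroup G) (hK : K ≠ ⊤)
    (hi : K.index = 21) (h7 : Nat.card (Sylow 7 G) = 64) : False := by
  have hcard : ∀ U : Sylow 7 G, Nat.card U = 7 := by
    intro U
    simpa using card_sylow_eq (p := 7) (k := 1) (m := 576) (by rw [h]; norm_num) (by norm_num) U
  obtain ⟨r, hr, hr1, hN, -⟩ := exists_card_multiples hG (p := 7) (by rw [h]; norm_num) hcard
  obtain ⟨Q⟩ : Nonempty (Sylow 7 G) := inferInstance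
  have hNc := card_normalizer_mul Q
  rw [hN Q, h7, h] at hNc
  have hC63 : Nat.card (Subgroup.centralizer ((Q : Subgroup G) : Set G)) * r = 63 := by omega
  have hr3 : r = 3 := by
    have h1 : r ∣ 63 := Dvd.intro_left _ hC63
    have h2 : r ∣ Nat.gcd 63 6 := Nat.dvd_gcd h1 (by simpa using hr)
    have h3 : r ∣ 3 := by simpa using h2
    rcases (Nat.dvd_prime (by norm_num)).mp h3 with h4 | h4
    · exact absurd h4 hr1
    · exact h4
  subst hr3
  have hC : Nat.card (Subgroup.centralizer ((Q : Subgroup G) : Set G)) = 21 := by omega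
  obtain ⟨x, hx⟩ := exists_prime_orderOf_dvd_card' (G := Subgroup.centralizer ((Q : Subgroup G) : Set G)) 3
    (by rw [hC]; norm_num)
  have hxG : orderOf (x : G) = 3 := by rw [Subgroup.orderOf_coe, hx]
  obtain ⟨y, hy⟩ := exists_prime_orderOf_dvd_card' (G := (Q : Subgroup G)) 7 (by rw [hcard Q])
  have hyG : orderOf (y : G) = 7 := by rw [Subgroup.orderOf_coe, hy]
  have hcomm : (y : G) * (x : G) = (x : G) * (y : G) :=
    (Subgroup.mem_centralizer_iff.mp x.2) y y.2
  have hprim := isPreprimitive_of_index hG K hK (by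
    rw [hi, h]
    intro d hd h1 h2 hdvd
    interval_cases d <;> revert hd hdvd <;> decide)
  exact false_of_commuting (p := 7) (q := 3) (by norm_num) K hK (by rw [hi]) hprim hyG hxG hcomm
    (fix_coset_of_not_dvd hyG (by rw [card_K h K hi]; norm_num)) (by rw [h]; norm_num)

theorem num_a : ∀ d ∈ List.range 4033, d ∣ 4032 → 2 ≤ d → (d + 1) ∣ 4032 → d % 7 = 1 → d = 8 := by
  decide +kernel

theorem num_b : ∀ d ∈ List.range 4033, d ∣ 4032 → 2 ≤ d → (d - 1) ∣ 4032 → (d + 1) % 7 = 0 → False := by
  decide +kernel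

theorem false_21_288 (hG : ¬ IsMulCommutative G) (h : Nat.card G = 4032) (K : Subgroup G) (hK : K ≠ ⊤)
    (hi : K.index = 21) (h7 : Nat.card (Sylow 7 G) = 288) : False := by
  have hcard : ∀ U : Sylow 7 G, Nat.card U = 7 := by
    intro U
    simpa using card_sylow_eq (p := 7) (k := 1) (m := 576) (by rw [h]; norm_num) (by norm_num) U
  obtain ⟨Q⟩ : Nonempty (Sylow 7 G) := inferInstance
  have hNc := card_normalizer_mul Q
  rw [h7, h] at hNc
  have hNQ : Nat.card (Subgroup.normalizer ((Q : Subgroup G) : Set G)) = 7 * 2 := by omega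
  have hK192 := card_K h K hi
  have hf : ∀ u : G, u ∈ (Q : Subgroup G) → u ≠ 1 → Nat.card (MulAction.fixedBy (G ⧸ K) u) = 0 := by
    intro u hu hu1
    have hou : orderOf u = 7 := by
      have h1 : orderOf u ∣ 7 := by
        rw [← hcard Q]
        exact Subgroup.orderOf_dvd_natCard _ hu
      rcases (Nat.dvd_prime (by norm_num)).mp h1 with h2 | h2
      · exact absurd (orderOf_eq_one_iff.mp h2) hu1
      · exact h2
    have hno := fix_coset_of_not_dvd (K := K) hou (by rw [hK192]; norm_num)
    have : IsEmpty (MulAction.fixedBy (G ⧸ K) u) := ⟨fun a => hno a.1 a.2⟩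
    exact Nat.card_of_isEmpty
  obtain ⟨t, d, D₀, z, ε, m', mν, ht, hz, hε, hd2, hd, hD, hD0, hrel, hc1, hc2, hle, hkey⟩ :=
    exc_two hG (p := 7) (by norm_num) Q (hcard Q) (by rw [h]; norm_num) hNQ (Ω := G ⧸ K) 0 hf
  have ht3 : t = 3 := by omega
  subst ht3
  have hcardΩ : Nat.card (G ⧸ K) = 21 := hi
  rw [hcardΩ] at hle
  rw [h] at hd hD
  have hd4 : d ≤ 4032 := Nat.le_of_dvd (by norm_num) hd
  rcases hz with rfl | rfl <;> rcases hε with rfl | rfl
  · omega
  · -- `D₀ = d - 1`
    have h1 : D₀ = d - 1 := by omega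
    subst h1
    push_cast at hc1
    exact num_b d (List.mem_range.mpr (by omega)) hd hd2 hD (by omega)
  · -- `D₀ = d + 1`
    have h1 : D₀ = d + 1 := by omega
    subst h1
    push_cast at hc1
    have h8 := num_a d (List.mem_range.mpr (by omega)) hd hd2 hD (by omega)
    subst h8
    have h2 : ∀ i, 1 ≤ mν i := by
      intro i
      have := hkey i
      omega
    rw [Fin.sum_univ_three] at hle
    have h3 := h2 0
    have h4 := h2 1
    have h5 := h2 2
    nlinarith
  · omega

theorem false_4032 (hG : ¬ IsMulCommutative G) (h : Nat.card G = 4032) : False := by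
  obtain ⟨K, hK, hi | hi⟩ := exists_K hG h
  · exact false_9 hG h K hK hi
  · have hm := card_sylow_mem_candidates (G := G) (p := 7) (k := 1) (m := 576) hG h
      (by norm_num) (by norm_num) (by norm_num)
    have hc : candidates 4032 7 1 576 = [36, 64, 288] := by decide +kernel
    rw [hc] at hm
    simp only [List.mem_cons, List.not_mem_nil, or_false] at hm
    rcases hm with h36 | h64 | h288
    · exact false_21_36 hG h K hi h36
    · exact false_21_64 hG h K hK hi h64
    · exact false_21_288 hG h K hK hi h288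

end Cfsg.Agent.Lib.Small.Ord4032
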