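/-
Small simple groups: the order `4320`.
-/
import Cfsg.Agent.Lib.Small.ExcFilter
import Cfsg.Agent.Lib.Small.Ord1440a

set_option autoImplicit false
set_option linter.unusedSectionVars false
set_option linter.unusedVariables false

namespace Cfsg.Agent.Lib.Small.Ord4320

open Cfsg.Agent.Lib.Small.Basic Cfsg.Agent.Lib.Small.Sieve Cfsg.Agent.Lib.Small.TI
  Cfsg.Agent.Lib.Small.TI2 Cfsg.Agent.Lib.Small.TI3 Cfsg.Agent.Lib.Small.Low1
  Cfsg.Agent.Lib.Small.Low3 Cfsg.Agent.Lib.Small.Low5 Cfsg.Agent.Lib.Small.Ord1440a
open Cfsg.Agent.Lib.ExcP.Kill Cfsg.Agent.Lib.Small.BlockOne Cfsg.Agent.Lib.Small.InvOne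
  Cfsg.Agent.Lib.Small.ExcFilter Cfsg.Agent.Lib.ExcP.Gram

universe u

variable {G : Type u} [Group G] [Finite G] [IsSimpleGroup G]

/-- Sixteen Sylow `5`-subgroups and a subgroup of order `9` in the centralizer are impossible. -/
theorem false_of_sixteen (hG : ¬ IsMulCommutative G) (hcard : ∀ U : Sylow 5 G, Nat.card U = 5)
    (hn : Nat.card (Sylow 5 G) = 16) (Q : Sylow 5 G)
    (hC : 3 ^ 2 ∣ Nat.card (Subgroup.centralizer ((Q : Subgroup G) : Set G))) : False := by
  classical
  set C := Subgroup.centralizer ((Q : Subgroup G) : Set G) with hCdef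
  obtain ⟨V', hV'⟩ := Sylow.exists_subgroup_card_pow_prime (G := C) 3 (n := 2) hC
  set V := V'.map C.subtype with hVdef
  have hVcard : Nat.card V = 9 := by
    rw [hVdef, Subgroup.card_map_of_injective C.subtype_injective, hV']
    norm_num
  have hVC : V ≤ C := Subgroup.map_subtype_le V'
  have hVN : ∀ v ∈ V, v • Q = Q := by
    intro v hv
    exact Sylow.smul_eq_iff_mem_normalizer.mpr (Subgroup.centralizer_le_normalizer _ (hVC hv))
  obtain ⟨y', hy'⟩ := exists_prime_orderOf_dvd_card' (G := (Q : Subgroup G)) 5 (by rw [hcard Q])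
  have hy : orderOf (y' : G) = 5 := by rw [Subgroup.orderOf_coe, hy']
  set y : G := (y' : G) with hydef
  have hyQ : y ∈ (Q : Subgroup G) := y'.2
  have hTI := isTI_of_card_prime hcard
  have hy1 : y ≠ 1 := by
    intro h0
    rw [h0, orderOf_one] at hy
    omega
  have huniq : ∀ W : Sylow 5 G, y • W = W → W = Q := by
    intro W hW
    by_contra hne
    exact hy1 (eq_one_of_smul_eq hTI hne hyQ hW)
  have hQ5 : 5 ∣ Nat.card G := by
    rw [← hcard Q]
    exact Subgroup.card_subgroup_dvd_card _
  have hfaith := smul_faithful hG 5 hQ5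
  have hthree : ∀ w ∈ V, orderOf w = 3 → ∀ W : Sylow 5 G, W ≠ Q → w • W ≠ W := by
    intro w hw hw3 W hWQ hfix
    have hcw : y * w = w * y := ((Subgroup.mem_centralizer_iff.mp (hVC hw)) y hyQ)
    let F : Sylow 5 G → Prop := fun X => w • X = X
    have h1 := card_fix_modEq hy F (by
      intro X hX
      change w • y • X = y • X
      rw [← mul_smul, ← hcw, mul_smul, hX])
    have hv : Nat.card {X // F X ∧ y • X = X} = 1 := by
      rw [Nat.card_eq_one_iff_unique]
      refine ⟨⟨fun a b => Subtype.ext ((huniq _ a.2.2).trans (huniq _ b.2.2).symm)⟩,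
        ⟨⟨Q, hVN w hw, smul_self_of_mem Q hyQ⟩⟩⟩
    rw [hv] at h1
    have h2' := card_fix_modEq hw3 (fun _ : Sylow 5 G => True) (fun _ _ => trivial)
    have htotal : Nat.card {x : Sylow 5 G // True} = 16 := by
      rw [Nat.card_congr (Equiv.subtypeUnivEquiv (fun _ => trivial)), hn]
    have h3 : Nat.card {x : Sylow 5 G // True ∧ w • x = x} = Nat.card {x // F x} := by
      apply Nat.card_congr
      exact Equiv.subtypeEquivRight (fun x => by simp [F])
    rw [htotal, h3] at h2'
    have hw1 : w ≠ 1 := by
      intro h0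
      rw [h0, orderOf_one] at hw3
      omega
    have hle16 : Nat.card {x // F x} ≤ 16 := by
      rw [← hn]
      exact card_subtype_le _ _
    have hne16 : Nat.card {x // F x} ≠ 16 := by
      intro heq
      apply hw1
      apply hfaith
      intro W'
      have hsub : Function.Surjective (Subtype.val : {x // F x} → Sylow 5 G) := by
        have hinj : Function.Injective (Subtype.val : {x // F x} → Sylow 5 G) :=
          Subtype.val_injective
        exact ((Nat.bijective_iff_injective_and_card _).mpr ⟨hinj, by rw [heq, hn]⟩).2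
      obtain ⟨a, rfl⟩ := hsub W'
      exact a.2
    have h1' : Nat.card {x // F x} % 5 = 1 := h1
    have h2'' : 16 % 3 = Nat.card {x // F x} % 3 := h2'
    have hone : Nat.card {x // F x} = 1 := by omega
    have hu := (Nat.card_eq_one_iff_unique.mp hone).1
    have h4 : (⟨W, hfix⟩ : {x // F x}) = ⟨Q, hVN w hw⟩ := hu.elim _ _
    exact hWQ (congrArg Subtype.val h4)
  have hfree : ∀ v ∈ V, v ≠ 1 → ∀ W : Sylow 5 G, W ≠ Q → v • W ≠ W := by
    intro v hv hv1 W hWQ hfix
    have hd : orderOf v ∣ 3 ^ 2 := by
      have := orderOf_dvd_natCard (⟨v, hv⟩ : V)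
      rw [Subgroup.orderOf_mk, hVcard] at this
      exact this
    have h3d : 3 ∣ orderOf v := by
      have hne : orderOf v ≠ 1 := by
        rw [Ne, orderOf_eq_one_iff]
        exact hv1
      obtain ⟨q, hq, hqd⟩ := Nat.exists_prime_and_dvd hne
      have := (Nat.prime_dvd_prime_iff_eq hq (by norm_num)).mp (hq.dvd_of_dvd_pow (hqd.trans hd))
      rwa [this] at hqd
    have h0 : orderOf v ≠ 0 := by
      intro h0
      rw [h0] at hd
      omega
    refine hthree _ (V.pow_mem hv _) (orderOf_pow_orderOf_div h0 h3d) W hWQ ?_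
    exact (MulAction.stabilizer G W).pow_mem hfix _
  have hdiv := card_dvd_of_free V (fun W : Sylow 5 G => W ≠ Q) (by
    intro v hv W hW e
    apply hW
    rw [← hVN v hv] at e
    exact smul_left_cancel v e) hfree
  have hc15 : Nat.card {W : Sylow 5 G // W ≠ Q} = 15 := by
    have h5 := card_subtype_ne (fun _ : Sylow 5 G => True) (a := Q) trivial
    have h6 : Nat.card {x : Sylow 5 G // True} = 16 := by
      rw [Nat.card_congr (Equiv.subtypeUnivEquiv (fun _ => trivial)), hn]
    have h7 : Nat.card {x : Sylow 5 G // True ∧ x ≠ Q} = Nat.card {x : Sylow 5 G // x ≠ Q} := by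
      apply Nat.card_congr
      exact Equiv.subtypeEquivRight (fun x => by simp)
    omega
  rw [hVcard, hc15] at hdiv
  omega

/-- The divisors of `4320`. -/
def divs4320 : List ℕ := (List.range 4321).filter fun d => 4320 % d == 0

theorem false_4320 (hG : ¬ IsMulCommutative G) (h : Nat.card G = 4320) : False := by
  classical
  letI : Fintype G := Fintype.ofFinite G
  have hcard : ∀ U : Sylow 5 G, Nat.card U = 5 := by
    intro U
    simpa using card_sylow_eq (p := 5) (k := 1) (m := 864) (by rw [h]; norm_num) (by norm_num) U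
  obtain ⟨r, hr, hr1, hNC, -⟩ := exists_card_multiples hG (p := 5) (by rw [h]; norm_num) hcard
  obtain ⟨Q⟩ : Nonempty (Sylow 5 G) := inferInstance
  have hn := card_sylow_mem_candidates (G := G) (p := 5) (k := 1) (m := 864) hG h
    (by norm_num) (by norm_num) (by norm_num)
  have hc5 : candidates 4320 5 1 864 = [16, 36, 216] := by decide +kernel
  rw [hc5] at hn
  have h2 := card_normalizer_mul Q
  rw [h, hNC Q] at h2
  have hr4 : r ∣ 4 := hr
  have hrle : r ≤ 4 := Nat.le_of_dvd (by norm_num) hr4
  have hrc : r = 2 ∨ r = 4 := by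
    interval_cases r
    · omega
    · exact absurd rfl hr1
    · left; rfl
    · exact absurd hr4 (by norm_num)
    · right; rfl
  set P : Subgroup G := (Q : Subgroup G) with hPdef
  letI : Fintype P := Fintype.ofFinite _
  have hP : Nat.card P = 5 := hcard Q
  have hN2 : ¬ 5 ^ 2 ∣ 4320 := by norm_num
  have hN2' : ¬ 5 ^ 2 ∣ Nat.card G := by rwa [h]
  have hNn : ∀ e, Nat.card (Subgroup.centralizer (P : Set G)) * r = e →
      Nat.card (Nn P) = r * Nat.card (Cn P) := by
    intro e _
    rw [mul_comm r]
    exact hNC Q
  -- an involution in the centralizer, when this has even order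
  have hinvol : ∀ _ : 2 ∣ Nat.card (Cn P), HasBound P 5 2 := by
    intro h2C
    obtain ⟨t', ht'⟩ := exists_prime_orderOf_dvd_card' (G := Cn P) 2 h2C
    have htord : orderOf (t' : G) = 2 := by rw [Subgroup.orderOf_coe, ht']
    have ht2 : (t' : G) ^ 2 = 1 := by rw [← htord, pow_orderOf_eq_one]
    have ht1 : (t' : G) ≠ 1 := by
      intro h0
      rw [h0, orderOf_one] at htord
      omega
    exact hasBound_two hG (by norm_num) hP hN2' t'.2 ht2 ht1
  have hcs : cands (4320 / 5) 5 4 = cands 864 5 4 := by norm_num
  have hcs2 : cands (4320 / 5) 5 2 = cands 864 5 2 := by norm_num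
  simp only [List.mem_cons, List.not_mem_nil, or_false] at hn
  rcases hn with hn | hn | hn <;> rw [hn] at h2
  · -- sixteen
    rcases hrc with rfl | rfl
    · apply false_of_sixteen hG hcard hn Q
      have h3 : Nat.card (Cn P) = 135 := by
        show Nat.card (Subgroup.centralizer (P : Set G)) = 135
        omega
      show 3 ^ 2 ∣ Nat.card (Cn P)
      rw [h3]
      norm_num
    · omega
  · rcases hrc with rfl | rfl
    · have h3 : Nat.card (Cn P) = 60 := by
        show Nat.card (Subgroup.centralizer (P : Set G)) = 60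
        omega
      have hB := hinvol (by rw [h3]; norm_num)
      exact false_exc_filter hG h (by norm_num) hP hN2 (hNn _ rfl) (by norm_num) hB
        (cs := cands 864 5 2) (by rw [hcs2]; exact fun c hc => hc) (by decide +kernel)
        (by decide +kernel)
    · have h3 : Nat.card (Cn P) = 30 := by
        show Nat.card (Subgroup.centralizer (P : Set G)) = 30
        omega
      have hB := hinvol (by rw [h3]; norm_num)
      exact false_one_filter hG h (by norm_num) hP hN2 (hNn _ rfl) hB
        (cs := cands 864 5 4) (by rw [hcs]; exact fun c hc => hc) (by decide +kernel)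
        (by decide +kernel)
  · rcases hrc with rfl | rfl
    · have h3 : Nat.card (Cn P) = 10 := by
        show Nat.card (Subgroup.centralizer (P : Set G)) = 10
        omega
      have hB := hinvol (by rw [h3]; norm_num)
      exact false_exc_filter hG h (by norm_num) hP hN2 (hNn _ rfl) (by norm_num) hB
        (cs := cands 864 5 2) (by rw [hcs2]; exact fun c hc => hc) (by decide +kernel)
        (by decide +kernel)
    · have h3 : Nat.card (Cn P) = 5 := by
        show Nat.card (Subgroup.centralizer (P : Set G)) = 5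
        omega
      have hle := le_centralizer hP
      have hC : Cn P = P := (Subgroup.eq_of_le_of_card_ge hle (by rw [h3, hP])).symm
      have hNe : Nat.card (Nn P) = (5 - 1) * 5 := by
        show Nat.card (Subgroup.normalizer ((Q : Subgroup G) : Set G)) = _
        rw [hNC Q]
        show Nat.card (Cn P) * 4 = _
        rw [h3]
      exact false_one_invert (D := divs4320) hG h (by norm_num) hP hN2 (by norm_num) hC hNe
        (by
          intro c hc
          refine List.mem_filter.mpr ⟨List.mem_range.mpr ?_, ?_⟩
          · have := Nat.le_of_dvd (by norm_num) hc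
            omega
          · simpa using Nat.mod_eq_zero_of_dvd hc)
        (cs := cands 864 5 4) (by rw [hcs]; exact fun c hc => hc) (by decide +kernel)
        (by decide +kernel)

end Cfsg.Agent.Lib.Small.Ord4320
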