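/-
Simple groups of order 504: recognition of PSL(2,8).
-/
import Cfsg.Agent.Lib.Small.TI2
import Cfsg.Agent.Lib.Small.F8
import Cfsg.Agent.Lib.Small.PSL2Check1
import Cfsg.Agent.Lib.Small.PSL2Prime
import Cfsg.Agent.Lib.Small.PSL2Rec

set_option autoImplicit false
set_option linter.unusedSectionVars false

namespace Cfsg.Agent.Lib.Small.Ord504

open OnePoint Cfsg.Agent.Lib.Small.Basic Cfsg.Agent.Lib.Small.Sieve Cfsg.Agent.Lib.Small.TI
  Cfsg.Agent.Lib.Small.TI2 Cfsg.Agent.Lib.Small.F8 Cfsg.Agent.Lib.Small.PSL2Prime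
  Cfsg.Agent.Lib.Small.PSL2Check Cfsg.Agent.Lib.Small.PSL2Check1

universe u v

instance fact_prime2 : Fact (Nat.Prime 2) := ⟨by norm_num⟩
instance fact_prime3 : Fact (Nat.Prime 3) := ⟨by norm_num⟩
instance fact_prime7 : Fact (Nat.Prime 7) := ⟨by norm_num⟩

variable {G : Type u} [Group G] [Finite G] [IsSimpleGroup G]

lemma not_comm (h : Nat.card G = 504) : ¬ IsMulCommutative G :=
  not_comm_of_not_prime (by rw [h]; norm_num)

lemma card_U (h : Nat.card G = 504) (U : Sylow 3 G) : Nat.card U = 9 := by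
  simpa using card_sylow_eq (p := 3) (k := 2) (m := 56) (by rw [h]; norm_num) (by norm_num) U

lemma card_S (h : Nat.card G = 504) (S : Sylow 2 G) : Nat.card S = 8 := by
  simpa using card_sylow_eq (p := 2) (k := 3) (m := 63) (by rw [h]; norm_num) (by norm_num) S

lemma card_P (h : Nat.card G = 504) (P : Sylow 7 G) : Nat.card P = 7 := by
  simpa using card_sylow_eq (p := 7) (k := 1) (m := 72) (by rw [h]; norm_num) (by norm_num) P

lemma eight_le_index (h : Nat.card G = 504) (H : Subgroup G) (hH : H ≠ ⊤) : 8 ≤ H.index := by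
  by_contra hlt
  have hle : H.index ≤ 7 := by omega
  have h1 := two_mul_card_dvd_factorial_index (not_comm h) H hH
  rw [h] at h1
  have h7 : H.index = 7 := by
    generalize H.index = d at h1 hle
    interval_cases d <;> first | rfl | (exfalso; revert h1; decide)
  obtain ⟨φ, hφ⟩ := exists_embed_alt_of_hom (not_comm h) _ (toPermHom_injective H hH) 7 h7
  have hrange : Nat.card φ.range = 504 := by
    rw [← h]
    exact (Nat.card_congr (MonoidHom.ofInjective hφ).toEquiv).symm
  have hidx := Subgroup.card_mul_index φ.range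
  have hA : Nat.card (alternatingGroup (Fin 7)) = 2520 := by
    rw [nat_card_alternatingGroup]
    simp [Nat.factorial]
  rw [hrange, hA] at hidx
  have hne : φ.range ≠ ⊤ := by
    intro ht
    rw [ht, Subgroup.index_top] at hidx
    omega
  have := le_index_of_alternating (by norm_num) φ.range hne
  omega

lemma card_sylow7 (h : Nat.card G = 504) : Nat.card (Sylow 7 G) = 36 := by
  have hm := card_sylow_mem_candidates (G := G) (p := 7) (k := 1) (m := 72) (not_comm h) h
    (by norm_num) (by norm_num) (by norm_num)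
  have hc : candidates 504 7 1 72 = [8, 36] := by decide +kernel
  rw [hc] at hm
  simp only [List.mem_cons, List.not_mem_nil, or_false] at hm
  rcases hm with h8 | h36
  · exfalso
    obtain ⟨P⟩ : Nonempty (Sylow 7 G) := inferInstance
    have h1 := card_normalizer_dvd (not_comm h) (by rw [h]; norm_num) (card_P h) h8 P
    have h2 := card_normalizer_mul P
    rw [h8, h] at h2
    have h3 : Nat.card (Subgroup.normalizer ((P : Subgroup G) : Set G)) = 63 := by omega
    rw [h3] at h1
    omega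
  · exact h36

lemma card_normalizer7 (h : Nat.card G = 504) (P : Sylow 7 G) :
    Nat.card (Subgroup.normalizer ((P : Subgroup G) : Set G)) = 14 := by
  have h2 := card_normalizer_mul P
  rw [card_sylow7 h, h] at h2
  omega

/-- `C(P) = P` for a Sylow `7`-subgroup. -/
lemma mem_of_commute7 (h : Nat.card G = 504) (P : Sylow 7 G) {g : G} (hg : ∀ y ∈ P, g * y = y * g) :
    g ∈ P := by
  have hc : IsCyclic (P : Subgroup G) := isCyclic_of_prime_card (card_P h P)
  have hab : IsMulCommutative (P : Subgroup G) := IsCyclic.isMulCommutative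
  have hPC : (P : Subgroup G) ≤ Subgroup.centralizer ((P : Subgroup G) : Set G) :=
    le_centralizer_of_abelian le_rfl hab
  have hCN : Subgroup.centralizer ((P : Subgroup G) : Set G) ≤
      Subgroup.normalizer ((P : Subgroup G) : Set G) := Subgroup.centralizer_le_normalizer _
  have hB := normalizer_not_le_centralizer (not_comm h) 7 (by rw [h]; norm_num) P
  have hdvd : Nat.card (Subgroup.centralizer ((P : Subgroup G) : Set G)) ∣ 14 := by
    have := Subgroup.card_dvd_of_le hCN
    rwa [card_normalizer7 h P] at this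
  have h7 : 7 ∣ Nat.card (Subgroup.centralizer ((P : Subgroup G) : Set G)) := by
    have := Subgroup.card_dvd_of_le hPC
    rwa [card_P h P] at this
  have hC7 : Nat.card (Subgroup.centralizer ((P : Subgroup G) : Set G)) = 7 := by
    have hor : Nat.card (Subgroup.centralizer ((P : Subgroup G) : Set G)) = 7 ∨
        Nat.card (Subgroup.centralizer ((P : Subgroup G) : Set G)) = 14 := by
      have hle := Nat.le_of_dvd (by norm_num) hdvd
      have hpos : 0 < Nat.card (Subgroup.centralizer ((P : Subgroup G) : Set G)) := Nat.card_pos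
      generalize Nat.card (Subgroup.centralizer ((P : Subgroup G) : Set G)) = c at *
      interval_cases c <;> omega
    rcases hor with h1 | h1
    · exact h1
    · exfalso
      apply hB
      have heq := Subgroup.eq_of_le_of_card_ge hCN (by rw [h1, card_normalizer7 h P])
      rw [← heq]
      exact le_rfl
  have heq : (P : Subgroup G) = Subgroup.centralizer ((P : Subgroup G) : Set G) :=
    Subgroup.eq_of_le_of_card_ge hPC (by rw [hC7, card_P h P])
  have hmem : g ∈ Subgroup.centralizer ((P : Subgroup G) : Set G) := by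
    rw [Subgroup.mem_centralizer_iff]
    intro y hy
    exact (hg y hy).symm
  rw [← heq] at hmem
  exact hmem

lemma card_sylow3 (h : Nat.card G = 504) : Nat.card (Sylow 3 G) = 28 := by
  have hm := card_sylow_mem_candidates (G := G) (p := 3) (k := 2) (m := 56) (not_comm h) h
    (by norm_num) (by norm_num) (by norm_num)
  have hc : candidates 504 3 2 56 = [28] := by decide +kernel
  rw [hc, List.mem_singleton] at hm
  exact hm

lemma U_comm (h : Nat.card G = 504) (U : Sylow 3 G) : IsMulCommutative U :=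
  IsPGroup.isMulCommutative_of_card_eq_prime_sq (p := 3) (by rw [card_U h U]; norm_num)

/-- The Sylow `3`-subgroups intersect trivially. -/
theorem isTI3 (h : Nat.card G = 504) : IsTI 3 G := by
  intro U V hne
  by_contra hD
  have habU := U_comm h U
  have habV := U_comm h V
  let D : Subgroup G := (U : Subgroup G) ⊓ (V : Subgroup G)
  let C : Subgroup G := Subgroup.centralizer (D : Set G)
  have hUC : (U : Subgroup G) ≤ C := le_centralizer_of_abelian inf_le_left habU
  have hVC : (V : Subgroup G) ≤ C := le_centralizer_of_abelian inf_le_right habV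
  have hCtop : C ≠ ⊤ := by
    intro htop
    apply hD
    have h1 : D ≤ Subgroup.center G := by
      intro d hd
      rw [Subgroup.mem_center_iff]
      intro g
      have hg : g ∈ C := by rw [htop]; trivial
      exact ((Subgroup.mem_centralizer_iff.mp hg) d hd).symm
    rw [center_eq_bot (not_comm h)] at h1
    exact le_bot_iff.mp h1
  have h8 := eight_le_index h C hCtop
  have hci := Subgroup.card_mul_index C
  let U' : Sylow 3 C := U.subtype hUC
  let V' : Sylow 3 C := V.subtype hVC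
  have hne' : U' ≠ V' := fun heq => hne (Sylow.subtype_injective heq)
  have hn1 : Nat.card (Sylow 3 C) ≠ 1 := fun h1 =>
    hne' ((Nat.card_eq_one_iff_unique.mp h1).1.elim _ _)
  have hnmod : Nat.card (Sylow 3 C) ≡ 1 [MOD 3] := card_sylow_modEq_one 3 C
  have hU'card : Nat.card (U' : Subgroup C) = 9 := by
    rw [U.coe_subtype hUC, Nat.card_congr (Subgroup.subgroupOfEquivOfLe hUC).toEquiv, card_U h U]
  have hnd : Nat.card (Sylow 3 C) ∣ (U' : Subgroup C).index := U'.card_dvd_index
  have hci' := Subgroup.card_mul_index (U' : Subgroup C)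
  rw [hU'card] at hci'
  rw [h] at hci
  have hnpos : 0 < Nat.card (Sylow 3 C) := Nat.card_pos
  have hdpos : 0 < (U' : Subgroup C).index := Nat.pos_of_ne_zero Subgroup.index_ne_zero_of_finite
  have hn4 : (Nat.card (Sylow 3 C) = 4 ∧ (U' : Subgroup C).index = 4) ∨
      (Nat.card (Sylow 3 C) = 7 ∧ (U' : Subgroup C).index = 7) := by
    generalize Nat.card (Sylow 3 C) = n at *
    generalize (U' : Subgroup C).index = d at *
    generalize C.index = i at *
    generalize Nat.card C = c at *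
    have hc60 : c ≤ 63 := by nlinarith
    have hd6 : d ≤ 7 := by omega
    have hn6 : n ≤ d := Nat.le_of_dvd hdpos hnd
    have hmod : n % 3 = 1 := hnmod
    interval_cases d <;> interval_cases n <;> simp_all
  have habU' : IsMulCommutative (U' : Subgroup C) :=
    IsPGroup.isMulCommutative_of_card_eq_prime_sq (p := 3) (by rw [hU'card]; norm_num)
  rcases hn4 with hn4 | hn4
  · obtain ⟨K, hKn, hKc⟩ := exists_normal_complement U' habU' (by rw [hn4.1, hn4.2])
    have hCcard : Nat.card C = 36 := by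
      rw [← hci', hn4.2]
    rw [hU'card, hCcard] at hKc
    have hK4 : Nat.card K = 4 := by omega
    let K' : Subgroup G := K.map C.subtype
    have hK'card : Nat.card K' = 4 := by
      rw [← hK4]
      exact Subgroup.card_map_of_injective C.subtype_injective
    have hK'p : IsPGroup 2 K' := IsPGroup.of_card (n := 2) (by rw [hK'card]; norm_num)
    obtain ⟨S, hKS⟩ := hK'p.exists_le_sylow
    have hSN : (S : Subgroup G) ≤ Subgroup.normalizer (K' : Set G) :=
      le_normalizer_of_card_two hKS (by rw [card_S h, hK'card])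
    have hCN : C ≤ Subgroup.normalizer (K' : Set G) := le_normalizer_map_subtype C K hKn
    have hNtop : Subgroup.normalizer (K' : Set G) ≠ ⊤ := by
      intro htop
      have hnorm : K'.Normal := Subgroup.normalizer_eq_top_iff.mp htop
      exact not_normal_of_card K' (by rw [hK'card]; norm_num) (by rw [hK'card, h]; norm_num) hnorm
    have h6' := eight_le_index h _ hNtop
    have hNi := Subgroup.card_mul_index (Subgroup.normalizer (K' : Set G))
    rw [h] at hNi
    have h8' : 8 ∣ Nat.card (Subgroup.normalizer (K' : Set G)) := by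
      have := Subgroup.card_dvd_of_le hSN
      rwa [card_S h] at this
    have h36 : 36 ∣ Nat.card (Subgroup.normalizer (K' : Set G)) := by
      have := Subgroup.card_dvd_of_le hCN
      rwa [hCcard] at this
    have h72 : 72 ∣ Nat.card (Subgroup.normalizer (K' : Set G)) := by
      have := Nat.lcm_dvd h8' h36
      rwa [show Nat.lcm 8 36 = 72 by norm_num] at this
    have hle := Nat.le_of_dvd Nat.card_pos h72
    nlinarith
  · obtain ⟨K, hKn, hKc⟩ := exists_normal_complement U' habU' (by rw [hn4.1, hn4.2])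
    have hCcard : Nat.card C = 63 := by
      rw [← hci', hn4.2]
    rw [hU'card, hCcard] at hKc
    have hK7 : Nat.card K = 7 := by omega
    let K' : Subgroup G := K.map C.subtype
    have hK'card : Nat.card K' = 7 := by
      rw [← hK7]
      exact Subgroup.card_map_of_injective C.subtype_injective
    obtain ⟨P, hP⟩ := exists_sylow_of_card (p := 7) (k := 1) (m := 72) (by rw [h]; norm_num)
      (by norm_num) K' (by rw [hK'card, pow_one])
    have hCN : C ≤ Subgroup.normalizer (K' : Set G) := le_normalizer_map_subtype C K hKn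
    have h14 := card_normalizer7 h P
    rw [hP] at h14
    have h63 : 63 ∣ Nat.card (Subgroup.normalizer (K' : Set G)) := by
      have := Subgroup.card_dvd_of_le hCN
      rwa [hCcard] at this
    rw [h14] at h63
    omega

/-- The element inverting a Sylow `3`-subgroup. -/
theorem exists_invert (h : Nat.card G = 504) (U : Sylow 3 G) :
    ∃ z ∈ Subgroup.normalizer ((U : Subgroup G) : Set G),
      (∀ x ∈ Subgroup.normalizer ((U : Subgroup G) : Set G), x ∈ U ∨ z⁻¹ * x ∈ U) ∧
      ∀ u ∈ U, z⁻¹ * u * z = u⁻¹ := by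
  have hN : Nat.card (Subgroup.normalizer ((U : Subgroup G) : Set G)) = 18 := by
    have h2 := card_normalizer_mul U
    rw [card_sylow3 h, h] at h2
    omega
  obtain ⟨x, hx⟩ := exists_prime_orderOf_dvd_card'
    (G := Subgroup.normalizer ((U : Subgroup G) : Set G)) 2 (by rw [hN]; norm_num)
  have hxG : orderOf (x : G) = 2 := by rw [Subgroup.orderOf_coe, hx]
  let N := Subgroup.normalizer ((U : Subgroup G) : Set G)
  have hzU : (x : G) ∉ U := by
    intro hmem
    have hx2 : (x : G) ^ 2 = 1 := by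
      have := pow_orderOf_eq_one (x : G)
      rwa [hxG] at this
    have h1 : (x : G) = 1 := eq_one_of_pow_of_mem (V := (U : Subgroup G)) hmem hx2
      (by rw [card_U h U]; norm_num)
    rw [h1, orderOf_one] at hxG
    omega
  have hUN : (U : Subgroup G) ≤ N := Subgroup.le_normalizer
  have hidx2 : ((U : Subgroup G).subgroupOf N).index = 2 := by
    have h5 := ((U : Subgroup G).subgroupOf N).card_mul_index
    rw [Nat.card_congr (Subgroup.subgroupOfEquivOfLe hUN).toEquiv, card_U h U, hN] at h5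
    omega
  have hidx : ∀ y ∈ N, y ∈ U ∨ (x : G)⁻¹ * y ∈ U := by
    intro y hy
    by_cases hyU : y ∈ U
    · exact Or.inl hyU
    · right
      have h6 := Subgroup.mul_mem_iff_of_index_two hidx2 (a := x⁻¹) (b := ⟨y, hy⟩)
      have h7 : (x⁻¹ : N) * ⟨y, hy⟩ ∈ (U : Subgroup G).subgroupOf N := by
        rw [h6]
        constructor
        · intro hc
          exfalso
          apply hzU
          have h8 := Subgroup.mem_subgroupOf.mp hc
          have h9 := (U : Subgroup G).inv_mem h8
          have h10 : (x : G) ∈ (U : Subgroup G) := by simpa using h9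
          exact h10
        · intro hc
          exact absurd (Subgroup.mem_subgroupOf.mp hc) hyU
      exact Subgroup.mem_subgroupOf.mp h7
  refine ⟨x, x.2, hidx, fun u hu => ?_⟩
  have h1 := mul_conj_eq_one (not_comm h) (isTI3 h) U (U_comm h U) x.2 hzU hidx hu
  exact (eq_inv_of_mul_eq_one_right h1)

/-- A non-trivial element of a Sylow `3`-subgroup has its centralizer in it. -/
theorem mem_of_commute3 (h : Nat.card G = 504) (V : Sylow 3 G) {w g : G} (hw : w ∈ V) (hw1 : w ≠ 1)
    (hc : g * w = w * g) : g ∈ V := by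
  obtain ⟨z, hzN, hidx, hinv⟩ := exists_invert h V
  have h1 : g⁻¹ * w * g = w := by
    rw [mul_assoc, ← hc]
    group
  have hN := mem_normalizer_of_conj_mem (isTI3 h) V hw hw1 (by rw [h1]; exact hw)
  rcases hidx g hN with hg | hg
  · exact hg
  · exfalso
    have hVc := U_comm h V
    have hcV : ∀ a ∈ V, ∀ b ∈ V, a * b = b * a := by
      intro a ha b hb
      have h2 : (⟨a, ha⟩ : V) * ⟨b, hb⟩ = ⟨b, hb⟩ * ⟨a, ha⟩ := mul_comm' _ _
      exact congrArg Subtype.val h2
    have h3 : g⁻¹ * w * g = (z⁻¹ * g)⁻¹ * (z⁻¹ * w * z) * (z⁻¹ * g) := by group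
    rw [hinv w hw] at h3
    rw [h1] at h3
    have h4 := hcV _ (V.inv_mem hg) _ (V.inv_mem hw)
    rw [h4] at h3
    have h5 : w⁻¹ * (z⁻¹ * g)⁻¹ * (z⁻¹ * g) = w⁻¹ := by group
    rw [h5] at h3
    have h6 : w ^ 2 = 1 := by
      rw [pow_two]
      nth_rw 1 [h3]
      exact inv_mul_cancel w
    apply hw1
    exact eq_one_of_pow_of_mem (V := (V : Subgroup G)) hw h6 (by rw [card_U h V]; norm_num)

/-- A non-trivial element of a Sylow `7`-subgroup has its centralizer in it. -/
theorem mem_of_commute7' (h : Nat.card G = 504) (P : Sylow 7 G) {w g : G} (hw : w ∈ P) (hw1 : w ≠ 1)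
    (hc : g * w = w * g) : g ∈ P := by
  refine mem_of_commute7 h P (fun y hy => ?_)
  have hw7 : w ^ 7 = 1 := by
    have h1 : (⟨w, hw⟩ : (P : Subgroup G)) ^ Nat.card (P : Subgroup G) = 1 := pow_card_eq_one'
    rw [card_P h P] at h1
    exact congrArg Subtype.val h1
  have hord : orderOf w = 7 := orderOf_eq_prime hw7 hw1
  have hzp : Subgroup.zpowers w = (P : Subgroup G) := by
    apply Subgroup.eq_of_le_of_card_ge ((Subgroup.zpowers_le).mpr hw)
    rw [Nat.card_zpowers, hord, card_P h P]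
  have hy' : y ∈ Subgroup.zpowers w := by
    rw [hzp]
    exact hy
  obtain ⟨k, rfl⟩ := Subgroup.mem_zpowers_iff.mp hy'
  have h1 : Commute g w := hc
  exact (h1.zpow_right k)

lemma pow_card_eq_one_of_mem {V : Subgroup G} {x : G} (hx : x ∈ V) : x ^ Nat.card V = 1 := by
  have h1 : (⟨x, hx⟩ : V) ^ Nat.card V = 1 := pow_card_eq_one'
  exact congrArg Subtype.val h1

/-- The centralizer of an involution is a `2`-group. -/
theorem card_centralizer_dvd (h : Nat.card G = 504) {t : G} (ht2 : t ^ 2 = 1) (ht1 : t ≠ 1) :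
    Nat.card (Subgroup.centralizer ({t} : Set G)) ∣ 8 := by
  have h3 : ¬ 3 ∣ Nat.card (Subgroup.centralizer ({t} : Set G)) := by
    intro hd
    obtain ⟨y, hy⟩ := exists_prime_orderOf_dvd_card' (G := Subgroup.centralizer ({t} : Set G)) 3 hd
    have hyG : orderOf (y : G) = 3 := by rw [Subgroup.orderOf_coe, hy]
    obtain ⟨V, hV⟩ := exists_sylow_of_orderOf hyG
    have hyne : (y : G) ≠ 1 := by
      intro h1
      rw [h1, orderOf_one] at hyG
      omega
    have hcomm : (y : G) * t = t * y := Subgroup.mem_centralizer_singleton_iff.mp y.2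
    have hmem := mem_of_commute3 h V hV hyne hcomm.symm
    exact ht1 (eq_one_of_pow_of_mem (V := (V : Subgroup G)) hmem ht2 (by rw [card_U h V]; norm_num))
  have h7 : ¬ 7 ∣ Nat.card (Subgroup.centralizer ({t} : Set G)) := by
    intro hd
    obtain ⟨y, hy⟩ := exists_prime_orderOf_dvd_card' (G := Subgroup.centralizer ({t} : Set G)) 7 hd
    have hyG : orderOf (y : G) = 7 := by rw [Subgroup.orderOf_coe, hy]
    obtain ⟨V, hV⟩ := exists_sylow_of_orderOf hyG
    have hyne : (y : G) ≠ 1 := by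
      intro h1
      rw [h1, orderOf_one] at hyG
      omega
    have hcomm : (y : G) * t = t * y := Subgroup.mem_centralizer_singleton_iff.mp y.2
    have hmem := mem_of_commute7' h V hV hyne hcomm.symm
    exact ht1 (eq_one_of_pow_of_mem (V := (V : Subgroup G)) hmem ht2 (by rw [card_P h V]; norm_num))
  have hd : Nat.card (Subgroup.centralizer ({t} : Set G)) ∣ 8 * 63 := by
    have := Subgroup.card_subgroup_dvd_card (Subgroup.centralizer ({t} : Set G))
    rwa [h] at this
  have hc3 : Nat.Coprime (Nat.card (Subgroup.centralizer ({t} : Set G))) 3 :=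
    ((Nat.Prime.coprime_iff_not_dvd (by norm_num)).mpr h3).symm
  have hc7 : Nat.Coprime (Nat.card (Subgroup.centralizer ({t} : Set G))) 7 :=
    ((Nat.Prime.coprime_iff_not_dvd (by norm_num)).mpr h7).symm
  have hc63 : Nat.Coprime (Nat.card (Subgroup.centralizer ({t} : Set G))) 63 := by
    have : (63 : ℕ) = 3 * 3 * 7 := by norm_num
    rw [this]
    exact Nat.Coprime.mul_right (Nat.Coprime.mul_right hc3 hc3) hc7
  exact hc63.dvd_of_dvd_mul_right hd

/-- The element count: with `t` an involution every element is trivial, a `3`-element, a `7`-element,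
or conjugate to `t`; the centralizer of `t` has order `8`. -/
theorem count (h : Nat.card G = 504) {t : G} (ht2 : t ^ 2 = 1) (ht1 : t ≠ 1) :
    Nat.card (Subgroup.centralizer ({t} : Set G)) = 8 ∧
    ∀ x : G, x = 1 ∨ (∃ V : Sylow 3 G, x ∈ V) ∨ (∃ V : Sylow 7 G, x ∈ V) ∨ IsConj t x := by
  have hconj : ∀ x, IsConj t x → x ^ 2 = 1 ∧ x ≠ 1 := by
    intro x hx
    obtain ⟨c, hc⟩ := isConj_iff.mp hx
    constructor
    · rw [← hc, conj_pow, ht2]
      group
    · rintro rfl
      exact ht1 (isConj_one_right.mp hx.symm)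
  have hthree := card_three_le (G := G) (fun x => x ≠ 1 ∧ ∃ V : Sylow 3 G, x ∈ V)
    (fun x => x ≠ 1 ∧ ∃ V : Sylow 7 G, x ∈ V) (fun x => IsConj t x)
    (fun x hx => hx.1) (fun x hx => hx.1) (fun x hx => (hconj x hx).2)
    (by
      rintro x ⟨hx1, V, hxV⟩ ⟨-, P, hxP⟩
      apply hx1
      have h7 := pow_card_eq_one_of_mem (V := (P : Subgroup G)) hxP
      rw [card_P h P] at h7
      exact eq_one_of_pow_of_mem (V := (V : Subgroup G)) hxV h7 (by rw [card_U h V]; norm_num))
    (by
      rintro x ⟨hx1, V, hxV⟩ hc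
      apply hx1
      exact eq_one_of_pow_of_mem (V := (V : Subgroup G)) hxV (hconj x hc).1
        (by rw [card_U h V]; norm_num))
    (by
      rintro x ⟨hx1, V, hxV⟩ hc
      apply hx1
      exact eq_one_of_pow_of_mem (V := (V : Subgroup G)) hxV (hconj x hc).1
        (by rw [card_P h V]; norm_num))
  have hc3 := card_union (isTI3 h) 9 (card_U h)
  have hc7 := card_union (isTI_of_card_prime (card_P h)) 7 (card_P h)
  rw [card_sylow3 h] at hc3
  rw [card_sylow7 h] at hc7
  have hcl := card_class_mul_centralizer t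
  have hd := card_centralizer_dvd h ht2 ht1
  rw [h] at hcl
  rw [hc3, hc7, h] at hthree
  have hle := hthree.1
  have hC8 : Nat.card (Subgroup.centralizer ({t} : Set G)) = 8 := by
    have hle8 := Nat.le_of_dvd (by norm_num) hd
    have hpos : 0 < Nat.card (Subgroup.centralizer ({t} : Set G)) := Nat.card_pos
    generalize Nat.card (Subgroup.centralizer ({t} : Set G)) = c at *
    generalize Nat.card {x // IsConj t x} = e at *
    interval_cases c <;> omega
  refine ⟨hC8, fun x => ?_⟩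
  have h63 : Nat.card {x // IsConj t x} = 63 := by
    rw [hC8] at hcl
    omega
  rcases hthree.2 (by rw [h63]) x with h1 | h1 | h1 | h1
  · exact Or.inl h1
  · exact Or.inr (Or.inl h1.2)
  · exact Or.inr (Or.inr (Or.inl h1.2))
  · exact Or.inr (Or.inr (Or.inr h1))

/-- There is an involution. -/
lemma exists_involution (h : Nat.card G = 504) : ∃ t : G, t ^ 2 = 1 ∧ t ≠ 1 := by
  obtain ⟨t, ht⟩ := exists_prime_orderOf_dvd_card' (G := G) 2 (by rw [h]; norm_num)
  refine ⟨t, ?_, ?_⟩
  · have := pow_orderOf_eq_one t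
    rwa [ht] at this
  · rintro rfl
    rw [orderOf_one] at ht
    omega

/-- Non-trivial elements of Sylow `2`-subgroups are involutions. -/
theorem sq_eq_one_of_mem (h : Nat.card G = 504) (S : Sylow 2 G) {x : G} (hx : x ∈ S) : x ^ 2 = 1 := by
  by_cases hx1 : x = 1
  · simp [hx1]
  obtain ⟨t, ht2, ht1⟩ := exists_involution h
  have hx8 := pow_card_eq_one_of_mem (V := (S : Subgroup G)) hx
  rw [card_S h S] at hx8
  rcases (count h ht2 ht1).2 x with h1 | ⟨V, hV⟩ | ⟨V, hV⟩ | h1
  · exact absurd h1 hx1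
  · exact absurd (eq_one_of_pow_of_mem (V := (V : Subgroup G)) hV hx8
      (by rw [card_U h V]; norm_num)) hx1
  · exact absurd (eq_one_of_pow_of_mem (V := (V : Subgroup G)) hV hx8
      (by rw [card_P h V]; norm_num)) hx1
  · obtain ⟨c, hc⟩ := isConj_iff.mp h1
    rw [← hc, conj_pow, ht2]
    group

/-- Sylow `2`-subgroups are abelian. -/
theorem comm_of_mem (h : Nat.card G = 504) (S : Sylow 2 G) {a b : G} (ha : a ∈ S) (hb : b ∈ S) :
    a * b = b * a := by
  have h1 := sq_eq_one_of_mem h S ha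
  have h2 := sq_eq_one_of_mem h S hb
  have h3 := sq_eq_one_of_mem h S (S.mul_mem ha hb)
  have ha' : a⁻¹ = a := inv_eq_of_mul_eq_one_left (by rw [← pow_two, h1])
  have hb' : b⁻¹ = b := inv_eq_of_mul_eq_one_left (by rw [← pow_two, h2])
  have h4 : (a * b)⁻¹ = a * b := inv_eq_of_mul_eq_one_left (by rw [← pow_two, h3])
  rw [mul_inv_rev, ha', hb'] at h4
  exact h4.symm

lemma S_comm (h : Nat.card G = 504) (S : Sylow 2 G) : IsMulCommutative (S : Subgroup G) :=
  ⟨⟨fun a b => Subtype.ext (comm_of_mem h S a.2 b.2)⟩⟩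

/-- The centralizer of a non-trivial element of `S` is `S`. -/
theorem centralizer_eq (h : Nat.card G = 504) (S : Sylow 2 G) {x : G} (hx : x ∈ S) (hx1 : x ≠ 1) :
    Subgroup.centralizer ({x} : Set G) = (S : Subgroup G) := by
  have hle : (S : Subgroup G) ≤ Subgroup.centralizer ({x} : Set G) := by
    intro a ha
    rw [Subgroup.mem_centralizer_singleton_iff]
    exact comm_of_mem h S ha hx
  symm
  apply Subgroup.eq_of_le_of_card_ge hle
  rw [(count h (sq_eq_one_of_mem h S hx) hx1).1, card_S h S]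

/-- The Sylow `2`-subgroups intersect trivially. -/
theorem isTI2 (h : Nat.card G = 504) : IsTI 2 G := by
  intro S S' hne
  rw [Subgroup.eq_bot_iff_forall]
  intro x hx
  by_contra hx1
  apply hne
  apply Sylow.ext
  rw [← centralizer_eq h S hx.1 hx1, ← centralizer_eq h S' hx.2 hx1]

/-- There are nine Sylow `2`-subgroups. -/
theorem card_sylow2 (h : Nat.card G = 504) : Nat.card (Sylow 2 G) = 9 := by
  have hm := card_sylow_mem_candidates (G := G) (p := 2) (k := 3) (m := 63) (not_comm h) h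
    (by norm_num) (by norm_num) (by norm_num)
  have hc : candidates 504 2 3 63 = [9, 21, 63] := by decide +kernel
  rw [hc] at hm
  have hthree := (card_three_le (G := G) (fun x => x ≠ 1 ∧ ∃ V : Sylow 3 G, x ∈ V)
    (fun x => x ≠ 1 ∧ ∃ V : Sylow 7 G, x ∈ V) (fun x => x ≠ 1 ∧ ∃ V : Sylow 2 G, x ∈ V)
    (fun x hx => hx.1) (fun x hx => hx.1) (fun x hx => hx.1)
    (by
      rintro x ⟨hx1, V, hxV⟩ ⟨-, P, hxP⟩
      apply hx1
      have h7 := pow_card_eq_one_of_mem (V := (P : Subgroup G)) hxP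
      rw [card_P h P] at h7
      exact eq_one_of_pow_of_mem (V := (V : Subgroup G)) hxV h7 (by rw [card_U h V]; norm_num))
    (by
      rintro x ⟨hx1, V, hxV⟩ ⟨-, P, hxP⟩
      apply hx1
      have h7 := pow_card_eq_one_of_mem (V := (P : Subgroup G)) hxP
      rw [card_S h P] at h7
      exact eq_one_of_pow_of_mem (V := (V : Subgroup G)) hxV h7 (by rw [card_U h V]; norm_num))
    (by
      rintro x ⟨hx1, V, hxV⟩ ⟨-, P, hxP⟩
      apply hx1
      have h7 := pow_card_eq_one_of_mem (V := (P : Subgroup G)) hxP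
      rw [card_S h P] at h7
      exact eq_one_of_pow_of_mem (V := (V : Subgroup G)) hxV h7 (by rw [card_P h V]; norm_num))).1
  have hc3 := card_union (isTI3 h) 9 (card_U h)
  have hc7 := card_union (isTI_of_card_prime (card_P h)) 7 (card_P h)
  have hc2 := card_union (isTI2 h) 8 (card_S h)
  rw [card_sylow3 h] at hc3
  rw [card_sylow7 h] at hc7
  rw [hc3, hc7, hc2, h] at hthree
  simp only [List.mem_cons, List.not_mem_nil, or_false] at hm
  omega

/-- Elements different from one. -/
lemma card_ne_one (H : Subgroup G) : Nat.card {x : H // x ≠ 1} = Nat.card H - 1 := by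
  classical
  have hsum : Nat.card {x : H // x = 1} + Nat.card {x : H // x ≠ 1} = Nat.card H := by
    rw [← Nat.card_sum]
    exact Nat.card_congr (Equiv.sumCompl _)
  have h2 : Nat.card {x : H // x = 1} = 1 := Nat.card_unique
  omega

/-- The relation in the field with eight elements. -/
theorem exists_rel (h : Nat.card G = 504) (S : Sylow 2 G) {h₀ u₀ : G}
    (hN : h₀ ∈ Subgroup.normalizer ((S : Subgroup G) : Set G)) (hord : orderOf h₀ = 7)
    (hu₀ : u₀ ∈ S) (hu₀1 : u₀ ≠ 1) :
    h₀ ^ 3 * u₀ * (h₀ ^ 3)⁻¹ = u₀ * (h₀ * u₀ * h₀⁻¹) ∨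
      h₀⁻¹ ^ 3 * u₀ * (h₀⁻¹ ^ 3)⁻¹ = u₀ * (h₀⁻¹ * u₀ * h₀⁻¹⁻¹) := by
  have hh7 : h₀ ^ 7 = 1 := by
    rw [← hord]
    exact pow_orderOf_eq_one h₀
  let u : ℕ → G := fun k => h₀ ^ k * u₀ * (h₀ ^ k)⁻¹
  have hu : ∀ k, u k = h₀ ^ k * u₀ * (h₀ ^ k)⁻¹ := fun k => rfl
  have huS : ∀ k, u k ∈ S := fun k =>
    (Subgroup.mem_normalizer_iff.mp (Subgroup.pow_mem _ hN k) u₀).mp hu₀
  have hu1 : ∀ k, u k ≠ 1 := by
    intro k hk
    apply hu₀1
    rw [hu] at hk
    have h1 : u₀ = (h₀ ^ k)⁻¹ * (h₀ ^ k * u₀ * (h₀ ^ k)⁻¹) * h₀ ^ k := by group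
    rw [h1, hk]
    group
  have hu7 : ∀ k, u (k + 7) = u k := by
    intro k
    rw [hu, hu, pow_add, hh7, mul_one]
  have hshift : ∀ a k, h₀ ^ k * u a * (h₀ ^ k)⁻¹ = u (a + k) := by
    intro a k
    rw [hu, hu, add_comm, pow_add]
    group
  have hms : ∀ a b c k, u a * u b = u c → u (a + k) * u (b + k) = u (c + k) := by
    intro a b c k h1
    rw [← hshift, ← hshift, ← hshift, ← h1]
    group
  have hcomm : ∀ a b, u a * u b = u b * u a := fun a b => comm_of_mem h S (huS a) (huS b)
  have hsq : ∀ a, u a * u a = 1 := fun a => by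
    rw [← pow_two]
    exact sq_eq_one_of_mem h S (huS a)
  have hinj : ∀ a b, a < b → b < 7 → u a ≠ u b := by
    intro a b hab hb hc
    obtain ⟨d, rfl⟩ : ∃ d, b = a + d := ⟨b - a, by omega⟩
    have h1 : h₀ ^ d * u₀ * (h₀ ^ d)⁻¹ = u₀ := by
      rw [hu, hu, pow_add] at hc
      have h2 : h₀ ^ a * (h₀ ^ d * u₀ * (h₀ ^ d)⁻¹) * (h₀ ^ a)⁻¹ = h₀ ^ a * u₀ * (h₀ ^ a)⁻¹ := by
        rw [hc]
        group
      have h3 := mul_right_cancel (mul_left_cancel (by simpa [mul_assoc] using h2 :
        h₀ ^ a * ((h₀ ^ d * u₀ * (h₀ ^ d)⁻¹) * (h₀ ^ a)⁻¹) = h₀ ^ a * (u₀ * (h₀ ^ a)⁻¹)))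
      exact h3
    have h2 : h₀ ^ d ∈ Subgroup.centralizer ({u₀} : Set G) := by
      rw [Subgroup.mem_centralizer_singleton_iff]
      rw [mul_inv_eq_iff_eq_mul] at h1
      exact h1
    rw [centralizer_eq h S hu₀ hu₀1] at h2
    have h3 : (h₀ ^ d) ^ 7 = 1 := by
      rw [← pow_mul, mul_comm, pow_mul, hh7, one_pow]
    have h4 := eq_one_of_pow_of_mem (V := (S : Subgroup G)) h2 h3 (by rw [card_S h S]; norm_num)
    have h5 := orderOf_dvd_of_pow_eq_one h4
    rw [hord] at h5
    have := Nat.le_of_dvd (by omega) h5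
    omega
  have hsurj : ∀ x ∈ S, x ≠ 1 → ∃ k, k < 7 ∧ x = u k := by
    intro x hx hx1
    let f : Fin 7 → {x : (S : Subgroup G) // x ≠ 1} := fun k =>
      ⟨⟨u k, huS k⟩, fun h1 => hu1 k (congrArg Subtype.val h1)⟩
    have hf : Function.Injective f := by
      intro a b hab
      have h1 : u a = u b := congrArg (fun y : {x : (S : Subgroup G) // x ≠ 1} => ((y.1 : _) : G)) hab
      rcases lt_trichotomy (a : ℕ) (b : ℕ) with h2 | h2 | h2
      · exact absurd h1 (hinj _ _ h2 b.2)
      · exact Fin.ext h2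
      · exact absurd h1.symm (hinj _ _ h2 a.2)
    have hc : Nat.card (Fin 7) = Nat.card {x : (S : Subgroup G) // x ≠ 1} := by
      rw [card_ne_one, card_S h S]
      simp
    have hb := (Nat.bijective_iff_injective_and_card f).mpr ⟨hf, hc⟩
    obtain ⟨k, hk⟩ := hb.2 ⟨⟨x, hx⟩, fun h1 => hx1 (congrArg Subtype.val h1)⟩
    refine ⟨k, k.2, ?_⟩
    have h1 := congrArg (fun y : {x : (S : Subgroup G) // x ≠ 1} => ((y.1 : _) : G)) hk
    exact h1.symm
  have hw1 : u 0 * u 1 ≠ 1 := by
    intro h1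
    have h2 : u 0 = u 1 := by
      calc u 0 = u 0 * (u 1 * u 1) := by rw [hsq, mul_one]
        _ = (u 0 * u 1) * u 1 := by group
        _ = u 1 := by rw [h1, one_mul]
    exact hinj 0 1 (by norm_num) (by norm_num) h2
  obtain ⟨k, hk7, hk⟩ := hsurj _ (S.mul_mem (huS 0) (huS 1)) hw1
  have hu0 : u 0 = u₀ := by simp [hu]
  have hu1' : u 1 = h₀ * u₀ * h₀⁻¹ := by simp [hu]
  interval_cases k
  · exact absurd (mul_eq_left.mp hk) (hu1 1)
  · exact absurd (mul_eq_right.mp hk) (hu1 0)
  · -- `k = 2`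
    exfalso
    have h1 := hms 0 1 2 1 hk
    simp only [zero_add, Nat.reduceAdd] at h1
    have h2 : u 3 = u 0 := by
      rw [← h1, ← hk]
      calc u 1 * (u 0 * u 1) = u 0 * (u 1 * u 1) := by
            rw [← mul_assoc, hcomm 1 0, mul_assoc]
        _ = u 0 := by rw [hsq, mul_one]
    exact hinj 0 3 (by norm_num) (by norm_num) h2.symm
  · -- `k = 3`
    left
    rw [← hu, ← hu1', ← hu0, hk]
  · -- `k = 4`
    exfalso
    have h1 := hms 0 1 4 3 hk
    simp only [zero_add, Nat.reduceAdd] at h1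
    rw [hu7 0] at h1
    have h2 : u 3 = u 1 := by
      calc u 3 = u 3 * (u 4 * u 4) := by rw [hsq, mul_one]
        _ = (u 3 * u 4) * u 4 := by group
        _ = u 0 * (u 0 * u 1) := by rw [h1, hk]
        _ = (u 0 * u 0) * u 1 := by group
        _ = u 1 := by rw [hsq, one_mul]
    exact hinj 1 3 (by norm_num) (by norm_num) h2.symm
  · -- `k = 5`
    right
    have h1 := hms 0 1 5 6 hk
    simp only [zero_add, Nat.reduceAdd] at h1
    rw [hu7 0] at h1
    have h11 : u 11 = u 4 := hu7 4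
    rw [h11] at h1
    have hinv : h₀⁻¹ = h₀ ^ 6 := by
      rw [inv_eq_iff_mul_eq_one, ← pow_succ']
      exact hh7
    have hinv3 : h₀⁻¹ ^ 3 = h₀ ^ 4 := by
      rw [inv_pow, inv_eq_iff_mul_eq_one, ← pow_add]
      exact hh7
    rw [hinv3, ← hu]
    have h12 : h₀⁻¹ * u₀ * h₀⁻¹⁻¹ = u 6 := by
      rw [hu, ← hinv, inv_inv]
    rw [h12, ← hu0, ← h1, hcomm]
  · -- `k = 6`
    exfalso
    have h1 := hms 0 1 6 6 hk
    simp only [zero_add, Nat.reduceAdd] at h1
    rw [hu7 0] at h1
    have h11 : u 12 = u 5 := hu7 5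
    rw [h11] at h1
    have h2 : u 5 = u 1 := by
      rw [← h1, ← hk]
      calc u 0 * u 1 * u 0 = u 1 * u 0 * u 0 := by rw [hcomm 0 1]
        _ = u 1 * (u 0 * u 0) := by group
        _ = u 1 := by rw [hsq, mul_one]
    exact hinj 1 5 (by norm_num) (by norm_num) h2.symm

open Feight in
/-- Labelling of a group of order `8` and exponent `2`, with an automorphism having a relation. -/
theorem label8 {A : Type*} [CommGroup A] (φ : A →* A) (e₀ : A) (hsqA : ∀ s : A, s ^ 2 = 1)
    (he₀ : e₀ ≠ 1) (hφne : ∀ s : A, s ≠ 1 → φ s ≠ 1) (hrel : φ (φ (φ e₀)) = e₀ * φ e₀)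
    (hcard : Nat.card A = 8) :
    ∃ τ : Feight → A, (∀ x y, τ (x + y) = τ x * τ y) ∧ (∀ x, φ (τ x) = τ (y * x)) ∧
      Function.Bijective τ := by
  have hfin : Finite A := Nat.finite_of_card_ne_zero (by rw [hcard]; norm_num)
  have he₁ : φ e₀ ≠ 1 := hφne _ he₀
  have he₂ : φ (φ e₀) ≠ 1 := hφne _ he₁
  have ho₀ : orderOf e₀ = 2 := orderOf_eq_prime (hsqA _) he₀
  have ho₁ : orderOf (φ e₀) = 2 := orderOf_eq_prime (hsqA _) he₁
  have ho₂ : orderOf (φ (φ e₀)) = 2 := orderOf_eq_prime (hsqA _) he₂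
  let τ : Feight → A := fun x => xp e₀ x.a * xp (φ e₀) x.b * xp (φ (φ e₀)) x.c
  have hadd : ∀ x y, τ (x + y) = τ x * τ y := by
    intro x y
    change xp e₀ (x.a + y.a) * xp (φ e₀) (x.b + y.b) * xp (φ (φ e₀)) (x.c + y.c) = _
    rw [xp_add ho₀, xp_add ho₁, xp_add ho₂]
    simp only [τ, mul_assoc, mul_left_comm]
  have hτ0 : τ 0 = 1 := by
    have := hadd 0 0
    rw [add_zero] at this
    exact (mul_eq_left.mp this.symm)
  have hτneg : ∀ x, τ (-x) = (τ x)⁻¹ := by
    intro x
    have := hadd (-x) x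
    rw [neg_add_cancel, hτ0] at this
    exact eq_inv_of_mul_eq_one_left this.symm
  have hyx : ∀ x : Feight, y * x = ⟨x.c, x.a + x.c, x.b⟩ := by decide +kernel
  have hτφ : ∀ x, φ (τ x) = τ (y * x) := by
    intro x
    rw [hyx]
    change φ (xp e₀ x.a * xp (φ e₀) x.b * xp (φ (φ e₀)) x.c) =
      xp e₀ x.c * xp (φ e₀) (x.a + x.c) * xp (φ (φ e₀)) x.b
    rw [map_mul, map_mul, xp_add ho₁]
    have hxp : ∀ (s : A) (i : ZMod 2), φ (xp s i) = xp (φ s) i := by
      intro s i
      simp only [xp, map_pow]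
    rw [hxp, hxp, hxp, hrel]
    have hmp : xp (e₀ * φ e₀) x.c = xp e₀ x.c * xp (φ e₀) x.c := by
      simp only [xp, mul_pow]
    rw [hmp]
    simp only [mul_assoc, mul_comm, mul_left_comm]
  have hτpow : ∀ (k : ℕ) (x : Feight), τ x = 1 → τ (y ^ k * x) = 1 := by
    intro k
    induction k with
    | zero =>
      intro x hx
      rw [pow_zero, one_mul, hx]
    | succ k ih =>
      intro x hx
      rw [pow_succ', mul_assoc, ← hτφ, ih x hx, map_one]
  have hτ1 : τ 1 ≠ 1 := by
    intro h1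
    have h2 : τ 1 = e₀ := by
      change xp e₀ (1 : ZMod 2) * xp (φ e₀) (0 : ZMod 2) * xp (φ (φ e₀)) (0 : ZMod 2) = e₀
      rw [xp_one, xp_zero, xp_zero, mul_one, mul_one]
    rw [h2] at h1
    exact he₀ h1
  have hτker : ∀ x, τ x = 1 → x = 0 := by
    intro x hx
    by_contra hx0
    have hspan : ∀ x : Feight, x ≠ 0 → ∃ k : Fin 7, y ^ (k : ℕ) * x = 1 := by
      decide +kernel
    obtain ⟨k, hk⟩ := hspan x hx0
    apply hτ1
    rw [← hk]
    exact hτpow k x hx
  have hτinj : Function.Injective τ := by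
    intro a b hab
    have h1 : τ (a - b) = 1 := by
      rw [sub_eq_add_neg, hadd, hτneg, hab, mul_inv_cancel]
    exact sub_eq_zero.mp (hτker _ h1)
  refine ⟨τ, hadd, hτφ, (Nat.bijective_iff_injective_and_card _).mpr ⟨hτinj, ?_⟩⟩
  rw [Nat.card_eq_fintype_card, Feight.card_eq, hcard]

open Feight in
/-- **Simple groups of order 504 are `PSL(2,8)`**. -/
theorem nonempty_mulEquiv_PSL (h : Nat.card G = 504) :
    Nonempty (G ≃* Matrix.ProjectiveSpecialLinearGroup (Fin 2) Feight) := by
  classical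
  have hnc := not_comm h
  have hTI := isTI2 h
  have hfaith := smul_faithful hnc 2 (by rw [h]; norm_num : 2 ∣ Nat.card G)
  obtain ⟨S⟩ : Nonempty (Sylow 2 G) := inferInstance
  have hn : Nat.card (Sylow 2 G) = Nat.card S + 1 := by rw [card_sylow2 h, card_S h S]
  have hnt : Nontrivial (Sylow 2 G) := by
    apply Finite.one_lt_card_iff_nontrivial.mp
    rw [card_sylow2 h]
    norm_num
  obtain ⟨V, hV⟩ := exists_ne S
  have hT : Nat.card (torus S V) = 7 := by
    have h1 := card_normalizer_eq hTI hn hV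
    have h2 := card_normalizer_mul S
    rw [card_sylow2 h, h, h1, card_S h S] at h2
    omega
  obtain ⟨x, hx⟩ := exists_prime_orderOf_dvd_card' (G := torus S V) 7 (by rw [hT])
  have hxG : orderOf (x : G) = 7 := by rw [Subgroup.orderOf_coe, hx]
  have hzp : Subgroup.zpowers x = ⊤ :=
    Subgroup.eq_top_of_card_eq _ (by rw [Nat.card_zpowers, hx, hT])
  have htorus : ∀ g ∈ torus S V, ∃ k : ℕ, g = (x : G) ^ k := by
    intro g hg
    have h1 : (⟨g, hg⟩ : torus S V) ∈ Subgroup.zpowers x := by rw [hzp]; trivial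
    have h2 : (⟨g, hg⟩ : torus S V) ∈ Submonoid.powers x := mem_powers_iff_mem_zpowers.mpr h1
    obtain ⟨k, hk⟩ := h2
    refine ⟨k, ?_⟩
    have := congrArg Subtype.val hk
    simpa using this.symm
  have hnS : Nontrivial (S : Subgroup G) := by
    apply Finite.one_lt_card_iff_nontrivial.mp
    rw [card_S h S]
    norm_num
  obtain ⟨e', he'⟩ := exists_ne (1 : (S : Subgroup G))
  let e : G := e'
  have heS : e ∈ S := e'.2
  have he1 : e ≠ 1 := fun h1 => he' (Subtype.ext h1)
  obtain ⟨h₁, hh₁, hh₁7, hh₁t, hrel⟩ : ∃ h₁ : G, h₁ ∈ torus S V ∧ orderOf h₁ = 7 ∧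
      (∀ g ∈ torus S V, ∃ k : ℕ, g = h₁ ^ k) ∧
      h₁ ^ 3 * e * (h₁ ^ 3)⁻¹ = e * (h₁ * e * h₁⁻¹) := by
    rcases exists_rel h S x.2.1 hxG heS he1 with h1 | h1
    · exact ⟨x, x.2, hxG, htorus, h1⟩
    · refine ⟨(x : G)⁻¹, Subgroup.inv_mem _ x.2, by rwa [orderOf_inv], fun g hg => ?_, h1⟩
      obtain ⟨k, hk⟩ := htorus _ (Subgroup.inv_mem _ hg)
      refine ⟨k, ?_⟩
      rw [inv_pow, ← hk, inv_inv]
  have hI := (mem_torus.mp hh₁).1
  have hO := (mem_torus.mp hh₁).2
  have hNS : h₁ ∈ Subgroup.normalizer ((S : Subgroup G) : Set G) :=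
    Sylow.smul_eq_iff_mem_normalizer.mp hI
  let instC : CommGroup (S : Subgroup G) :=
    { (inferInstance : Group (S : Subgroup G)) with
      mul_comm := fun a b => Subtype.ext (comm_of_mem h S a.2 b.2) }
  let φ : (S : Subgroup G) →* (S : Subgroup G) :=
    { toFun := fun s => ⟨h₁ * s * h₁⁻¹, (Subgroup.mem_normalizer_iff.mp hNS s).mp s.2⟩
      map_one' := by
        apply Subtype.ext
        simp
      map_mul' := fun a b => by
        apply Subtype.ext
        simp only [Subgroup.coe_mul]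
        group }
  have hφ : ∀ s : (S : Subgroup G), ((φ s : (S : Subgroup G)) : G) = h₁ * s * h₁⁻¹ := fun s => rfl
  let e₀ : (S : Subgroup G) := ⟨e, heS⟩
  have hφ2 : φ (φ (φ e₀)) = e₀ * φ e₀ := by
    apply Subtype.ext
    rw [hφ, hφ, hφ]
    simp only [Subgroup.coe_mul]
    rw [hφ]
    have h1 : h₁ * (h₁ * (h₁ * e * h₁⁻¹) * h₁⁻¹) * h₁⁻¹ = h₁ ^ 3 * e * (h₁ ^ 3)⁻¹ := by
      rw [pow_succ, pow_succ, pow_one]
      group
    change h₁ * (h₁ * (h₁ * e * h₁⁻¹) * h₁⁻¹) * h₁⁻¹ = e * (h₁ * e * h₁⁻¹)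
    rw [h1, hrel]
  have hsqS : ∀ s : (S : Subgroup G), s ^ 2 = 1 := fun s =>
    Subtype.ext (sq_eq_one_of_mem h S s.2)
  have hφne : ∀ s : (S : Subgroup G), s ≠ 1 → φ s ≠ 1 := by
    intro s hs h1
    apply hs
    have h2 := congrArg Subtype.val h1
    rw [hφ] at h2
    apply Subtype.ext
    have h3 : (s : G) = h₁⁻¹ * (h₁ * s * h₁⁻¹) * h₁ := by group
    rw [h3, h2]
    simp
  have he₀1 : e₀ ≠ 1 := fun h1 => he1 (congrArg Subtype.val h1)
  obtain ⟨τS, hadd, hτφ, hτbij⟩ := @label8 _ instC φ e₀ hsqS he₀1 hφne hφ2 (card_S h S)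
  have hτ1 : τS 0 = 1 := by
    have := hadd 0 0
    rw [add_zero] at this
    exact (mul_eq_left.mp this.symm)
  have hcheck : checkOne addN mulN negN (code y) (code 1) (code y) 7 [1, 2, 3, 4, 5, 6, 7]
      [1, 2, 3, 4, 5, 6, 7] [1, 2, 3, 4, 5, 6, 7] = true := by decide +kernel
  have hnz : ∀ i : Feight, i ≠ 0 → code i ∈ ([1, 2, 3, 4, 5, 6, 7] : List ℕ) := by decide +kernel
  have hnz0 : ∀ n ∈ ([1, 2, 3, 4, 5, 6, 7] : List ℕ), ∃ i : Feight, i ≠ 0 ∧ code i = n := by
    decide +kernel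
  have hsq : ∀ s : Feight, s ≠ 0 → code (s ^ 2) ∈ ([1, 2, 3, 4, 5, 6, 7] : List ℕ) := by
    decide +kernel
  have hkeys : ∀ n ∈ ([1, 2, 3, 4, 5, 6, 7] : List ℕ), n ∈ keysN mulN (code y) 7 (code 1) := by
    decide +kernel
  have hpow : ∀ a : Feight, code a ∈ ([1, 2, 3, 4, 5, 6, 7] : List ℕ) → ∃ k : ℕ, a = y ^ k := by
    have hall : ∀ a : Feight, code a ∈ ([1, 2, 3, 4, 5, 6, 7] : List ℕ) →
        a ∈ (List.range 7).map (fun k => y ^ k) := by decide +kernel
    intro a ha
    obtain ⟨k, -, hk⟩ := List.mem_map.mp (hall a ha)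
    exact ⟨k, hk.symm⟩
  refine Cfsg.Agent.Lib.Small.PSL2Check1.recognition_labeled_abstract (a₀ := y) (by decide +kernel)
    ?_ hfaith S V hV (fun x => (τS x : G)) ?_ (fun x => smul_self_of_mem S (τS x).2) ?_ ?_ h₁ hI hO
    ?_ ?_ ?_ (MulAction.exists_smul_eq G S V)
  · intro F hF0 hFinj s₁ hs₁ hF1 hF2
    obtain ⟨c, hc, hFc⟩ := check_sound1 isCode hcheck hnz hnz0 hsq hkeys (by decide +kernel)
      (by decide +kernel) (by decide +kernel) (by decide +kernel) F hF0 hFinj (s₁ ^ 2)
      (hsq _ hs₁) hF1 hF2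
    obtain ⟨k, hk⟩ := hpow _ hc
    exact ⟨c, k, hk, hFc⟩
  · intro a b
    rw [hadd]
    rfl
  · intro a ha
    have h1 := eq_one_of_smul_eq hTI hV (τS a).2 ha
    exact hτbij.1 ((Subtype.ext h1 : τS a = 1).trans hτ1.symm)
  · intro w hw
    obtain ⟨u, hu, rfl⟩ := exists_smul_eq hTI hn hV hw
    obtain ⟨a, ha⟩ := hτbij.2 ⟨u, hu⟩
    refine ⟨a, ?_⟩
    have h1 : (τS a : G) = u := congrArg Subtype.val ha
    rw [h1]
  · intro a
    rw [← hφ, hτφ]
  · intro g hg1 hg2
    exact hh₁t g (mem_torus.mpr ⟨hg1, hg2⟩)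
  · intro k
    refine ⟨y ^ (4 * k), pow_ne_zero _ (by decide +kernel), ?_⟩
    have h8 : y ^ 8 = y := by decide +kernel
    rw [← pow_mul, show 4 * k * 2 = 8 * k by ring, pow_mul, h8]

/-- **Simple groups of order 504 are `PSL(2,8)`**, `F` any field with 8 elements. -/
theorem nonempty_mulEquiv {F : Type v} [Field F] [Fintype F] (h : Nat.card G = 504)
    (hF : Fintype.card F = 8) :
    Nonempty (G ≃* Matrix.ProjectiveSpecialLinearGroup (Fin 2) F) := by
  obtain ⟨e₁⟩ := nonempty_mulEquiv_PSL h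
  obtain ⟨e₂⟩ := Cfsg.Agent.Lib.Small.PSL2Rec.nonempty_pslCongr_of_card (K := Feight) (L := F)
    (by rw [Feight.card_eq, hF])
  exact ⟨e₁.trans e₂⟩

end Cfsg.Agent.Lib.Small.Ord504
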