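/-
Small simple groups: the orders between 3640 and 6232 eliminated by the rows of a single prime.
-/
import Cfsg.Agent.Lib.Small.Master

set_option autoImplicit false
set_option linter.unusedSectionVars false
set_option linter.unusedVariables false

namespace Cfsg.Agent.Lib.Small.OrdRange

open Cfsg.Agent.Lib.Small.Master

universe u

variable {G : Type u} [Group G] [Finite G] [IsSimpleGroup G]

theorem false_3648 (hG : ¬ IsMulCommutative G) (h : Nat.card G = 3648) : False :=
  haveI : Fact (Nat.Prime 19) := ⟨by norm_num⟩
  false_by_prime (p := 19) hG h (by norm_num) (by norm_num) (by norm_num) (by decide +kernel)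

theorem false_3672 (hG : ¬ IsMulCommutative G) (h : Nat.card G = 3672) : False :=
  haveI : Fact (Nat.Prime 17) := ⟨by norm_num⟩
  false_by_prime (p := 17) hG h (by norm_num) (by norm_num) (by norm_num) (by decide +kernel)

theorem false_3696 (hG : ¬ IsMulCommutative G) (h : Nat.card G = 3696) : False :=
  haveI : Fact (Nat.Prime 11) := ⟨by norm_num⟩
  false_by_prime (p := 11) hG h (by norm_num) (by norm_num) (by norm_num) (by decide +kernel)

theorem false_3744 (hG : ¬ IsMulCommutative G) (h : Nat.card G = 3744) : False :=
  haveI : Fact (Nat.Prime 13) := ⟨by norm_num⟩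
  false_by_prime (p := 13) hG h (by norm_num) (by norm_num) (by norm_num) (by decide +kernel)

theorem false_3800 (hG : ¬ IsMulCommutative G) (h : Nat.card G = 3800) : False :=
  haveI : Fact (Nat.Prime 19) := ⟨by norm_num⟩
  false_by_prime (p := 19) hG h (by norm_num) (by norm_num) (by norm_num) (by decide +kernel)

theorem false_3840 (hG : ¬ IsMulCommutative G) (h : Nat.card G = 3840) : False :=
  haveI : Fact (Nat.Prime 5) := ⟨by norm_num⟩
  false_by_prime (p := 5) hG h (by norm_num) (by norm_num) (by norm_num) (by decide +kernel)

theorem false_3960 (hG : ¬ IsMulCommutative G) (h : Nat.card G = 3960) : False :=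
  haveI : Fact (Nat.Prime 11) := ⟨by norm_num⟩
  false_by_prime (p := 11) hG h (by norm_num) (by norm_num) (by norm_num) (by decide +kernel)

theorem false_4160 (hG : ¬ IsMulCommutative G) (h : Nat.card G = 4160) : False :=
  haveI : Fact (Nat.Prime 13) := ⟨by norm_num⟩
  false_by_prime (p := 13) hG h (by norm_num) (by norm_num) (by norm_num) (by decide +kernel)

theorem false_4212 (hG : ¬ IsMulCommutative G) (h : Nat.card G = 4212) : False :=
  haveI : Fact (Nat.Prime 13) := ⟨by norm_num⟩
  false_by_prime (p := 13) hG h (by norm_num) (by norm_num) (by norm_num) (by decide +kernel)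

theorem false_4224 (hG : ¬ IsMulCommutative G) (h : Nat.card G = 4224) : False :=
  haveI : Fact (Nat.Prime 11) := ⟨by norm_num⟩
  false_by_prime (p := 11) hG h (by norm_num) (by norm_num) (by norm_num) (by decide +kernel)

theorem false_4284 (hG : ¬ IsMulCommutative G) (h : Nat.card G = 4284) : False :=
  haveI : Fact (Nat.Prime 17) := ⟨by norm_num⟩
  false_by_prime (p := 17) hG h (by norm_num) (by norm_num) (by norm_num) (by decide +kernel)

theorem false_4368 (hG : ¬ IsMulCommutative G) (h : Nat.card G = 4368) : False :=
  haveI : Fact (Nat.Prime 13) := ⟨by norm_num⟩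
  false_by_prime (p := 13) hG h (by norm_num) (by norm_num) (by norm_num) (by decide +kernel)

theorem false_4400 (hG : ¬ IsMulCommutative G) (h : Nat.card G = 4400) : False :=
  haveI : Fact (Nat.Prime 11) := ⟨by norm_num⟩
  false_by_prime (p := 11) hG h (by norm_num) (by norm_num) (by norm_num) (by decide +kernel)

theorem false_4416 (hG : ¬ IsMulCommutative G) (h : Nat.card G = 4416) : False :=
  haveI : Fact (Nat.Prime 23) := ⟨by norm_num⟩
  false_by_prime (p := 23) hG h (by norm_num) (by norm_num) (by norm_num) (by decide +kernel)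

theorem false_4480 (hG : ¬ IsMulCommutative G) (h : Nat.card G = 4480) : False :=
  haveI : Fact (Nat.Prime 7) := ⟨by norm_num⟩
  false_by_prime (p := 7) hG h (by norm_num) (by norm_num) (by norm_num) (by decide +kernel)

theorem false_4512 (hG : ¬ IsMulCommutative G) (h : Nat.card G = 4512) : False :=
  haveI : Fact (Nat.Prime 47) := ⟨by norm_num⟩
  false_by_prime (p := 47) hG h (by norm_num) (by norm_num) (by norm_num) (by decide +kernel)

theorem false_4560 (hG : ¬ IsMulCommutative G) (h : Nat.card G = 4560) : False :=
  haveI : Fact (Nat.Prime 19) := ⟨by norm_num⟩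
  false_by_prime (p := 19) hG h (by norm_num) (by norm_num) (by norm_num) (by decide +kernel)

theorem false_4680 (hG : ¬ IsMulCommutative G) (h : Nat.card G = 4680) : False :=
  haveI : Fact (Nat.Prime 13) := ⟨by norm_num⟩
  false_by_prime (p := 13) hG h (by norm_num) (by norm_num) (by norm_num) (by decide +kernel)

theorem false_4725 (hG : ¬ IsMulCommutative G) (h : Nat.card G = 4725) : False :=
  haveI : Fact (Nat.Prime 7) := ⟨by norm_num⟩
  false_by_prime (p := 7) hG h (by norm_num) (by norm_num) (by norm_num) (by decide +kernel)

theorem false_4752 (hG : ¬ IsMulCommutative G) (h : Nat.card G = 4752) : False :=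
  haveI : Fact (Nat.Prime 11) := ⟨by norm_num⟩
  false_by_prime (p := 11) hG h (by norm_num) (by norm_num) (by norm_num) (by decide +kernel)

theorem false_4760 (hG : ¬ IsMulCommutative G) (h : Nat.card G = 4760) : False :=
  haveI : Fact (Nat.Prime 17) := ⟨by norm_num⟩
  false_by_prime (p := 17) hG h (by norm_num) (by norm_num) (by norm_num) (by decide +kernel)

theorem false_4896 (hG : ¬ IsMulCommutative G) (h : Nat.card G = 4896) : False :=
  haveI : Fact (Nat.Prime 17) := ⟨by norm_num⟩
  false_by_prime (p := 17) hG h (by norm_num) (by norm_num) (by norm_num) (by decide +kernel)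

theorem false_4928 (hG : ¬ IsMulCommutative G) (h : Nat.card G = 4928) : False :=
  haveI : Fact (Nat.Prime 11) := ⟨by norm_num⟩
  false_by_prime (p := 11) hG h (by norm_num) (by norm_num) (by norm_num) (by decide +kernel)

theorem false_5104 (hG : ¬ IsMulCommutative G) (h : Nat.card G = 5104) : False :=
  haveI : Fact (Nat.Prime 29) := ⟨by norm_num⟩
  false_by_prime (p := 29) hG h (by norm_num) (by norm_num) (by norm_num) (by decide +kernel)

theorem false_5148 (hG : ¬ IsMulCommutative G) (h : Nat.card G = 5148) : False :=
  haveI : Fact (Nat.Prime 13) := ⟨by norm_num⟩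
  false_by_prime (p := 13) hG h (by norm_num) (by norm_num) (by norm_num) (by decide +kernel)

theorem false_5200 (hG : ¬ IsMulCommutative G) (h : Nat.card G = 5200) : False :=
  haveI : Fact (Nat.Prime 13) := ⟨by norm_num⟩
  false_by_prime (p := 13) hG h (by norm_num) (by norm_num) (by norm_num) (by decide +kernel)

theorem false_5220 (hG : ¬ IsMulCommutative G) (h : Nat.card G = 5220) : False :=
  haveI : Fact (Nat.Prime 29) := ⟨by norm_num⟩
  false_by_prime (p := 29) hG h (by norm_num) (by norm_num) (by norm_num) (by decide +kernel)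

theorem false_5236 (hG : ¬ IsMulCommutative G) (h : Nat.card G = 5236) : False :=
  haveI : Fact (Nat.Prime 17) := ⟨by norm_num⟩
  false_by_prime (p := 17) hG h (by norm_num) (by norm_num) (by norm_num) (by decide +kernel)

theorem false_5280 (hG : ¬ IsMulCommutative G) (h : Nat.card G = 5280) : False :=
  haveI : Fact (Nat.Prime 11) := ⟨by norm_num⟩
  false_by_prime (p := 11) hG h (by norm_num) (by norm_num) (by norm_num) (by decide +kernel)

theorem false_5320 (hG : ¬ IsMulCommutative G) (h : Nat.card G = 5320) : False :=
  haveI : Fact (Nat.Prime 19) := ⟨by norm_num⟩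
  false_by_prime (p := 19) hG h (by norm_num) (by norm_num) (by norm_num) (by decide +kernel)

theorem false_5376 (hG : ¬ IsMulCommutative G) (h : Nat.card G = 5376) : False :=
  haveI : Fact (Nat.Prime 7) := ⟨by norm_num⟩
  false_by_prime (p := 7) hG h (by norm_num) (by norm_num) (by norm_num) (by decide +kernel)

theorem false_5472 (hG : ¬ IsMulCommutative G) (h : Nat.card G = 5472) : False :=
  haveI : Fact (Nat.Prime 19) := ⟨by norm_num⟩
  false_by_prime (p := 19) hG h (by norm_num) (by norm_num) (by norm_num) (by decide +kernel)

theorem false_5508 (hG : ¬ IsMulCommutative G) (h : Nat.card G = 5508) : False :=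
  haveI : Fact (Nat.Prime 17) := ⟨by norm_num⟩
  false_by_prime (p := 17) hG h (by norm_num) (by norm_num) (by norm_num) (by decide +kernel)

theorem false_5520 (hG : ¬ IsMulCommutative G) (h : Nat.card G = 5520) : False :=
  haveI : Fact (Nat.Prime 23) := ⟨by norm_num⟩
  false_by_prime (p := 23) hG h (by norm_num) (by norm_num) (by norm_num) (by decide +kernel)

theorem false_5544 (hG : ¬ IsMulCommutative G) (h : Nat.card G = 5544) : False :=
  haveI : Fact (Nat.Prime 11) := ⟨by norm_num⟩
  false_by_prime (p := 11) hG h (by norm_num) (by norm_num) (by norm_num) (by decide +kernel)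

theorem false_5600 (hG : ¬ IsMulCommutative G) (h : Nat.card G = 5600) : False :=
  haveI : Fact (Nat.Prime 7) := ⟨by norm_num⟩
  false_by_prime (p := 7) hG h (by norm_num) (by norm_num) (by norm_num) (by decide +kernel)

theorem false_5700 (hG : ¬ IsMulCommutative G) (h : Nat.card G = 5700) : False :=
  haveI : Fact (Nat.Prime 19) := ⟨by norm_num⟩
  false_by_prime (p := 19) hG h (by norm_num) (by norm_num) (by norm_num) (by decide +kernel)

theorem false_5724 (hG : ¬ IsMulCommutative G) (h : Nat.card G = 5724) : False :=
  haveI : Fact (Nat.Prime 53) := ⟨by norm_num⟩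
  false_by_prime (p := 53) hG h (by norm_num) (by norm_num) (by norm_num) (by decide +kernel)

theorem false_5852 (hG : ¬ IsMulCommutative G) (h : Nat.card G = 5852) : False :=
  haveI : Fact (Nat.Prime 19) := ⟨by norm_num⟩
  false_by_prime (p := 19) hG h (by norm_num) (by norm_num) (by norm_num) (by decide +kernel)

theorem false_5940 (hG : ¬ IsMulCommutative G) (h : Nat.card G = 5940) : False :=
  haveI : Fact (Nat.Prime 11) := ⟨by norm_num⟩
  false_by_prime (p := 11) hG h (by norm_num) (by norm_num) (by norm_num) (by decide +kernel)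

theorem false_5952 (hG : ¬ IsMulCommutative G) (h : Nat.card G = 5952) : False :=
  haveI : Fact (Nat.Prime 31) := ⟨by norm_num⟩
  false_by_prime (p := 31) hG h (by norm_num) (by norm_num) (by norm_num) (by decide +kernel)

theorem false_6080 (hG : ¬ IsMulCommutative G) (h : Nat.card G = 6080) : False :=
  haveI : Fact (Nat.Prime 19) := ⟨by norm_num⟩
  false_by_prime (p := 19) hG h (by norm_num) (by norm_num) (by norm_num) (by decide +kernel)

theorem false_6120 (hG : ¬ IsMulCommutative G) (h : Nat.card G = 6120) : False :=
  haveI : Fact (Nat.Prime 17) := ⟨by norm_num⟩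
  false_by_prime (p := 17) hG h (by norm_num) (by norm_num) (by norm_num) (by decide +kernel)

theorem false_6160 (hG : ¬ IsMulCommutative G) (h : Nat.card G = 6160) : False :=
  haveI : Fact (Nat.Prime 11) := ⟨by norm_num⟩
  false_by_prime (p := 11) hG h (by norm_num) (by norm_num) (by norm_num) (by decide +kernel)

end Cfsg.Agent.Lib.Small.OrdRange
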