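/-
Small simple groups: orders eliminated through the rows of a prime, using all the tests.
-/
import Cfsg.Agent.Lib.Small.Master2

set_option autoImplicit false
set_option linter.unusedSectionVars false
set_option linter.unusedVariables false

namespace Cfsg.Agent.Lib.Small.OrdSpecial

open Cfsg.Agent.Lib.Small.Master2

universe u

variable {G : Type u} [Group G] [Finite G] [IsSimpleGroup G]

theorem false_4200 (hG : ¬ IsMulCommutative G) (h : Nat.card G = 4200) : False :=
  haveI : Fact (Nat.Prime 7) := ⟨by norm_num⟩
  false_by_prime2 (p := 7) (two := 3) (dmin := 3) hG h (by norm_num) (by norm_num) (by norm_num)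
    (by norm_num) (by norm_num) (by norm_num) [] (by simp) (by decide +kernel)

theorem false_4536 (hG : ¬ IsMulCommutative G) (h : Nat.card G = 4536) : False :=
  haveI : Fact (Nat.Prime 7) := ⟨by norm_num⟩
  false_by_prime2 (p := 7) (two := 3) (dmin := 3) hG h (by norm_num) (by norm_num) (by norm_num)
    (by norm_num) (by norm_num) (by norm_num) [] (by simp) (by decide +kernel)

theorem false_4800 (hG : ¬ IsMulCommutative G) (h : Nat.card G = 4800) : False :=
  haveI : Fact (Nat.Prime 3) := ⟨by norm_num⟩
  false_by_prime2 (p := 3) (two := 6) (dmin := 3) hG h (by norm_num) (by norm_num) (by norm_num)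
    (by norm_num) (by norm_num) (by norm_num) [] (by simp) (by decide +kernel)

theorem false_4960 (hG : ¬ IsMulCommutative G) (h : Nat.card G = 4960) : False :=
  haveI : Fact (Nat.Prime 31) := ⟨by norm_num⟩
  false_by_prime2 (p := 31) (two := 5) (dmin := 3) hG h (by norm_num) (by norm_num) (by norm_num)
    (by norm_num) (by norm_num) (by norm_num) [] (by simp) (by decide +kernel)

theorem false_5760 (hG : ¬ IsMulCommutative G) (h : Nat.card G = 5760) : False :=
  haveI : Fact (Nat.Prime 5) := ⟨by norm_num⟩
  false_by_prime2 (p := 5) (two := 7) (dmin := 3) hG h (by norm_num) (by norm_num) (by norm_num)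
    (by norm_num) (by norm_num) (by norm_num) [] (by simp) (by decide +kernel)

theorem false_5880 (hG : ¬ IsMulCommutative G) (h : Nat.card G = 5880) : False :=
  haveI : Fact (Nat.Prime 5) := ⟨by norm_num⟩
  false_by_prime2 (p := 5) (two := 3) (dmin := 3) hG h (by norm_num) (by norm_num) (by norm_num)
    (by norm_num) (by norm_num) (by norm_num) [] (by simp) (by decide +kernel)

end Cfsg.Agent.Lib.Small.OrdSpecial
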