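/-
Small simple groups: the orders between 3640 and 6232.
-/
import Cfsg.Agent.Lib.Small.SieveFast
import Cfsg.Agent.Lib.Small.OrdRange
import Cfsg.Agent.Lib.Small.OrdSpecial
import Cfsg.Agent.Lib.Small.Ord4032
import Cfsg.Agent.Lib.Small.Ord4320
import Cfsg.Agent.Lib.Small.Ord5040

set_option autoImplicit false

namespace Cfsg.Agent.Lib.Small.Range3640

open Cfsg.Agent.Lib.Small.SieveFast

universe u

variable {G : Type u} [Group G] [Finite G] [IsSimpleGroup G]

set_option maxHeartbeats 0 in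
theorem key : ∀ n ∈ List.range 2593, n = 0 ∨ (3640 + n) ∈ [4080, 5616, 6048, 6072] ∨
    (3640 + n) ∈ [3648, 3672, 3696, 3744, 3780, 3800, 3840, 3888, 3960, 3968, 4000, 4032, 4160, 4200, 4212, 4224, 4284, 4320, 4368, 4400, 4416, 4480, 4500, 4512, 4536, 4560, 4620, 4680, 4725, 4752, 4760, 4800, 4896, 4928, 4960, 5040, 5104, 5148, 5184, 5200, 5220, 5236, 5280, 5292, 5320, 5376, 5400, 5460, 5472, 5508, 5520, 5544, 5600, 5700, 5724, 5760, 5852, 5880, 5940, 5952, 6000, 6075, 6080, 6120, 6160] ∨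
    sieveFast (3640 + n) = true := by
  decide +kernel

theorem false_of_mem (hG : ¬ IsMulCommutative G) {N : ℕ} (hN : Nat.card G = N)
    (hm : N ∈ [3648, 3672, 3696, 3744, 3780, 3800, 3840, 3888, 3960, 3968, 4000, 4032, 4160, 4200, 4212, 4224, 4284, 4320, 4368, 4400, 4416, 4480, 4500, 4512, 4536, 4560, 4620, 4680, 4725, 4752, 4760, 4800, 4896, 4928, 4960, 5040, 5104, 5148, 5184, 5200, 5220, 5236, 5280, 5292, 5320, 5376, 5400, 5460, 5472, 5508, 5520, 5544, 5600, 5700, 5724, 5760, 5852, 5880, 5940, 5952, 6000, 6075, 6080, 6120, 6160]) : False := by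
  simp only [List.mem_cons, List.not_mem_nil, or_false] at hm
  rcases hm with rfl | rfl | rfl | rfl | rfl | rfl | rfl | rfl | rfl | rfl | rfl | rfl | rfl | rfl | rfl | rfl | rfl | rfl | rfl | rfl | rfl | rfl | rfl | rfl | rfl | rfl | rfl | rfl | rfl | rfl | rfl | rfl | rfl | rfl | rfl | rfl | rfl | rfl | rfl | rfl | rfl | rfl | rfl | rfl | rfl | rfl | rfl | rfl | rfl | rfl | rfl | rfl | rfl | rfl | rfl | rfl | rfl | rfl | rfl | rfl | rfl | rfl | rfl | rfl | rfl
  · exact Cfsg.Agent.Lib.Small.OrdRange.false_3648 hG hN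
  · exact Cfsg.Agent.Lib.Small.OrdRange.false_3672 hG hN
  · exact Cfsg.Agent.Lib.Small.OrdRange.false_3696 hG hN
  · exact Cfsg.Agent.Lib.Small.OrdRange.false_3744 hG hN
  · exact Cfsg.Agent.Lib.Small.OrdLocal2.false_3780 hG hN
  · exact Cfsg.Agent.Lib.Small.OrdRange.false_3800 hG hN
  · exact Cfsg.Agent.Lib.Small.OrdRange.false_3840 hG hN
  · exact Cfsg.Agent.Lib.Small.OrdLocal2.false_3888 hG hN
  · exact Cfsg.Agent.Lib.Small.OrdRange.false_3960 hG hN
  · exact Cfsg.Agent.Lib.Small.OrdLocal2.false_3968 hG hN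
  · exact Cfsg.Agent.Lib.Small.OrdLocal2.false_4000 hG hN
  · exact Cfsg.Agent.Lib.Small.Ord4032.false_4032 hG hN
  · exact Cfsg.Agent.Lib.Small.OrdRange.false_4160 hG hN
  · exact Cfsg.Agent.Lib.Small.OrdSpecial.false_4200 hG hN
  · exact Cfsg.Agent.Lib.Small.OrdRange.false_4212 hG hN
  · exact Cfsg.Agent.Lib.Small.OrdRange.false_4224 hG hN
  · exact Cfsg.Agent.Lib.Small.OrdRange.false_4284 hG hN
  · exact Cfsg.Agent.Lib.Small.Ord4320.false_4320 hG hN
  · exact Cfsg.Agent.Lib.Small.OrdRange.false_4368 hG hN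
  · exact Cfsg.Agent.Lib.Small.OrdRange.false_4400 hG hN
  · exact Cfsg.Agent.Lib.Small.OrdRange.false_4416 hG hN
  · exact Cfsg.Agent.Lib.Small.OrdRange.false_4480 hG hN
  · exact Cfsg.Agent.Lib.Small.OrdLocal2.false_4500 hG hN
  · exact Cfsg.Agent.Lib.Small.OrdRange.false_4512 hG hN
  · exact Cfsg.Agent.Lib.Small.OrdSpecial.false_4536 hG hN
  · exact Cfsg.Agent.Lib.Small.OrdRange.false_4560 hG hN
  · exact Cfsg.Agent.Lib.Small.OrdLocal2.false_4620 hG hN
  · exact Cfsg.Agent.Lib.Small.OrdRange.false_4680 hG hN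
  · exact Cfsg.Agent.Lib.Small.OrdRange.false_4725 hG hN
  · exact Cfsg.Agent.Lib.Small.OrdRange.false_4752 hG hN
  · exact Cfsg.Agent.Lib.Small.OrdRange.false_4760 hG hN
  · exact Cfsg.Agent.Lib.Small.OrdSpecial.false_4800 hG hN
  · exact Cfsg.Agent.Lib.Small.OrdRange.false_4896 hG hN
  · exact Cfsg.Agent.Lib.Small.OrdRange.false_4928 hG hN
  · exact Cfsg.Agent.Lib.Small.OrdSpecial.false_4960 hG hN
  · exact Cfsg.Agent.Lib.Small.Ord5040.false_5040 hG hN
  · exact Cfsg.Agent.Lib.Small.OrdRange.false_5104 hG hN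
  · exact Cfsg.Agent.Lib.Small.OrdRange.false_5148 hG hN
  · exact Cfsg.Agent.Lib.Small.OrdLocal2.false_5184 hG hN
  · exact Cfsg.Agent.Lib.Small.OrdRange.false_5200 hG hN
  · exact Cfsg.Agent.Lib.Small.OrdRange.false_5220 hG hN
  · exact Cfsg.Agent.Lib.Small.OrdRange.false_5236 hG hN
  · exact Cfsg.Agent.Lib.Small.OrdRange.false_5280 hG hN
  · exact Cfsg.Agent.Lib.Small.OrdLocal2.false_5292 hG hN
  · exact Cfsg.Agent.Lib.Small.OrdRange.false_5320 hG hN
  · exact Cfsg.Agent.Lib.Small.OrdRange.false_5376 hG hN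
  · exact Cfsg.Agent.Lib.Small.Ord5400.false_5400 hG hN
  · exact Cfsg.Agent.Lib.Small.OrdLocal2.false_5460 hG hN
  · exact Cfsg.Agent.Lib.Small.OrdRange.false_5472 hG hN
  · exact Cfsg.Agent.Lib.Small.OrdRange.false_5508 hG hN
  · exact Cfsg.Agent.Lib.Small.OrdRange.false_5520 hG hN
  · exact Cfsg.Agent.Lib.Small.OrdRange.false_5544 hG hN
  · exact Cfsg.Agent.Lib.Small.OrdRange.false_5600 hG hN
  · exact Cfsg.Agent.Lib.Small.OrdRange.false_5700 hG hN
  · exact Cfsg.Agent.Lib.Small.OrdRange.false_5724 hG hN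
  · exact Cfsg.Agent.Lib.Small.OrdSpecial.false_5760 hG hN
  · exact Cfsg.Agent.Lib.Small.OrdRange.false_5852 hG hN
  · exact Cfsg.Agent.Lib.Small.OrdSpecial.false_5880 hG hN
  · exact Cfsg.Agent.Lib.Small.OrdRange.false_5940 hG hN
  · exact Cfsg.Agent.Lib.Small.OrdRange.false_5952 hG hN
  · exact Cfsg.Agent.Lib.Small.OrdLocal2.false_6000 hG hN
  · exact Cfsg.Agent.Lib.Small.OrdLocal2.false_6075 hG hN
  · exact Cfsg.Agent.Lib.Small.OrdRange.false_6080 hG hN
  · exact Cfsg.Agent.Lib.Small.OrdRange.false_6120 hG hN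
  · exact Cfsg.Agent.Lib.Small.OrdRange.false_6160 hG hN

/-- A non-abelian finite simple group of order greater than 3640 and at most 6232 has order 4080, 5616, 6048 or 6072. -/
theorem main (hG : ¬ IsMulCommutative G) (h1 : 3640 < Nat.card G) (h2 : Nat.card G ≤ 6232) :
    Nat.card G = 4080 ∨ Nat.card G = 5616 ∨ Nat.card G = 6048 ∨ Nat.card G = 6072 := by
  obtain ⟨n, hn⟩ : ∃ n, Nat.card G = 3640 + n := ⟨Nat.card G - 3640, by omega⟩
  rcases key n (List.mem_range.mpr (by omega)) with h0 | hv | hsp | hs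
  · omega
  · rw [hn]
    simpa using hv
  · exact (false_of_mem hG hn hsp).elim
  · exact (false_of_sieveFast hG hn hs).elim

end Cfsg.Agent.Lib.Small.Range3640
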